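import Mathlib.Data.Complex.Basic
import Mathlib.Tactic.FieldSimp
import Mathlib.Tactic.LinearCombination
import Mathlib.Tactic.Ring

set_option autoImplicit false

/-!
The arithmetic of the exceptional constituents: three dimensional quadratic forms.
-/

namespace CfsgLib.A9Local

/-- The form attached to the weights `m₁, m₂, m₃` on vectors summing to zero. -/
noncomputable def qf (m x y : ℂ × ℂ × ℂ) : ℂ :=
  x.1 * y.1 / m.1 + x.2.1 * y.2.1 / m.2.1 + x.2.2 * y.2.2 / m.2.2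
    - (x.1 + x.2.1 + x.2.2) * (y.1 + y.2.1 + y.2.2) / (m.1 + m.2.1 + m.2.2)

theorem qf_test {m1 m2 m3 x1 x2 x3 y1 y2 y3 : ℂ} (h1 : m1 ≠ 0) (h2 : m2 ≠ 0) (h3 : m3 ≠ 0)
    (hM : m1 + m2 + m3 ≠ 0) {A B C : ℂ}
    (hA : qf (m1, m2, m3) (x1, x2, x3) (x1, x2, x3) = A) (hB : qf (m1, m2, m3) (x1, x2, x3) (y1, y2, y3) = B)
    (hC : qf (m1, m2, m3) (y1, y2, y3) (y1, y2, y3) = C) :
    (m3 * x1 - m1 * x3) ^ 2 * C - 2 * (m3 * x1 - m1 * x3) * (m3 * y1 - m1 * y3) * B
        + (m3 * y1 - m1 * y3) ^ 2 * A = (m3 ^ 2 * m1 + m1 ^ 2 * m3) * (A * C - B ^ 2) := by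
  subst hA hB hC
  simp only [qf]
  field_simp
  ring

theorem qf_test_cross {m1 m2 m3 x1 x2 x3 y1 y2 y3 : ℂ} (h1 : m1 ≠ 0) (h2 : m2 ≠ 0) (h3 : m3 ≠ 0)
    (hM : m1 + m2 + m3 ≠ 0) {A B C : ℂ}
    (hA : qf (m1, m2, m3) (x1, x2, x3) (x1, x2, x3) = A) (hB : qf (m1, m2, m3) (x1, x2, x3) (y1, y2, y3) = B)
    (hC : qf (m1, m2, m3) (y1, y2, y3) (y1, y2, y3) = C) :
    (m3 * x1 - m1 * x3) * (m3 * x2 - m2 * x3) * C
      - ((m3 * x1 - m1 * x3) * (m3 * y2 - m2 * y3) + (m3 * x2 - m2 * x3) * (m3 * y1 - m1 * y3)) * B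
      + (m3 * y1 - m1 * y3) * (m3 * y2 - m2 * y3) * A = (m1 * m2 * m3) * (A * C - B ^ 2) := by
  subst hA hB hC
  simp only [qf]
  field_simp
  ring

theorem qf_test₂ {m1 m2 m3 x1 x2 x3 y1 y2 y3 : ℂ} (h1 : m1 ≠ 0) (h2 : m2 ≠ 0) (h3 : m3 ≠ 0)
    (hM : m1 + m2 + m3 ≠ 0) {A B C : ℂ}
    (hA : qf (m1, m2, m3) (x1, x2, x3) (x1, x2, x3) = A) (hB : qf (m1, m2, m3) (x1, x2, x3) (y1, y2, y3) = B)
    (hC : qf (m1, m2, m3) (y1, y2, y3) (y1, y2, y3) = C) :
    (m3 * x2 - m2 * x3) ^ 2 * C - 2 * (m3 * x2 - m2 * x3) * (m3 * y2 - m2 * y3) * B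
        + (m3 * y2 - m2 * y3) ^ 2 * A = (m3 ^ 2 * m2 + m2 ^ 2 * m3) * (A * C - B ^ 2) := by
  subst hA hB hC
  simp only [qf]
  field_simp
  ring

/-- The values forced by the first two functions: one triple is proportional to the degrees. -/
theorem proportional {m1 m2 x1 x2 : ℂ} (h1 : m1 ≠ 0) (h2 : m2 ≠ 0) (hM : m1 + m2 ≠ 0)
    (h : x1 ^ 2 / m1 + x2 ^ 2 / m2 - (x1 + x2) ^ 2 / (m1 + m2) = 0) : x1 * m2 = x2 * m1 := by
  have e : (x1 * m2 - x2 * m1) ^ 2 = 0 := by
    field_simp at h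
    linear_combination h
  exact sub_eq_zero.mp (sq_eq_zero_iff.mp e)

variable {a b c U V S t : ℂ}

/-- The squares coming from the two short functions. -/
structure Short (a b c S t : ℂ) : Prop where
  a0 : a ≠ 0
  b0 : b ≠ 0
  c0 : c ≠ 0
  f0 : b + c ≠ 0
  W0 : a + b + c ≠ 0
  tt : t ^ 2 * (b + c) = b * c
  ss : S ^ 2 * (b + c) = a * (a + b + c)

/-- The equations of the first function of norm four. -/
structure First (a b U V S t : ℂ) : Prop where
  M0 : 1 + a + b ≠ 0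
  e11 : qf (1, a, b) (U, S, 0) (U, S, 0) = 1
  e12 : qf (1, a, b) (U, S, 0) (V, 0, t) = 1
  e22 : qf (1, a, b) (V, 0, t) (V, 0, t) = 2

theorem First.test (h : First a b U V S t) (ha : a ≠ 0) (hb : b ≠ 0) :
    2 * b ^ 2 * S ^ 2 + 2 * a * b * S * t + a ^ 2 * t ^ 2 = a * b * (a + b) := by
  have := qf_test₂ one_ne_zero ha hb h.M0 h.e11 h.e12 h.e22
  linear_combination this

theorem eq_of_two (hs : Short a b c S t) (h : First a b U V S t) {p Q R : ℂ} (hp : p ≠ 0) (hG : p + a + c ≠ 0)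
    (f11 : qf (p, a, c) (Q, S, 0) (Q, S, 0) = 1) (f12 : qf (p, a, c) (Q, S, 0) (R, 0, -t) = -1)
    (f22 : qf (p, a, c) (R, 0, -t) (R, 0, -t) = 2) : b = c := by
  have e1 := h.test hs.a0 hs.b0
  have e2 := qf_test₂ hp hs.a0 hs.c0 hG f11 f12 f22
  have e3 : (b - c) * (b * c * a * (a + b + c)) = 0 := by
    linear_combination (b + c) * (c * e1 - b * e2) - 2 * b * c * (b - c) * hs.ss + a ^ 2 * (b - c) * hs.tt
  exact sub_eq_zero.mp
    ((mul_eq_zero.mp e3).resolve_right (by simp [hs.a0, hs.b0, hs.c0, hs.W0]))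

theorem no_shared_pair (hs : Short a b c S t)
    (hM : 1 + 2 * a + 2 * b ≠ 0)
    (d11 : qf (1, a, b) (U, S, 0) (U, S, 0) = 1) (d12 : qf (1, a, b) (U, S, 0) (V, 0, t) = 1)
    (d22 : qf (1, a, b) (V, 0, t) (V, 0, t) = 2) (hD : 1 + a + b ≠ 0)
    (f11 : S ^ 2 / a + (U + S) ^ 2 / (1 + a + b) - (U + 2 * S) ^ 2 / (1 + 2 * a + 2 * b) = 1)
    (f12 : (U + S) * (V + t) / (1 + a + b) - (U + 2 * S) * (V + 2 * t) / (1 + 2 * a + 2 * b) = -1)
    (f22 : t ^ 2 / b + (V + t) ^ 2 / (1 + a + b) - (V + 2 * t) ^ 2 / (1 + 2 * a + 2 * b) = 2) : False := by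
  have ha := hs.a0
  have hb := hs.b0
  simp only [qf] at d11 d12 d22
  have e11 : qf (1, 2 * a, 2 * b) (U, 2 * S, 0) (U, 2 * S, 0) = 2 := by
    simp only [qf]
    linear_combination d11 + f11
  have e12 : qf (1, 2 * a, 2 * b) (U, 2 * S, 0) (V, 0, 2 * t) = 0 := by
    simp only [qf]
    linear_combination d12 + f12
  have e22 : qf (1, 2 * a, 2 * b) (V, 0, 2 * t) (V, 0, 2 * t) = 4 := by
    simp only [qf]
    linear_combination d22 + f22
  have e := qf_test₂ one_ne_zero (mul_ne_zero two_ne_zero ha) (mul_ne_zero two_ne_zero hb) hM e11 e12 e22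
  have : a * b * (a * c) = 0 := by
    linear_combination -(b + c) / 32 * e + 2 * b ^ 2 * hs.ss + a ^ 2 * hs.tt
  simp [hs.a0, hs.b0, hs.c0] at this

theorem no_negative_pair (hs : Short a b c S t) (hbc : b = c) (hM : 1 - b + a ≠ 0)
    (p11 : qf (1, -b, a) (U, 0, S) (U, 0, S) = 1) (p12 : qf (1, -b, a) (U, 0, S) (V, -t, 0) = 0)
    (p22 : qf (1, -b, a) (V, -t, 0) (V, -t, 0) = 3) : False := by
  have e := qf_test₂ one_ne_zero (neg_ne_zero.mpr hs.b0) hs.a0 (by rwa [← sub_eq_add_neg]) p11 p12 p22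
  subst hbc
  have : a ^ 2 * b * 5 = 0 := by
    have h1 := hs.ss
    have h2 := hs.tt
    apply mul_left_cancel₀ hs.b0
    linear_combination e * b - (3 / 2 : ℂ) * b ^ 2 * h1 - (1 / 2 : ℂ) * a ^ 2 * h2
  simp [hs.a0, hs.b0] at this

/-- The degree. -/
theorem degree_two (hs : Short a b c S t) (hbc : b = c) (h : First a b U V S t)
    {p Q R : ℂ} (hp : p ≠ 0) (hM : 1 + p + (b + c) ≠ 0)
    (p11 : qf (1, p, b + c) (U, Q, 0) (U, Q, 0) = 1) (p12 : qf (1, p, b + c) (U, Q, 0) (V, R, 0) = 0)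
    (p22 : qf (1, p, b + c) (V, R, 0) (V, R, 0) = 3) :
    3 * a = 2 ∨ (a = 2 ∧ S = 2 * U) := by
  subst hbc
  have hb := hs.b0
  have ha := hs.a0
  have hS : S ^ 2 * (2 * b) = a * (a + 2 * b) := by linear_combination hs.ss
  have ht2 : 2 * t ^ 2 = b := by
    apply mul_left_cancel₀ hb
    linear_combination hs.tt
  have ht : t ^ 2 = b / 2 := by linear_combination ht2 / 2
  have hSt : S * t = -(a + 2 * b) / 4 := by
    have e := h.test ha hb
    apply mul_left_cancel₀ (show 2 * a * b ≠ 0 by simp [ha, hb])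
    linear_combination e - b * hS - a ^ 2 / 2 * ht2
  have hab : 2 * b = 3 * a := by
    have e : (a + 2 * b) * b * (a + 2 * b - 4 * a) = 0 := by
      have h1 : (S ^ 2 * (2 * b)) * (2 * t ^ 2) = a * (a + 2 * b) * b := by rw [hS, ht2]
      rw [show (S ^ 2 * (2 * b)) * (2 * t ^ 2) = 4 * b * (S * t) ^ 2 by ring, hSt] at h1
      linear_combination 4 * h1
    have hW : a + 2 * b ≠ 0 := by
      have := hs.W0
      rwa [add_assoc, ← two_mul] at this
    have := (mul_eq_zero.mp e).resolve_left (mul_ne_zero hW hb)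
    linear_combination this
  have hb' : b = 3 * a / 2 := by linear_combination hab / 2
  subst hb'
  have hSt' : S * t = -a := by rw [hSt]; ring
  have ht0 : t ≠ 0 := fun e => by rw [e, mul_zero] at hSt'; exact ha (by linear_combination hSt')
  have hS43 : S = -4 / 3 * t := by
    apply mul_right_cancel₀ ht0
    rw [hSt', mul_assoc, ← pow_two, ht]; ring
  have e1 := qf_test one_ne_zero ha hb h.M0 h.e11 h.e12 h.e22
  have e2 := qf_test_cross one_ne_zero ha hb h.M0 h.e11 h.e12 h.e22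
  have e3 := qf_test one_ne_zero hp hs.f0 hM p11 p12 p22
  have hβ : V * t = 3 * (U * t) + 3 / 2 := by
    rw [hS43] at e2
    apply mul_left_cancel₀ (show a * a ≠ 0 by simp [ha])
    linear_combination (2 / 3 : ℂ) * e2 + (2 / 3 : ℂ) * a * ht
  have hP : 16 * (U * t) ^ 2 + 12 * (U * t) + 2 = 3 * a := by
    have : (3 * a) ^ 2 * (3 * (U * t) ^ 2 + (V * t) ^ 2) = 3 * (3 * a) * (3 * a + 1) * t ^ 2 := by
      linear_combination t ^ 2 * e3
    rw [hβ, ht] at this
    apply mul_left_cancel₀ (show a * a ≠ 0 by simp [ha])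
    linear_combination (4 / 27 : ℂ) * this
  have hD : 20 * (U * t) ^ 2 + 16 * (U * t) + 2 = 3 * a := by
    have : 2 * (3 * a / 2) ^ 2 * (U * t) ^ 2 - 2 * (3 * a / 2) * (U * t) * ((3 * a / 2) * (V * t) - t ^ 2)
        + ((3 * a / 2) * (V * t) - t ^ 2) ^ 2 = (3 * a / 2) * (3 * a / 2 + 1) * t ^ 2 := by
      linear_combination t ^ 2 * e1
    rw [hβ, ht] at this
    apply mul_left_cancel₀ (show a * a ≠ 0 by simp [ha])
    linear_combination (16 / 9 : ℂ) * this
  have e : (U * t) * (U * t + 1) = 0 := by linear_combination (hD - hP) / 4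
  rcases mul_eq_zero.mp e with e | e
  · left; rw [e] at hD; linear_combination -hD
  · right
    have hU : U * t = -1 := by linear_combination e
    rw [hU] at hD
    have ha2 : a = 2 := by linear_combination -hD / 3
    refine ⟨ha2, mul_right_cancel₀ ht0 ?_⟩
    rw [mul_assoc, hU, hSt', ha2]; norm_num

end CfsgLib.A9Local

namespace CfsgLib.A9Local

/-- The form does not see multiples of the weights. -/
theorem qf_shift {m1 m2 m3 : ℂ} (h1 : m1 ≠ 0) (h2 : m2 ≠ 0) (h3 : m3 ≠ 0) (hM : m1 + m2 + m3 ≠ 0)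
    (x1 x2 x3 y1 y2 y3 l n : ℂ) :
    qf (m1, m2, m3) (x1 - l * m1, x2 - l * m2, x3 - l * m3) (y1 - n * m1, y2 - n * m2, y3 - n * m3) =
      qf (m1, m2, m3) (x1, x2, x3) (y1, y2, y3) := by
  simp only [qf]
  field_simp
  ring

/-- Four constituents with vanishing sums give the form. -/
theorem qf_of_four {m1 m2 m3 m4 x1 x2 x3 x4 y1 y2 y3 y4 : ℂ} (hm : m1 + m2 + m3 + m4 = 0)
    (hx : x1 + x2 + x3 + x4 = 0) (hy : y1 + y2 + y3 + y4 = 0) :
    x1 * y1 / m1 + x2 * y2 / m2 + x3 * y3 / m3 + x4 * y4 / m4 = qf (m1, m2, m3) (x1, x2, x3) (y1, y2, y3) := by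
  have e1 : m4 = -(m1 + m2 + m3) := by linear_combination hm
  have e2 : x4 = -(x1 + x2 + x3) := by linear_combination hx
  have e3 : y4 = -(y1 + y2 + y3) := by linear_combination hy
  subst e1 e2 e3
  simp only [qf, neg_mul_neg, div_neg]
  ring

variable {a b c U V S t : ℂ}

/-- A pair of equal constituents in the first function of norm four. -/
theorem no_equal_pair_first {b v U V S t : ℂ} (hb : b ≠ 0) (hv : v ≠ 0) (hm : 1 + b + 2 * v = 0)
    (hx : U + 2 * S = 0) (hy : V + t = 0) (e11 : U * U / 1 + 0 * 0 / b + S * S / v + S * S / v = 1)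
    (e12 : U * V / 1 + 0 * t / b + S * 0 / v + S * 0 / v = 1)
    (e22 : V * V / 1 + t * t / b + 0 * 0 / v + 0 * 0 / v = 2) : False := by
  have hS : S = -U / 2 := by linear_combination hx / 2
  have ht : t = -V := by linear_combination hy
  subst hS ht
  simp only [zero_mul, mul_zero, zero_div, add_zero, div_one] at e11 e12 e22
  have hb1 : 1 + b ≠ 0 := fun e => hv (by linear_combination (hm - e) / 2)
  have k1 : U ^ 2 * b = 1 + b := by
    apply mul_left_cancel₀ (mul_ne_zero two_ne_zero hv)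
    field_simp at e11
    linear_combination 2 * v * (-e11 / 2) + 2 * v * (U ^ 2 - 1) * hm
  have k3 : V ^ 2 * (1 + b) = 2 * b := by
    field_simp at e22
    linear_combination e22
  have : b * (1 + b) = 0 := by
    linear_combination -V ^ 2 * (1 + b) * k1 - (1 + b) * k3 + b * (1 + b) * (U * V + 1) * e12
  simp [hb, hb1] at this

/-- A pair of equal constituents in the second function of norm four. -/
theorem no_equal_pair_second {y v x S t : ℂ} (hy : y ≠ 0) (hv : v ≠ 0) (hx : x ≠ 0) (hm : y + 2 * v + x = 0)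
    (e11 : 0 * 0 / y + S * S / v + S * S / v + (-2 * S) * (-2 * S) / x = 1)
    (e12 : 0 * t / y + S * 0 / v + S * 0 / v + (-2 * S) * (-t) / x = -1)
    (e22 : t * t / y + 0 * 0 / v + 0 * 0 / v + (-t) * (-t) / x = 2) : False := by
  simp only [zero_mul, mul_zero, zero_div, add_zero, zero_add] at e11 e12 e22
  have k1 : -2 * (S ^ 2 * y) = v * x := by
    field_simp at e11
    linear_combination e11 - 2 * S ^ 2 * hm
  have k2 : 2 * S * t = -x := by
    field_simp at e12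
    linear_combination e12
  have k3 : t ^ 2 * (x + y) = 2 * y * x := by
    field_simp at e22
    linear_combination e22
  have : v * y * (x * x) = 0 := by
    linear_combination -(t ^ 2 * (x + y)) * k1 - v * x * k3 - y * (x + y) / 2 * (2 * S * t - x) * k2 - x ^ 2 * y / 2 * hm
  simp [hy, hv, hx] at this

/-- A pair of equal constituents in the third function of norm four. -/
theorem no_equal_pair_third {v U V S t y : ℂ} (hv : v ≠ 0) (hy : y ≠ 0) (hm : 1 + y + 2 * v = 0)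
    (hx : U + 2 * S = 0) (hyy : V + t = 0) (e11 : U * U / 1 + 0 * 0 / y + S * S / v + S * S / v = 1)
    (e12 : U * V / 1 + 0 * t / y + S * 0 / v + S * 0 / v = 0)
    (e22 : V * V / 1 + t * t / y + 0 * 0 / v + 0 * 0 / v = 3) : False := by
  have hS : S = -U / 2 := by linear_combination hx / 2
  have ht : t = -V := by linear_combination hyy
  subst hS ht
  simp only [zero_mul, mul_zero, zero_div, add_zero, div_one] at e11 e12 e22
  rcases mul_eq_zero.mp e12 with e | e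
  · simp [e] at e11
  · simp [e] at e22

end CfsgLib.A9Local
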