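import Cfsg.Agent.Lib.A9Local.CheckValues
import Cfsg.Agent.Lib.CharTheory.Induced
import Cfsg.Agent.Lib.CharTheory.Irr
import Cfsg.Agent.Lib.CharTheory.Basic
import Mathlib.Analysis.Real.Sqrt

set_option autoImplicit false

/-!
The six class functions of the model are generalized characters: they are combinations of functions
induced by linear characters.
-/

namespace CfsgLib.A9Local

open Cfsg CfsgLib.CharTheory
open scoped ComplexConjugate

/-- An induced function by a transversal. -/
theorem indFun_transversal {H : Type*} [Group H] [Fintype H] (K : Subgroup H) {f : K → ℂ}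
    (hf : IsClassFunction K f) {ι : Type*} [Fintype ι] (T : ι → H)
    (hT : ∀ y : H, ∃! i, (T i)⁻¹ * y ∈ K) (h : H) :
    indFun K f h = ∑ i, extendByZero K f ((T i)⁻¹ * h * T i) := by
  classical
  have hinv : ∀ (k : K) (z : H), extendByZero K f ((k : H)⁻¹ * z * k) = extendByZero K f z := by
    intro k z
    by_cases hz : z ∈ K
    · rw [extendByZero_of_mem _ _ (mul_mem (mul_mem (inv_mem k.2) hz) k.2), extendByZero_of_mem _ _ hz]
      have := hf ⟨z, hz⟩ k⁻¹
      rw [inv_inv] at this
      exact this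
    · rw [extendByZero_of_not_mem _ _ hz, extendByZero_of_not_mem _ _ fun hc => hz ?_]
      have := mul_mem (mul_mem k.2 hc) (inv_mem k.2)
      simpa [mul_assoc] using this
  have hb : Function.Bijective (fun p : ι × K => T p.1 * (p.2 : H)) := by
    constructor
    · rintro ⟨i, k⟩ ⟨j, l⟩ e
      have e' : T i * (k : H) = T j * (l : H) := e
      obtain rfl : i = j := (hT (T i * k)).unique
        (by rw [inv_mul_cancel_left]; exact k.2) (by rw [e', inv_mul_cancel_left]; exact l.2)
      rw [mul_right_inj] at e'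
      rw [Subtype.ext e']
    · intro y
      obtain ⟨i, hi, -⟩ := hT y
      exact ⟨⟨i, ⟨_, hi⟩⟩, mul_inv_cancel_left _ _⟩
  simp only [indFun]
  rw [← (Equiv.ofBijective _ hb).sum_comp, Fintype.sum_prod_type, Finset.mul_sum]
  refine Finset.sum_congr rfl fun i _ => ?_
  have : ∀ k : K, extendByZero K f ((T i * (k : H))⁻¹ * h * (T i * k)) =
      extendByZero K f ((T i)⁻¹ * h * T i) := fun k => by
    rw [← hinv k ((T i)⁻¹ * h * T i)]
    congr 1
    group
  simp only [Equiv.ofBijective_apply, this, Finset.sum_const, Finset.card_univ, nsmul_eq_mul,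
    ← Nat.card_eq_fintype_card]
  rw [← mul_assoc, inv_mul_cancel₀ (Nat.cast_ne_zero.mpr Nat.card_pos.ne'), one_mul]

/-- The rotations of the subgroup of a monomial character. -/
def monoList (i : Fin 11) : List (Fin 24) := (monoData i).1

/-- The exponent on the translations. -/
def wDot (i : Fin 11) (v : Vec) : ZMod 12 :=
  4 * (((monoData i).2.1.1 * v.1 + (monoData i).2.1.2.1 * v.2.1 + (monoData i).2.1.2.2 * v.2.2 : ZMod 3).val : ZMod 12)

/-- The exponent on the rotations. -/
def kExp (i : Fin 11) (g : Fin 24) : ZMod 12 := (monoData i).2.2.1.getD g.1 0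

/-- The exponent of a linear character. -/
def eExp (i : Fin 11) (h : HM) : ZMod 12 := wDot i h.v + kExp i h.g

theorem wDot_add : ∀ i : Fin 11, ∀ v w : Vec, wDot i (v + w) = wDot i v + wDot i w := by decide +kernel

theorem wDot_act : ∀ i : Fin 11, ∀ g ∈ monoList i, ∀ v : Vec, wDot i (act g v) = wDot i v := by decide +kernel

theorem monoList_spec : ∀ i : Fin 11, (0 ∈ monoList i ∧ kExp i 0 = 0) ∧ ∀ g ∈ monoList i, rInv g ∈ monoList i ∧
    ∀ h ∈ monoList i, rMul g h ∈ monoList i ∧ kExp i (rMul g h) = kExp i g + kExp i h := by decide +kernel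

theorem monoList_trans : ∀ i : Fin 11, ∀ y : Fin 24,
    (Finset.univ.filter fun x : Fin 24 => x ∈ (monoData i).2.2.2 ∧ rMul (rInv x) y ∈ monoList i).card = 1 := by
  decide +kernel

/-- The subgroup of a monomial character. -/
def monoSub (i : Fin 11) : Subgroup HM where
  carrier := {h | h.g ∈ monoList i}
  mul_mem' {a b} ha hb := (((monoList_spec i).2 a.g ha).2 b.g hb).1
  one_mem' := (monoList_spec i).1.1
  inv_mem' {a} ha := ((monoList_spec i).2 a.g ha).1

instance (i : Fin 11) : DecidablePred (· ∈ monoSub i) := fun h =>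
  decidable_of_iff (h.g ∈ monoList i) Iff.rfl

theorem eExp_mul (i : Fin 11) {a b : HM} (ha : a ∈ monoSub i) (hb : b ∈ monoSub i) :
    eExp i (a * b) = eExp i a + eExp i b := by
  simp only [eExp, HM.mul_def, wDot_add, wDot_act i a.g ha, (((monoList_spec i).2 a.g ha).2 b.g hb).2]
  ring

/-- A primitive twelfth root of unity. -/
noncomputable def zeta : ℂ := ((Real.sqrt 3 : ℝ) + Complex.I) / 2

/-- The square root of three. -/
noncomputable def s3 : ℂ := ((Real.sqrt 3 : ℝ) : ℂ)

theorem s3_sq : s3 ^ 2 = 3 := by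
  rw [s3, ← Complex.ofReal_pow, Real.sq_sqrt (by norm_num)]
  norm_num

/-- The value of a table entry. -/
noncomputable def quad (p : ℤ × ℤ × ℤ × ℤ) : ℂ :=
  ((p.1 : ℂ) + p.2.1 * s3 + (p.2.2.1 + p.2.2.2 * s3) * Complex.I) / 2

theorem zeta_pow : ∀ e : ℕ, e < 12 → zeta ^ e = quad (zetaTable.getD e 0) ∧ zeta ^ 12 = 1 := by
  have hs := s3_sq
  have hI := Complex.I_sq
  have hz : zeta = (s3 + Complex.I) / 2 := rfl
  have h1 : zeta ^ 2 = quad (zetaTable.getD 2 0) := by
    simp only [quad, zetaTable, List.getD_cons_succ, List.getD_cons_zero]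
    rw [hz]; push_cast; linear_combination (hs + hI) / 4
  have h3 : zeta ^ 3 = Complex.I := by
    rw [pow_succ, h1]
    simp only [quad, zetaTable, List.getD_cons_succ, List.getD_cons_zero]
    rw [hz]; push_cast
    linear_combination Complex.I / 4 * hs + s3 / 4 * hI
  have h6 : zeta ^ 6 = -1 := by rw [show 6 = 3 * 2 from rfl, pow_mul, h3, hI]
  have h12 : zeta ^ 12 = 1 := by rw [show 12 = 6 * 2 from rfl, pow_mul, h6]; norm_num
  intro e he
  refine ⟨?_, h12⟩
  interval_cases e <;> simp only [quad, zetaTable, List.getD_cons_succ, List.getD_cons_zero] <;> push_cast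
  · norm_num
  · rw [pow_one, hz]; ring
  · rw [h1]; simp only [quad, zetaTable, List.getD_cons_succ, List.getD_cons_zero]; push_cast; ring
  · rw [h3]; ring
  · rw [pow_succ, h3, hz]; linear_combination hI / 2
  · rw [show zeta ^ 5 = zeta ^ 3 * zeta ^ 2 by ring, h3, h1]
    simp only [quad, zetaTable, List.getD_cons_succ, List.getD_cons_zero]; push_cast
    linear_combination s3 / 2 * hI
  · rw [h6]; ring
  · rw [pow_succ, h6, hz]; ring
  · rw [show zeta ^ 8 = zeta ^ 6 * zeta ^ 2 by ring, h6, h1]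
    simp only [quad, zetaTable, List.getD_cons_succ, List.getD_cons_zero]; push_cast; ring
  · rw [show zeta ^ 9 = zeta ^ 6 * zeta ^ 3 by ring, h6, h3]; ring
  · rw [show zeta ^ 10 = zeta ^ 6 * (zeta ^ 3 * zeta) by ring, h6, h3, hz]; linear_combination -hI / 2
  · rw [show zeta ^ 11 = zeta ^ 6 * (zeta ^ 3 * zeta ^ 2) by ring, h6, h3, h1]
    simp only [quad, zetaTable, List.getD_cons_succ, List.getD_cons_zero]; push_cast
    linear_combination -(s3 / 2) * hI

theorem zeta_twelve : zeta ^ 12 = 1 := (zeta_pow 0 (by norm_num)).2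

/-- The root of unity as a unit. -/
noncomputable def zetaU : ℂˣ := Units.mkOfMulEqOne zeta (zeta ^ 11) (by rw [← pow_succ', zeta_twelve])

theorem zetaU_twelve : zetaU ^ 12 = 1 := Units.ext (by simp [zetaU, zeta_twelve])

/-- A linear character. -/
noncomputable def monoLin (i : Fin 11) : monoSub i →* ℂˣ where
  toFun h := zetaU ^ (eExp i h).val
  map_one' := by
    show zetaU ^ (eExp i 1).val = 1
    have : eExp i 1 = 0 := by
      have := eExp_mul i (one_mem (monoSub i)) (one_mem (monoSub i))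
      rw [one_mul] at this
      exact add_left_cancel (this.symm.trans (add_zero _).symm)
    rw [this, ZMod.val_zero, pow_zero]
  map_mul' a b := by
    show zetaU ^ (eExp i ((a : HM) * b)).val = _
    rw [eExp_mul i a.2 b.2, ← pow_add, pow_eq_pow_mod _ zetaU_twelve, ZMod.val_add, Nat.mod_mod,
      pow_eq_pow_mod ((eExp i (a : HM)).val + (eExp i (b : HM)).val) zetaU_twelve]

/-- The conjugate by a rotation. -/
def rot (h : HM) (x : Fin 24) : HM := ⟨act (rInv x) h.v, rMul (rMul (rInv x) h.g) x⟩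

theorem rot_eq (h : HM) (x : Fin 24) : rot h x = (⟨0, x⟩ : HM)⁻¹ * h * ⟨0, x⟩ := by
  show _ = (⟨-act (rInv x) 0 + act (rInv x) h.v + act (rMul (rInv x) h.g) 0, _⟩ : HM)
  simp only [act_zero, neg_zero, zero_add, add_zero, rot]
  rfl

/-- One term of a monomial character. -/
def monoTerm (i : Fin 11) (h : HM) (x : Fin 24) : ℤ × ℤ × ℤ × ℤ :=
  if (rot h x).g ∈ monoList i then zetaTable.getD (eExp i (rot h x)).val 0 else 0

/-- The table value of a monomial character. -/
def mono4 (i : Fin 11) (h : HM) : ℤ × ℤ × ℤ × ℤ := ((monoData i).2.2.2.map (monoTerm i h)).sum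

theorem transversal_nodup : ∀ i : Fin 11, (monoData i).2.2.2.Nodup := by decide +kernel

/-- The quadruple of a combination. -/
def comb4 (i : Fin 6) (h : HM) : ℤ × ℤ × ℤ × ℤ :=
  ∑ j : Fin 11, if (coef i).getD j.1 0 = 0 then 0 else (coef i).getD j.1 0 • mono4 j h

theorem coef_mono4 : ∀ i : Fin 6, ∀ h : HM, comb4 i h = (2 * (val i h).1, 2 * (val i h).2, 0, 0) := by
  decide +kernel

theorem comb4_eq (i : Fin 6) (h : HM) : comb4 i h = ∑ j : Fin 11, (coef i).getD j.1 0 • mono4 j h :=
  Finset.sum_congr rfl fun j _ => by split <;> simp_all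

theorem quad_add (p q : ℤ × ℤ × ℤ × ℤ) : quad (p + q) = quad p + quad q := by
  simp only [quad, Prod.fst_add, Prod.snd_add]; push_cast; ring

theorem quad_zsmul (n : ℤ) (p : ℤ × ℤ × ℤ × ℤ) : quad (n • p) = n * quad p := by
  simp only [quad, Prod.smul_fst, Prod.smul_snd, smul_eq_mul]; push_cast; ring

theorem quad_zero : quad 0 = 0 := by simp [quad]

/-- The additive map. -/
noncomputable def quadHom : ℤ × ℤ × ℤ × ℤ →+ ℂ where
  toFun := quad
  map_zero' := quad_zero
  map_add' := quad_add

theorem indFun_mono (i : Fin 11) (h : HM) :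
    indFun (monoSub i) (fun k => (monoLin i k : ℂ)) h = quad (mono4 i h) := by
  classical
  rw [indFun_transversal (monoSub i) (fun a b => by simp [map_mul, mul_comm])
    (ι := {x : Fin 24 // x ∈ (monoData i).2.2.2}) (fun x => ⟨0, x.1⟩)]
  · rw [← Finset.sum_subtype (monoData i).2.2.2.toFinset (fun x => by simp)
      (fun x => extendByZero (monoSub i) (fun k => (monoLin i k : ℂ)) ((⟨0, x⟩ : HM)⁻¹ * h * ⟨0, x⟩)),
      show quad (mono4 i h) = quadHom (mono4 i h) from rfl, mono4, map_list_sum, List.map_map,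
      ← List.sum_toFinset _ (transversal_nodup i)]
    refine Finset.sum_congr rfl fun x _ => ?_
    show _ = quad (monoTerm i h x)
    rw [← rot_eq, monoTerm]
    by_cases hK : rot h x ∈ monoSub i
    · rw [extendByZero_of_mem _ _ hK, if_pos (show (rot h x).g ∈ monoList i from hK)]
      show ((zetaU ^ (eExp i _).val : ℂˣ) : ℂ) = _
      rw [Units.val_pow_eq_pow_val]
      exact (zeta_pow _ (ZMod.val_lt _)).1
    · rw [extendByZero_of_not_mem _ _ hK, if_neg (show ¬ (rot h x).g ∈ monoList i from hK), quad_zero]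
  · intro y
    obtain ⟨x, hx⟩ := Finset.card_eq_one.mp (monoList_trans i y.g)
    have hm : ∀ z : Fin 24, (z ∈ (monoData i).2.2.2 ∧ rMul (rInv z) y.g ∈ monoList i) ↔ z = x := fun z => by
      simpa using Finset.ext_iff.mp hx z
    exact ⟨⟨x, ((hm x).mpr rfl).1⟩, ((hm x).mpr rfl).2, fun z hz => Subtype.ext ((hm z.1).mp ⟨z.2, hz⟩)⟩

/-- The six functions. -/
noncomputable def cphi (i : Fin 6) (h : HM) : ℂ := ((val i h).1 : ℂ) + ((val i h).2 : ℂ) * s3

theorem cphi_eq (i : Fin 6) : cphi i =
    ∑ j : Fin 11, (((coef i).getD j.1 0 : ℤ) : ℂ) • indFun (monoSub j) (fun k => (monoLin j k : ℂ)) := by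
  funext h
  simp only [Finset.sum_apply, Pi.smul_apply, smul_eq_mul, indFun_mono, ← quad_zsmul]
  rw [show (∑ j : Fin 11, quad ((coef i).getD j.1 0 • mono4 j h)) =
      quadHom (∑ j : Fin 11, (coef i).getD j.1 0 • mono4 j h) from (map_sum quadHom _ _).symm, ← comb4_eq,
    coef_mono4]
  simp only [quadHom, AddMonoidHom.coe_mk, ZeroHom.coe_mk, quad, cphi]
  push_cast
  ring

theorem cphi_genChar (i : Fin 6) : IsGeneralizedCharacter HM (cphi i) := by
  rw [cphi_eq]
  exact isGenChar_sum _ _ fun j _ => isGenChar_intSmul _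
    (isGenChar_indFun _ (isGenChar_of_char (isCharacter_of_irr (isIrrCharacter_linear (monoLin j)))))

end CfsgLib.A9Local
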