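import Cfsg.Agent.Lib.A9Local.Model
import Mathlib.Algebra.BigOperators.Group.Finset.Basic
import Mathlib.Algebra.Group.Prod

set_option autoImplicit false

/-!
Finite checks on involutions and centralizers of the model.
-/

namespace CfsgLib.A9Local

theorem invList_length : (invList 0).length = 27 ∧ (invList 1).length = 54 := by decide +kernel

theorem invList_nodup : ∀ t : Fin 2, (invList t).Nodup := by decide +kernel

theorem invList_all : ∀ h : HM, h * h = 1 → h = 1 ∨ h ∈ invList 0 ∨ h ∈ invList 1 := by decide +kernel

theorem invList_conj : ∀ t : Fin 2, ∀ h ∈ invList t, h * h = 1 ∧ ∃ k : HM, k * tRep t * k⁻¹ = h := by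
  decide +kernel

theorem val_pairs : ∀ i : Fin 6, ∀ s t : Fin 2,
    ((invList s).map fun x => ((invList t).map fun y => val i (x * y)).sum).sum =
      ((pairTable.getD i.1 []).getD (pairIdx s t) 0, 0) := by decide +kernel

theorem xRep_cent :
    (Finset.univ.filter fun h : HM => h * xRep 0 = xRep 0 * h).card = 12 ∧
    (Finset.univ.filter fun h : HM => h * xRep 1 = xRep 1 * h).card = 6 := by decide +kernel

theorem cent_transl : ∀ v : Vec,
    (Finset.univ.filter fun h : HM => h * ⟨v, 0⟩ = ⟨v, 0⟩ * h).card = 27 * stabCount v := by decide +kernel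

theorem same_stab : ∀ v w : Vec, v ≠ 0 → w ≠ 0 → stabCount v = stabCount w → ∃ g : Fin 24, act g v = w := by
  decide +kernel

end CfsgLib.A9Local
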