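import Cfsg.Agent.Lib.A9Local.Model
import Mathlib.Algebra.BigOperators.Group.Finset.Basic
import Mathlib.Algebra.Group.Prod

set_option autoImplicit false

/-!
Finite checks on the class functions of the model.
-/

namespace CfsgLib.A9Local

theorem val_support : ∀ i : Fin 6, ∀ h : HM, inAb h = false → val i h = (0, 0) := by decide +kernel

theorem val_one : ∀ i : Fin 6, val i 1 = (0, 0) := by decide +kernel

theorem val_sum : ∀ i : Fin 6, (∑ h : HM, val i h) = (([0, 0, 648, 0, 648, 0] : List ℤ).getD i.1 0, 0) := by
  decide +kernel

theorem val_inner : ∀ i j : Fin 6, (∑ h : HM, pmul (val i h) (val j h)) =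
    ((innerTable.getD i.1 []).getD j.1 0, 0) := by decide +kernel

end CfsgLib.A9Local
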