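import Cfsg.Agent.Lib.ThreeCC.Chars
import Cfsg.Agent.Lib.CharTheory.Schur

set_option autoImplicit false

/-!
Products from two conjugation invariant sets counted by characters, and a criterion for two
involutions not to be conjugate.
-/

namespace CfsgLib.A9Local

open Cfsg CfsgLib.CharTheory
open scoped ComplexConjugate

universe u

variable {G : Type u} [Group G] [Fintype G]

/-- The number of factorisations `g = x y` with `x ∈ A` and `y ∈ B`. -/
theorem card_pairs_two [DecidableEq G] (A B : Finset G) (hA : ∀ x ∈ A, ∀ h : G, h * x * h⁻¹ ∈ A)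
    (hB : ∀ x ∈ B, ∀ h : G, h * x * h⁻¹ ∈ B) (g : G) :
    (Nat.card G : ℂ) * ((A.filter fun x => x⁻¹ * g ∈ B).card : ℂ) =
      ∑ χ : IrrCharacter G, (∑ x ∈ A, (χ : G → ℂ) x) * (∑ y ∈ B, (χ : G → ℂ) y) * conj ((χ : G → ℂ) g) /
        (χ : G → ℂ) 1 := by
  classical
  have h1 : ∀ x ∈ A, ∀ y ∈ B, (if x * y = g then (Nat.card G : ℂ) else 0) =
      ∑ χ : IrrCharacter G, (χ : G → ℂ) (x * y * g⁻¹) * (χ : G → ℂ) 1 := by
    intro x _ y _
    rw [sum_irr_apply_mul_degree]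
    exact if_congr mul_inv_eq_one.symm rfl rfl
  have h2 : (Nat.card G : ℂ) * ((A.filter fun x => x⁻¹ * g ∈ B).card : ℂ) =
      ∑ x ∈ A, ∑ y ∈ B, if x * y = g then (Nat.card G : ℂ) else 0 := by
    rw [← Finset.sum_boole, Finset.mul_sum]
    refine Finset.sum_congr rfl fun x _ => ?_
    rw [mul_ite, mul_one, mul_zero,
      Finset.sum_congr rfl fun y _ => if_congr (show x * y = g ↔ x⁻¹ * g = y from
        ⟨fun h => by rw [← h, inv_mul_cancel_left], fun h => by rw [← h, mul_inv_cancel_left]⟩) rfl rfl,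
      Finset.sum_ite_eq]
  rw [h2, Finset.sum_congr rfl fun x hx => (Finset.sum_congr rfl (h1 x hx)).trans Finset.sum_comm, Finset.sum_comm]
  refine Finset.sum_congr rfl fun χ _ => ?_
  obtain ⟨χ, n, ρ, hρ, rfl⟩ := χ
  haveI := hρ
  have key : ∀ C : Finset G, (∀ x ∈ C, ∀ h : G, h * x * h⁻¹ ∈ C) →
      ∑ x ∈ C, ρ x = ((∑ x ∈ C, ρ.character x) / (n : ℂ)) • 1 := by
    intro C hC
    have h := sum_smul_eq_smul_one ρ (f := fun x => if x ∈ C then (1 : ℂ) else 0) fun x k => by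
      refine if_congr ⟨fun h => ?_, fun h => hC x h k⟩ rfl rfl
      simpa [mul_assoc] using hC _ h k⁻¹
    simpa [ite_smul, Finset.sum_ite_mem] using h
  have h3 : ∀ x y : G, ρ.character (x * y * g⁻¹) = LinearMap.trace ℂ _ (ρ x * ρ y * ρ g⁻¹) :=
    fun x y => by rw [← map_mul, ← map_mul]; rfl
  simp only [h3, ← Finset.sum_mul, ← map_sum]
  rw [← Finset.sum_mul_sum, key A hA, key B hB]
  simp only [smul_mul_assoc, one_mul, map_smul, smul_eq_mul]
  rw [show LinearMap.trace ℂ _ (ρ g⁻¹) = ρ.character g⁻¹ from rfl, ρ.char_one,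
    char_apply_inv (isCharacter_character ρ), Module.finrank_fin_fun]
  have hn : (n : ℂ) ≠ 0 := by
    have := irr_ne_zero (isIrrCharacter_character ρ)
    rwa [ρ.char_one, Module.finrank_fin_fun] at this
  field_simp

/-- Two real elements of order dividing six with conjugate cubes are conjugate when nine does not divide the
order of the centralizer of the first. -/
theorem isConj_of_cubes {x y : G} (hx : x ^ 6 = 1) (hy : y ^ 6 = 1) (hxr : IsConj x x⁻¹) (hyr : IsConj y y⁻¹)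
    (hab : IsConj (x ^ 3) (y ^ 3)) (hx2 : x ^ 2 ≠ 1) (hy2 : y ^ 2 ≠ 1)
    (hc : ¬ 9 ∣ Nat.card (Subgroup.centralizer ({x} : Set G))) :
    IsConj x y := by
  classical
  haveI : Fact (Nat.Prime 3) := ⟨Nat.prime_three⟩
  by_contra hxy
  choose nx hnx using ThreeCC.char_int_six hx hxr
  choose ny hny using ThreeCC.char_int_six hy hyr
  have hx3 : ∀ χ : IrrCharacter G, ∃ n : ℤ, (χ : G → ℂ) (x ^ 3) = n := by
    refine ThreeCC.char_int_six ?_ ?_
    · rw [← pow_mul, show (3 * 6 : ℕ) = 6 * 3 by norm_num, pow_mul, hx, one_pow]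
    · rw [show (x ^ 3)⁻¹ = x ^ 3 from inv_eq_of_mul_eq_one_right (by rw [← pow_add]; exact hx)]
  choose nz hnz using hx3
  have hmod : ∀ χ : IrrCharacter G, (3 : ℤ) ∣ nx χ - nz χ ∧ (3 : ℤ) ∣ ny χ - nz χ := fun χ => by
    have hg := isGenChar_of_char (isCharacter_of_irr χ.2)
    have h1 := genChar_frob_modEq hg (p := 3) x 1 (hnx χ) (b := nz χ) (by rw [pow_one]; exact hnz χ)
    have h2 := genChar_frob_modEq hg (p := 3) y 1 (hny χ) (b := nz χ) (by
      rw [pow_one, ← hnz χ]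
      exact (isClassFunction_iff_isConj.mp (isClassFunction_irr χ.2) _ _ hab).symm)
    exact ⟨h1.dvd, h2.dvd⟩
  have hxz : ¬ IsConj x (x ^ 3) := fun h => hx2 (by
    obtain ⟨g, hg⟩ := isConj_iff.mp h
    have e : g * x ^ 2 * g⁻¹ = 1 := by rw [← conj_pow, hg, ← pow_mul, hx]
    exact conj_eq_one_iff.mp e)
  have hxx := sum_irr_mul_conj x x
  have hxy0 := sum_irr_mul_conj x y
  have hxz0 := sum_irr_mul_conj x (x ^ 3)
  have hzy := sum_irr_mul_conj (x ^ 3) y
  rw [if_pos (IsConj.refl x)] at hxx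
  rw [if_neg hxy] at hxy0
  rw [if_neg hxz] at hxz0
  have hzy0 : ¬ IsConj y (x ^ 3) := fun h => hy2 (by
    obtain ⟨g, hg⟩ := isConj_iff.mp h
    have e : g * y ^ 2 * g⁻¹ = 1 := by rw [← conj_pow, hg, ← pow_mul, hx]
    exact conj_eq_one_iff.mp e)
  rw [if_neg fun h => hzy0 h.symm] at hzy
  simp only [hnx, hny, hnz, map_intCast] at hxx hxy0 hxz0 hzy
  have e : ((∑ χ : IrrCharacter G, (nx χ - ny χ) * (nx χ - nz χ) : ℤ) : ℂ) =
      (Nat.card (Subgroup.centralizer ({x} : Set G)) : ℂ) := by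
    push_cast
    calc ∑ χ : IrrCharacter G, ((nx χ : ℂ) - ny χ) * ((nx χ : ℂ) - nz χ)
        = ((∑ χ : IrrCharacter G, (nx χ : ℂ) * nx χ) - ∑ χ : IrrCharacter G, (nx χ : ℂ) * ny χ)
            - ((∑ χ : IrrCharacter G, (nx χ : ℂ) * nz χ) - ∑ χ : IrrCharacter G, (nz χ : ℂ) * ny χ) := by
          simp only [← Finset.sum_sub_distrib]
          exact Finset.sum_congr rfl fun χ _ => by ring
      _ = _ := by rw [hxx, hxy0, hxz0, hzy]; simp
  have h9 : (9 : ℤ) ∣ ∑ χ : IrrCharacter G, (nx χ - ny χ) * (nx χ - nz χ) :=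
    Finset.dvd_sum fun χ _ => by
      have h1 := (hmod χ).1
      have h2 : (3 : ℤ) ∣ nx χ - ny χ := by
        have := dvd_sub h1 (hmod χ).2
        rwa [sub_sub_sub_cancel_right] at this
      exact (show (9 : ℤ) = 3 * 3 by norm_num) ▸ mul_dvd_mul h2 h1
  have e' : ∑ χ : IrrCharacter G, (nx χ - ny χ) * (nx χ - nz χ) =
      (Nat.card (Subgroup.centralizer ({x} : Set G)) : ℤ) := by exact_mod_cast e
  rw [e'] at h9
  exact hc (by exact_mod_cast h9)

end CfsgLib.A9Local
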