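import Cfsg.Agent.Lib.A9Local.Identify

set_option autoImplicit false

/-!
The exceptional vectors force a constituent of degree two whose value at the first involution is two.
-/

namespace CfsgLib.A9Local

variable {I : Type*} [Fintype I] [DecidableEq I] {c : Fin 6 → I → ℤ} {d : I → ℤ} {u w : I → ℂ} {o : I}

theorem sum_drop (v F : I → ℤ) (o : I) :
    ∑ x, (if x = o then 0 else v x) * F x = (∑ x, v x * F x) - v o * F o := by
  rw [eq_sub_iff_add_eq, ← Finset.add_sum_erase _ _ (Finset.mem_univ o),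
    ← Finset.add_sum_erase _ (fun x => v x * F x) (Finset.mem_univ o), if_pos rfl, zero_mul, zero_add, add_comm]
  exact congrArg _ (Finset.sum_congr rfl fun x hx => by rw [if_neg (Finset.mem_erase.mp hx).1])

theorem shift3 {m1 m2 m3 x1 x2 x3 y1 y2 y3 K : ℂ} (h1 : m1 ≠ 0) (h2 : m2 ≠ 0) (h3 : m3 ≠ 0)
    (hm : m1 + m2 + m3 = 0) (hx : x1 + x2 + x3 = 0) (hy : y1 + y2 + y3 = 0)
    (hq : x1 * y1 / m1 + x2 * y2 / m2 + x3 * y3 / m3 = K) (l n : ℂ) :
    (x1 - l * m1) * (y1 - n * m1) / m1 + (x2 - l * m2) * (y2 - n * m2) / m2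
      + (x3 - l * m3) * (y3 - n * m3) / m3 = K := by
  have e : ∀ x y m : ℂ, m ≠ 0 → (x - l * m) * (y - n * m) / m = x * y / m - l * y - n * x + l * n * m := by
    intro x y m hm; field_simp; ring
  rw [e _ _ _ h1, e _ _ _ h2, e _ _ _ h3]
  linear_combination hq - l * hy - n * hx + l * n * hm

theorem shift4 {m1 m2 m3 m4 x1 x2 x3 x4 y1 y2 y3 y4 K : ℂ} (h1 : m1 ≠ 0) (h2 : m2 ≠ 0) (h3 : m3 ≠ 0) (h4 : m4 ≠ 0)
    (hm : m1 + m2 + m3 + m4 = 0) (hx : x1 + x2 + x3 + x4 = 0) (hy : y1 + y2 + y3 + y4 = 0)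
    (hq : x1 * y1 / m1 + x2 * y2 / m2 + x3 * y3 / m3 + x4 * y4 / m4 = K) (l n : ℂ) :
    (x1 - l * m1) * (y1 - n * m1) / m1 + (x2 - l * m2) * (y2 - n * m2) / m2
      + (x3 - l * m3) * (y3 - n * m3) / m3 + (x4 - l * m4) * (y4 - n * m4) / m4 = K := by
  have e : ∀ x y m : ℂ, m ≠ 0 → (x - l * m) * (y - n * m) / m = x * y / m - l * y - n * x + l * n * m := by
    intro x y m hm; field_simp; ring
  rw [e _ _ _ h1, e _ _ _ h2, e _ _ _ h3, e _ _ _ h4]
  linear_combination hq - l * hy - n * hx + l * n * hm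

theorem two_supp {v : I → ℤ} (h : ∀ x, v x = -1 ∨ v x = 0 ∨ v x = 1) (hn : ∑ x, v x * v x = 2) {a : I}
    (ha : v a ≠ 0) : ∃ b, v b ≠ 0 ∧ b ≠ a ∧ ∀ x, v x ≠ 0 → x = a ∨ x = b := by
  have hc := card_supp h
  rw [hn] at hc
  have h1 : ((Finset.univ.filter fun x => v x ≠ 0).erase a).card = 1 := by
    rw [Finset.card_erase_of_mem (by simpa using ha)]
    omega
  obtain ⟨b, hb⟩ := Finset.card_eq_one.mp h1
  have hm : ∀ x, (x ≠ a ∧ v x ≠ 0) ↔ x = b := fun x => by simpa using Finset.ext_iff.mp hb x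
  exact ⟨b, ((hm b).mpr rfl).2, ((hm b).mpr rfl).1, fun x hx =>
    (em (x = a)).imp_right fun hxa => (hm x).mp ⟨hxa, hx⟩⟩

omit [DecidableEq I] in
theorem Exc.sm_ne (h : Exc c d u w o) {n : Fin 6} {x : I} (hx : c n x ≠ 0) : sm c d n x ≠ 0 :=
  mul_ne_zero (Int.cast_ne_zero.mpr hx) (Int.cast_ne_zero.mpr (h.d0 x))

omit [Fintype I] [DecidableEq I] in
theorem same_values {n m : Fin 6} {x : I} (e : c n x = c m x) :
    sm c d n x = sm c d m x ∧ sx c u n x = sx c u m x ∧ sy c w n x = sy c w m x := by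
  simp only [sm, sx, sy, e, and_self]

omit [Fintype I] [DecidableEq I] in
theorem opp_values {n m : Fin 6} {x : I} (e : c n x = -c m x) :
    sm c d n x = -sm c d m x ∧ sx c u n x = -sx c u m x ∧ sy c w n x = -sy c w m x := by
  simp only [sm, sx, sy, e, Int.cast_neg, neg_mul, and_self]

theorem eq_of_mul_one {a b : ℤ} (ha : a = -1 ∨ a = 0 ∨ a = 1) (h : a * b = 1) : b = a := by
  rcases ha with rfl | rfl | rfl <;> omega

theorem eq_neg_of_mul {a b : ℤ} (ha : a = -1 ∨ a = 0 ∨ a = 1) (h : a * b = -1) : b = -a := by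
  rcases ha with rfl | rfl | rfl <;> omega

/-- The two members of the difference function have equal signed values in a function orthogonal to it. -/
theorem Exc.pair_values (h : Exc c d u w o) {n : Fin 6} {q q' : I} (hqq : q' ≠ q) (hq : c 5 q ≠ 0) (hq' : c 5 q' ≠ 0)
    (hV : ∀ x, c 5 x ≠ 0 → x = q ∨ x = q') (hn : c n q * c 5 q + c n q' * c 5 q' = 0) :
    sm c d n q' = sm c d n q ∧ sx c u n q' = sx c u n q ∧ sy c w n q' = sy c w n q := by
  have key : ∀ F : I → ℂ, (∑ x, (c 5 x : ℂ) * F x = 0) → (c n q' : ℂ) * F q' = (c n q : ℂ) * F q := by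
    intro F hF
    have hs : ∑ x, (c 5 x : ℂ) * F x = (c 5 q : ℂ) * F q + (c 5 q' : ℂ) * F q' := by
      refine Finset.sum_eq_add q q' hqq.symm (fun x _ hx => ?_) (by simp) (by simp)
      by_contra h0
      rcases hV x (fun e => h0 (by rw [e]; simp)) with rfl | rfl
      · exact hx.1 rfl
      · exact hx.2 rfl
    rw [hs] at hF
    rcases h.entry 5 q with e1 | e1 | e1 <;> first | exact absurd e1 hq | skip
    all_goals rcases h.entry 5 q' with e2 | e2 | e2 <;> first | exact absurd e2 hq' | skip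
    all_goals
      rw [e1, e2] at hn hF
      push_cast at hF
      simp only [mul_neg, mul_one, neg_mul, one_mul] at hn hF
    · rw [show c n q' = -c n q by omega]; push_cast; linear_combination -(c n q : ℂ) * (-hF)
    · rw [show c n q' = c n q by omega]; linear_combination (c n q : ℂ) * hF
    · rw [show c n q' = c n q by omega]; linear_combination (-(c n q : ℂ)) * hF
    · rw [show c n q' = -c n q by omega]; push_cast; linear_combination -(c n q : ℂ) * hF
  refine ⟨key (fun x => (d x : ℂ)) ?_, key u (h.su 5), key w (h.sw 5)⟩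
  have := congrArg (fun z : ℤ => (z : ℂ)) (h.deg 5)
  simpa using this

theorem prod_entry {a b : ℤ} (ha : a = -1 ∨ a = 0 ∨ a = 1) (hb : b = -1 ∨ b = 0 ∨ b = 1) :
    a * b = -1 ∨ a * b = 0 ∨ a * b = 1 := by
  rcases ha with rfl | rfl | rfl <;> rcases hb with rfl | rfl | rfl <;> norm_num

theorem opp_prod {a b e : ℤ} (ha : a = -1 ∨ a = 0 ∨ a = 1) (hb : b = -1 ∨ b = 0 ∨ b = 1)
    (he : e = -1 ∨ e = 0 ∨ e = 1) (hab : a * b = -1) (he0 : e ≠ 0) :
    a * e = -1 ∨ b * e = -1 := by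
  rcases ha with rfl | rfl | rfl <;> rcases hb with rfl | rfl | rfl <;> rcases he with rfl | rfl | rfl <;> omega

/-- What the first three functions and the difference function give. -/
structure Core (c : Fin 6 → I → ℤ) (d : I → ℤ) (u w : I → ℂ) (o f i j k q q' g : I) (l n : ℂ) : Prop where
  hne : f ≠ o ∧ i ≠ o ∧ k ≠ o ∧ j ≠ o
  fne : c 0 f ≠ 0 ∧ c 1 f ≠ 0
  ine : c 0 i ≠ 0 ∧ c 2 i ≠ 0
  kne : c 1 k ≠ 0 ∧ c 2 k ≠ 0
  jne : c 0 j ≠ 0
  qne : c 1 q ≠ 0
  gne : c 2 g ≠ 0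
  hf : c 0 f * c 1 f = -1
  hi : c 0 i * c 2 i = 1
  hk : c 1 k * c 2 k = 1
  hif : i ≠ f
  hik : i ≠ k
  hiq : i ≠ q
  hjf : j ≠ f
  hji : j ≠ i
  hjk : j ≠ k
  hjq : j ≠ q
  hkf : k ≠ f
  hqf : q ≠ f
  hqk : q ≠ k
  hgo : g ≠ o
  hgi : g ≠ i
  hgk : g ≠ k
  hg0 : c 0 g = 0
  hA : ∀ x, c 0 x ≠ 0 → x = f ∨ x = i ∨ x = j
  hB : ∀ x, c 1 x ≠ 0 → x = f ∨ x = k ∨ x = q
  hD : ∀ x, c 2 x ≠ 0 → x = o ∨ x = i ∨ x = k ∨ x = g
  hVq : c 5 q ≠ 0
  hq' : c 5 q' ≠ 0
  hqq' : q' ≠ q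
  hV : ∀ x, c 5 x ≠ 0 → x = q ∨ x = q'
  hqA : c 0 q' = 0
  xi : sx c u 0 i - l * sm c d 0 i = 0
  yk : sy c w 1 k - n * sm c d 1 k = 0
  xj : sx c u 0 j - l * sm c d 0 j = 0
  yf : sy c w 1 f - n * (sm c d 0 i + sm c d 0 j) = 0
  xAf : sx c u 0 f - l * sm c d 0 f = 0
  xBf' : sx c u 1 f - l * sm c d 1 f = 0
  mBf' : sm c d 1 f = sm c d 0 i + sm c d 0 j
  yj : sy c w 0 j - n * sm c d 0 j = -(sy c w 0 i - n * sm c d 0 i)
  xq : sx c u 1 q - l * sm c d 1 q = -(sx c u 1 k - l * sm c d 1 k)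
  yq : sy c w 1 q - n * sm c d 1 q = 0
  hs : Short (sm c d 1 k) (sm c d 0 i) (sm c d 0 j) (sx c u 1 k - l * sm c d 1 k) (sy c w 0 i - n * sm c d 0 i)
  hfirst : First (sm c d 1 k) (sm c d 0 i) (u o - l) (w o - n) (sx c u 1 k - l * sm c d 1 k) (sy c w 0 i - n * sm c d 0 i)
  smx : 1 + sm c d 1 k + sm c d 0 i + sm c d 2 g = 0
  sxx : (u o - l) + (sx c u 1 k - l * sm c d 1 k) + 0 + (sx c u 2 g - l * sm c d 2 g) = 0
  syy : (w o - n) + 0 + (sy c w 0 i - n * sm c d 0 i) + (sy c w 2 g - n * sm c d 2 g) = 0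

/-- A function of norm four with its trivial constituent removed. -/
theorem Exc.drop (h : Exc c d u w o) (n : Fin 6) (hn : c n o = 1) (hn4 : ∑ x, c n x * c n x = 4) (m : Fin 6)
    (hm : c m o = 0) :
    ∑ x, (if x = o then 0 else c n x) * (if x = o then 0 else c n x) = 3 ∧
      ∑ x, (if x = o then 0 else c n x) * d x = -1 ∧
      ∑ x, c m x * (if x = o then 0 else c n x) = gram m n := by
  refine ⟨?_, ?_, ?_⟩
  · have e : ∀ x, (if x = o then 0 else c n x) * (if x = o then 0 else c n x) =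
        (if x = o then 0 else c n x) * c n x := fun x => by split <;> simp
    simp only [e, sum_drop, hn4, hn]; norm_num
  · rw [sum_drop, h.deg, hn, h.dO]; norm_num
  · simp only [mul_comm (c m _)]
    rw [sum_drop, hm, mul_zero, sub_zero, ← h.inner m n]
    exact Finset.sum_congr rfl fun x _ => mul_comm _ _

set_option maxHeartbeats 1000000 in
theorem Exc.exists_core (h : Exc c d u w o) :
    ∃ f i j k q q' g l n, Core c d u w o f i j k q q' g l n := by
  have hd := h.d0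
  have E := h.entry
  have o0 : c 0 o = 0 := h.atO 0
  have o1 : c 1 o = 0 := h.atO 1
  have o2 : c 2 o = 1 := h.atO 2
  have o3 : c 3 o = 0 := h.atO 3
  have o4 : c 4 o = 1 := h.atO 4
  have o5 : c 5 o = 0 := h.atO 5
  have n0 : ∑ x, c 0 x * c 0 x = 3 := h.inner 0 0
  have n1 : ∑ x, c 1 x * c 1 x = 3 := h.inner 1 1
  have n2 : ∑ x, c 2 x * c 2 x = 4 := h.inner 2 2
  have n3 : ∑ x, c 3 x * c 3 x = 4 := h.inner 3 3
  have n4 : ∑ x, c 4 x * c 4 x = 4 := h.inner 4 4
  have n5 : ∑ x, c 5 x * c 5 x = 2 := h.inner 5 5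
  obtain ⟨f, hf, hfu⟩ := single_overlap d n0 n1 hd (h.deg 0) (Or.inl (h.deg 1)) (s := -1) (Or.inr rfl) (h.inner 0 1)
  have hdrop := h.drop
  obtain ⟨d3, dd, dA⟩ := hdrop 2 o2 n2 0 o0
  obtain ⟨-, -, dB⟩ := hdrop 2 o2 n2 1 o1
  obtain ⟨i, hi, hiu⟩ := single_overlap d n0 d3 hd (h.deg 0) (Or.inr dd) (s := 1) (Or.inl rfl) (dA.trans rfl)
  obtain ⟨k, hk, hku⟩ := single_overlap d n1 d3 hd (h.deg 1) (Or.inr dd) (s := 1) (Or.inl rfl) (dB.trans rfl)
  have hio : i ≠ o := fun e => by rw [if_pos e, mul_zero] at hi; norm_num at hi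
  have hko : k ≠ o := fun e => by rw [if_pos e, mul_zero] at hk; norm_num at hk
  rw [if_neg hio] at hi
  rw [if_neg hko] at hk
  have fne : c 0 f ≠ 0 ∧ c 1 f ≠ 0 := ⟨fun e => by rw [e] at hf; norm_num at hf, fun e => by rw [e] at hf; norm_num at hf⟩
  have ine : c 0 i ≠ 0 ∧ c 2 i ≠ 0 := ⟨fun e => by rw [e] at hi; norm_num at hi, fun e => by rw [e] at hi; norm_num at hi⟩
  have kne : c 1 k ≠ 0 ∧ c 2 k ≠ 0 := ⟨fun e => by rw [e] at hk; norm_num at hk, fun e => by rw [e] at hk; norm_num at hk⟩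
  have hfo : f ≠ o := fun e => fne.1 (e ▸ o0)
  have hif : i ≠ f := fun e => by
    rw [e] at hi ine
    have hkf : f = k := hku f fne.2 (by rw [if_neg hfo]; exact ine.2)
    rw [← hkf] at hk
    rcases E 0 f with p | p | p <;> rcases E 1 f with q | q | q <;> simp [p, q] at hf hi hk <;> omega
  have hkf : k ≠ f := fun e => by
    rw [e] at hk kne
    have hi' : f = i := hiu f fne.1 (by rw [if_neg hfo]; exact kne.2)
    exact hif hi'.symm
  have hi1 : c 1 i = 0 := by by_contra e; exact hif (hfu i ine.1 e)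
  have hk0 : c 0 k = 0 := by by_contra e; exact hkf (hfu k e kne.1)
  have hik : i ≠ k := fun e => ine.1 (e ▸ hk0)
  obtain ⟨j, jne, hjf, hji, hA⟩ := third (E 0) n0 fne.1 ine.1 hif.symm
  obtain ⟨q, qne, hqf, hqk, hB⟩ := third (E 1) n1 fne.2 kne.1 hkf.symm
  have hjo : j ≠ o := fun e => jne (e ▸ o0)
  have hqo : q ≠ o := fun e => qne (e ▸ o1)
  have hj1 : c 1 j = 0 := by by_contra e; exact hjf (hfu j jne e)
  have hq0 : c 0 q = 0 := by by_contra e; exact hqf (hfu q e qne)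
  have hj2 : c 2 j = 0 := by by_contra e; exact hji (hiu j jne (by rwa [if_neg hjo]))
  have hf2 : c 2 f = 0 := by by_contra e; exact hif (hiu f fne.1 (by rwa [if_neg hfo])).symm
  have hq2 : c 2 q = 0 := by by_contra e; exact hqk (hku q qne (by rwa [if_neg hqo]))
  have hjk : j ≠ k := fun e => jne (e ▸ hk0)
  have hjq : j ≠ q := fun e => jne (e ▸ hq0)
  have hiq : i ≠ q := fun e => ine.1 (e ▸ hq0)
  obtain ⟨g, gne, hgo, hgi, hgk, hD⟩ := fourth_elt (E 2) n2 (show c 2 o ≠ 0 by rw [o2]; norm_num) ine.2 kne.2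
    hio.symm hko.symm hik
  have hg0 : c 0 g = 0 := by
    by_contra e
    rcases hA g e with rfl | rfl | rfl <;> contradiction
  have hg1 : c 1 g = 0 := by
    by_contra e
    rcases hB g e with rfl | rfl | rfl <;> contradiction
  have sumA : ∀ F : I → ℤ, ∑ x, c 0 x * F x = c 0 f * F f + c 0 i * F i + c 0 j * F j := fun F =>
    sum_three _ hif.symm hjf.symm hji.symm fun x h1 h2 h3 => by
      by_contra hx
      rcases hA x (fun e => hx (by rw [e, zero_mul])) with rfl | rfl | rfl <;> contradiction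
  have sumB : ∀ F : I → ℤ, ∑ x, c 1 x * F x = c 1 f * F f + c 1 k * F k + c 1 q * F q := fun F =>
    sum_three _ hkf.symm hqf.symm hqk.symm fun x h1 h2 h3 => by
      by_contra hx
      rcases hB x (fun e => hx (by rw [e, zero_mul])) with rfl | rfl | rfl <;> contradiction
  have sumD : ∀ F : I → ℤ, ∑ x, c 2 x * F x = c 2 o * F o + c 2 i * F i + c 2 k * F k + c 2 g * F g := fun F =>
    sum_four _ hio.symm hko.symm hgo.symm hik hgi.symm hgk.symm fun x h1 h2 h3 h4 => by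
      by_contra hx
      rcases hD x (fun e => hx (by rw [e, zero_mul])) with rfl | rfl | rfl | rfl <;> contradiction
  have TA : Triple c d u w 0 f i j 0 1 0 := h.triple hif.symm hjf.symm hji.symm hA
  have TB : Triple c d u w 1 f k q 1 0 0 := h.triple hkf.symm hqf.symm hqk.symm hB
  have TD : Quad c d u w 2 o k i g 1 2 1 := h.quad hko.symm hio.symm hgo.symm hik.symm hgk.symm hgi.symm
    (fun x hx => by rcases hD x hx with e | e | e | e <;> tauto)
  -- the signed parameters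
  obtain ⟨mDi, xDi, yDi⟩ := same_values (d := d) (u := u) (w := w) (eq_of_mul_one (E 0 i) hi)
  obtain ⟨mDk, xDk, yDk⟩ := same_values (d := d) (u := u) (w := w) (eq_of_mul_one (E 1 k) hk)
  obtain ⟨mBf, xBf, yBf⟩ := opp_values (d := d) (u := u) (w := w) (eq_neg_of_mul (E 0 f) hf)
  have mo : sm c d 2 o = 1 := by simp [sm, o2, h.dO]
  have xo : sx c u 2 o = u o := by simp [sx, o2]
  have yo : sy c w 2 o = w o := by simp [sy, o2]
  set b := sm c d 0 i with hb_def
  set cc := sm c d 0 j with hc_def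
  set a := sm c d 1 k with ha_def
  have b0 : b ≠ 0 := h.sm_ne ine.1
  have c0 : cc ≠ 0 := h.sm_ne jne
  have a0 : a ≠ 0 := h.sm_ne kne.1
  have mAf : sm c d 0 f = -(b + cc) := by linear_combination TA.mm
  have mBf' : sm c d 1 f = b + cc := by rw [mBf, mAf, neg_neg]
  have mBq : sm c d 1 q = -(a + b + cc) := by linear_combination TB.mm - mBf'
  have f0 : b + cc ≠ 0 := mBf' ▸ h.sm_ne fne.2
  have W0 : a + b + cc ≠ 0 := neg_ne_zero.mp (mBq ▸ h.sm_ne qne)
  -- proportionality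
  set l := sx c u 0 i / b with hl
  set n := sy c w 1 k / a with hn
  have xi : sx c u 0 i - l * b = 0 := by rw [hl, div_mul_cancel₀ _ b0, sub_self]
  have yk : sy c w 1 k - n * a = 0 := by rw [hn, div_mul_cancel₀ _ a0, sub_self]
  have xj : sx c u 0 j - l * cc = 0 := by
    have e := proportional (x1 := sx c u 0 i) (x2 := sx c u 0 j) b0 c0 f0 (by
      have := TA.uu
      rw [mAf, show sx c u 0 f = -(sx c u 0 i + sx c u 0 j) by linear_combination TA.xx] at this
      rw [← this]; rw [div_neg]; ring)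
    rw [hl]; field_simp; linear_combination -e
  have yf : sy c w 1 f - n * (b + cc) = 0 := by
    have e := proportional (x1 := sy c w 1 f) (x2 := sy c w 1 k) f0 a0 (by rwa [add_comm, ← add_assoc]) (by
      have := TB.ww
      rw [mBf', mBq, show sy c w 1 q = -(sy c w 1 f + sy c w 1 k) by linear_combination TB.yy] at this
      rw [← this]; rw [show b + cc + a = a + b + cc by ring, div_neg]; ring)
    rw [hn]; field_simp; linear_combination e
  set t := sy c w 0 i - n * b with ht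
  set S := sx c u 1 k - l * a with hS
  have xAf : sx c u 0 f - l * sm c d 0 f = 0 := by linear_combination TA.xx - xi - xj - l * mAf
  have xBf' : sx c u 1 f - l * sm c d 1 f = 0 := by rw [xBf, mBf]; linear_combination -xAf
  have yAf : sy c w 0 f - n * sm c d 0 f = 0 := by
    have : sy c w 1 f - n * sm c d 1 f = 0 := by rw [mBf']; exact yf
    rw [yBf, mBf] at this; linear_combination -this
  have yj : sy c w 0 j - n * cc = -t := by rw [ht]; linear_combination TA.yy - yAf - n * TA.mm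
  have xq : sx c u 1 q - l * sm c d 1 q = -S := by rw [hS]; linear_combination TB.xx - xBf' - l * TB.mm
  have yq : sy c w 1 q - n * sm c d 1 q = 0 := by
    rw [mBq]; linear_combination TB.yy - yf - yk
  have hs : Short a b cc S t := by
    refine ⟨a0, b0, c0, f0, W0, ?_, ?_⟩
    · have e := shift3 (h.sm_ne fne.1) b0 c0 TA.mm TA.yy TA.yy TA.ww n n
      rw [yAf, yj, ← ht] at e
      field_simp at e
      linear_combination e
    · have e := shift3 (h.sm_ne fne.2) a0 (h.sm_ne qne) TB.mm TB.xx TB.xx TB.uu l l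
      rw [xBf', xq, ← hS, mBq] at e
      field_simp at e
      linear_combination e
  set U := u o - l with hU
  set V := w o - n with hVdef
  have hg' : sm c d 2 g ≠ 0 := h.sm_ne gne
  have k2 : sm c d 2 k ≠ 0 := mDk.symm ▸ a0
  have i2 : sm c d 2 i ≠ 0 := mDi.symm ▸ b0
  have o2' : sm c d 2 o ≠ 0 := by rw [mo]; exact one_ne_zero
  have Du := shift4 o2' k2 i2 hg' TD.mm TD.xx TD.xx TD.uu l l
  have Dw := shift4 o2' k2 i2 hg' TD.mm TD.yy TD.yy TD.ww n n
  have Dm := shift4 o2' k2 i2 hg' TD.mm TD.xx TD.yy TD.uw l n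
  rw [mo, xo, mDk, xDk, mDi, xDi, mul_one, ← hS, xi, ← hU] at Du
  rw [mo, yo, mDk, yDk, mDi, yDi, mul_one, ← ht, yk, ← hVdef] at Dw
  rw [mo, xo, yo, mDk, xDk, yDk, mDi, xDi, yDi, mul_one, mul_one, ← hS, xi, ← ht, yk, ← hU, ← hVdef] at Dm
  have smx : 1 + a + b + sm c d 2 g = 0 := by
    have := TD.mm
    rwa [mo, mDk, mDi] at this
  have sxx : U + S + 0 + (sx c u 2 g - l * sm c d 2 g) = 0 := by
    have := TD.xx
    rw [xo, xDk, xDi] at this
    rw [hU, hS]; linear_combination this - xi - l * smx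
  have syy : V + 0 + t + (sy c w 2 g - n * sm c d 2 g) = 0 := by
    have := TD.yy
    rw [yo, yDk, yDi] at this
    rw [hVdef, ht]; linear_combination this - yk - n * smx
  have hM : 1 + a + b ≠ 0 := fun e => hg' (by linear_combination smx - e)
  have hfirst : First a b U V S t := ⟨hM, (qf_of_four smx sxx sxx).symm.trans Du,
    (qf_of_four smx sxx syy).symm.trans Dm, (qf_of_four smx syy syy).symm.trans Dw⟩
  have f20 : c 2 f * c 5 f = 0 := by rw [hf2, zero_mul]
  -- the difference function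
  have vA := (sumA (c 5)).symm.trans (h.inner 0 5)
  have vB := (sumB (c 5)).symm.trans (h.inner 1 5)
  have vD := (sumD (c 5)).symm.trans (h.inner 2 5)
  simp only [show gram 0 5 = 0 from rfl] at vA
  simp only [show gram 1 5 = -1 from rfl] at vB
  simp only [show gram 2 5 = 0 from rfl, o5, mul_zero, zero_add] at vD
  have hVf : c 5 f = 0 := by
    by_contra e
    obtain ⟨x, hx, hxf, hV⟩ := two_supp (E 5) n5 e
    have hxi : x ≠ i := by
      rintro rfl
      have hk5 : c 5 k = 0 := by_contra fun e' => (hV k e').elim hkf (fun e'' => hik e''.symm)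
      have : c 5 g = 0 := by_contra fun e' => (hV g e').elim (fun e'' => gne (e'' ▸ hf2)) hgi
      rw [this, mul_zero, add_zero] at vD
      rw [hk5, mul_zero, add_zero] at vD
      exact mul_ne_zero ine.2 hx vD
    have hxj : x = j := by
      by_contra hxj
      have hi5 : c 5 i = 0 := by_contra fun e' => (hV i e').elim hif (fun e'' => hxi e''.symm)
      have : c 5 j = 0 := by_contra fun e' => (hV j e').elim hjf (fun e'' => hxj e''.symm)
      rw [this, hi5, mul_zero, mul_zero, add_zero, add_zero] at vA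
      exact mul_ne_zero fne.1 e vA
    subst hxj
    have : c 5 i = 0 := by_contra fun e' => (hV i e').elim hif hji.symm
    obtain ⟨em, ex, ey⟩ := h.pair_values hjf e hx hV (n := 0) (by rw [this, mul_zero, add_zero] at vA; exact vA)
    have e1 : cc = -(b + cc) := em.trans mAf
    have e2 : sy c w 0 i = -2 * sy c w 0 f := by linear_combination TA.yy - ey
    have e3 := TA.ww
    rw [ey, e2, mAf, ← e1] at e3
    rw [show sm c d 0 i = -2 * cc by linear_combination e1, show sm c d 0 x = cc from rfl] at e3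
    field_simp at e3
    ring_nf at e3
    first | exact c0 e3 | exact c0 e3.symm | simp [c0] at e3
  have hVq : c 5 q ≠ 0 := by
    intro e
    have hVk : c 5 k ≠ 0 := fun e' => by simp [hVf, e, e'] at vB
    obtain ⟨x, hx, hxk, hV⟩ := two_supp (E 5) n5 hVk
    have hxi : x ≠ i := by
      rintro rfl
      have : c 5 j = 0 := by_contra fun e' => (hV j e').elim hjk hji
      rw [hVf, this, mul_zero, mul_zero, zero_add, add_zero] at vA
      exact mul_ne_zero ine.1 hx vA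
    have hVi : c 5 i = 0 := by_contra fun e' => (hV i e').elim hik (fun e'' => hxi e''.symm)
    have hxg : x = g := by
      by_contra hxg
      have : c 5 g = 0 := by_contra fun e' => (hV g e').elim hgk (fun e'' => hxg e''.symm)
      rw [hVi, this, mul_zero, mul_zero, zero_add, add_zero] at vD
      exact mul_ne_zero kne.2 hVk vD
    subst hxg
    obtain ⟨em, ex, ey⟩ := h.pair_values hgk hVk hx hV (n := 2) (by simpa [hVi] using vD)
    have sxg : sx c u 2 x - l * sm c d 2 x = S := by rw [ex, em, xDk, mDk]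
    have syg : sy c w 2 x - n * sm c d 2 x = 0 := by rw [ey, em, yDk, mDk]; exact yk
    rw [sxg] at Du sxx
    rw [syg] at Dw syy
    rw [sxg, syg] at Dm
    rw [em, mDk] at Du Dw Dm smx
    refine no_equal_pair_first b0 a0 (by linear_combination smx) (U := U) (V := V) (S := S) (t := t)
      (by linear_combination sxx) (by linear_combination syy) ?_ ?_ ?_
    · linear_combination Du
    · linear_combination Dm
    · linear_combination Dw
  obtain ⟨q', hq', hqq', hV⟩ := two_supp (E 5) n5 hVq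
  have hVk : c 5 k = 0 := by
    by_contra e
    have : k = q' := (hV k e).resolve_left hqk.symm
    subst this
    have h1 := prod_entry (E 1 k) (E 5 k)
    have h2 := prod_entry (E 1 q) (E 5 q)
    have h3 := mul_ne_zero kne.1 e
    have h4 := mul_ne_zero qne hVq
    rw [hVf, mul_zero, zero_add] at vB
    omega
  have hVi : c 5 i = 0 := by
    by_contra e
    have hij : c 5 j = 0 := by_contra fun e' => hji (((hV j e').resolve_left hjq).trans
      ((hV i e).resolve_left hiq).symm)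
    rw [hVf, hij, mul_zero, mul_zero, zero_add, add_zero] at vA
    exact mul_ne_zero ine.1 e vA
  have hVj : c 5 j = 0 := by
    by_contra e
    rw [hVf, hVi, mul_zero, mul_zero, zero_add, zero_add] at vA
    exact mul_ne_zero jne e vA
  have hVg : c 5 g = 0 := by
    by_contra e
    rw [hVk, hVi, mul_zero, mul_zero, zero_add, zero_add] at vD
    exact mul_ne_zero gne e vD
  have hqA : c 0 q' = 0 := by
    by_contra e
    rcases hA q' e with rfl | rfl | rfl
    exacts [hq' hVf, hq' hVi, hq' hVj]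
  have hqB : c 1 q' = 0 := by
    by_contra e
    rcases hB q' e with rfl | rfl | rfl
    exacts [hq' hVf, hq' hVk, hqq' rfl]
  have hqD : c 2 q' = 0 := by
    by_contra e
    rcases hD q' e with rfl | rfl | rfl | rfl
    exacts [hq' o5, hq' hVi, hq' hVk, hq' hVg]
  exact ⟨f, i, j, k, q, q', g, l, n, ⟨⟨hfo, hio, hko, hjo⟩, fne, ine, kne, jne, qne, gne, hf, hi, hk, hif, hik, hiq, hjf, hji, hjk, hjq, hkf, hqf, hqk, hgo, hgi, hgk, hg0, hA, hB, hD, hVq, hq', hqq', hV, hqA, xi, yk, xj, yf, xAf, xBf', mBf', yj, xq, yq, hs, hfirst, smx, sxx, syy⟩⟩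

set_option maxHeartbeats 2000000 in
theorem Exc.second (h : Exc c d u w o) {f i j k q q' g : I} {l n : ℂ} (hC : Core c d u w o f i j k q q' g l n) :
    sm c d 0 i = sm c d 0 j ∧ c 3 j = c 0 j ∧ c 3 k = c 1 k ∧ c 3 g = 0 := by
  have hd := h.d0
  have E := h.entry
  have o0 : c 0 o = 0 := h.atO 0
  have o1 : c 1 o = 0 := h.atO 1
  have o2 : c 2 o = 1 := h.atO 2
  have o3 : c 3 o = 0 := h.atO 3
  have o4 : c 4 o = 1 := h.atO 4
  have o5 : c 5 o = 0 := h.atO 5
  have n0 : ∑ x, c 0 x * c 0 x = 3 := h.inner 0 0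
  have n1 : ∑ x, c 1 x * c 1 x = 3 := h.inner 1 1
  have n2 : ∑ x, c 2 x * c 2 x = 4 := h.inner 2 2
  have n3 : ∑ x, c 3 x * c 3 x = 4 := h.inner 3 3
  have n4 : ∑ x, c 4 x * c 4 x = 4 := h.inner 4 4
  have n5 : ∑ x, c 5 x * c 5 x = 2 := h.inner 5 5
  obtain ⟨⟨hfo, hio, hko, hjo⟩, fne, ine, kne, jne, qne, gne, hf, hi, hk, hif, hik, hiq, hjf, hji, hjk, hjq, hkf, hqf, hqk, hgo, hgi, hgk, hg0, hA, hB, hD, hVq, hq', hqq', hV, hqA, xi, yk, xj, yf, xAf, xBf', mBf', yj, xq, yq, hs, hfirst, smx, sxx, syy⟩ := hC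
  have sumA : ∀ F : I → ℤ, ∑ x, c 0 x * F x = c 0 f * F f + c 0 i * F i + c 0 j * F j := fun F =>
    sum_three _ hif.symm hjf.symm hji.symm fun x h1 h2 h3 => by
      by_contra hx
      rcases hA x (fun e => hx (by rw [e, zero_mul])) with rfl | rfl | rfl <;> contradiction
  have sumB : ∀ F : I → ℤ, ∑ x, c 1 x * F x = c 1 f * F f + c 1 k * F k + c 1 q * F q := fun F =>
    sum_three _ hkf.symm hqf.symm hqk.symm fun x h1 h2 h3 => by
      by_contra hx
      rcases hB x (fun e => hx (by rw [e, zero_mul])) with rfl | rfl | rfl <;> contradiction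
  have sumD : ∀ F : I → ℤ, ∑ x, c 2 x * F x = c 2 o * F o + c 2 i * F i + c 2 k * F k + c 2 g * F g := fun F =>
    sum_four _ hio.symm hko.symm hgo.symm hik hgi.symm hgk.symm fun x h1 h2 h3 h4 => by
      by_contra hx
      rcases hD x (fun e => hx (by rw [e, zero_mul])) with rfl | rfl | rfl | rfl <;> contradiction
  set b := sm c d 0 i with hb_def
  set cc := sm c d 0 j with hc_def
  set a := sm c d 1 k with ha_def
  set t := sy c w 0 i - n * b with ht
  set S := sx c u 1 k - l * a with hS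
  set U := u o - l with hU
  set V := w o - n with hVdef
  have a0 : a ≠ 0 := hs.a0
  have b0 : b ≠ 0 := hs.b0
  have c0 : cc ≠ 0 := hs.c0
  have hM : 1 + a + b ≠ 0 := hfirst.M0
  -- the second function of norm four
  have fA := (sumA (c 3)).symm.trans (h.inner 0 3)
  have fB := (sumB (c 3)).symm.trans (h.inner 1 3)
  have fD := (sumD (c 3)).symm.trans (h.inner 2 3)
  simp only [show gram 0 3 = 1 from rfl] at fA
  simp only [show gram 1 3 = 1 from rfl] at fB
  simp only [show gram 2 3 = 1 from rfl, o3, mul_zero, zero_add] at fD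
  have hFf : c 3 f = 0 := by
    by_contra e
    rcases opp_prod (E 0 f) (E 1 f) (E 3 f) hf e with e1 | e1'
    · have e2 : c 3 i = c 0 i ∧ c 3 j = c 0 j := by
        have h1 := prod_entry (E 0 i) (E 3 i)
        have h2 := prod_entry (E 0 j) (E 3 j)
        exact ⟨eq_of_mul_one (E 0 i) (by omega), eq_of_mul_one (E 0 j) (by omega)⟩
      obtain ⟨x, hx, hxf, hxi, hxj, hS⟩ := fourth_elt (E 3) n3 e (e2.1 ▸ ine.1) (e2.2 ▸ jne) hif.symm hjf.symm
        hji.symm
      obtain ⟨m1, x1, y1⟩ := same_values (d := d) (u := u) (w := w) e2.1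
      obtain ⟨m2, x2, y2⟩ := same_values (d := d) (u := u) (w := w) e2.2
      obtain ⟨m3, x3, y3⟩ := opp_values (d := d) (u := u) (w := w)
        (show c 3 f = -c 0 f from eq_neg_of_mul (E 0 f) e1)
      have TF : Quad c d u w 3 f i j x 1 2 (-1) :=
        h.quad hif.symm hjf.symm hxf.symm hji.symm hxi.symm hxj.symm hS
      have n1 : sm c d 3 i ≠ 0 := m1 ▸ b0
      have n2 : sm c d 3 j ≠ 0 := m2 ▸ c0
      have e3 := shift4 (h.sm_ne e) n1 n2 (h.sm_ne hx) TF.mm TF.xx TF.xx TF.uu l l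
      have e4 : sx c u 3 x - l * sm c d 3 x = 0 := by
        linear_combination TF.xx - l * TF.mm - x1 - x2 - x3 + l * m1 + l * m2 + l * m3 + xAf - xi - xj
      rw [e4, x1, m1, xi, x2, m2, xj, x3, m3,
        show -sx c u 0 f - l * -sm c d 0 f = 0 by linear_combination -xAf] at e3
      simp at e3
    · have e2 : c 3 k = c 1 k ∧ c 3 q = c 1 q := by
        have h1 := prod_entry (E 1 k) (E 3 k)
        have h2 := prod_entry (E 1 q) (E 3 q)
        exact ⟨eq_of_mul_one (E 1 k) (by omega), eq_of_mul_one (E 1 q) (by omega)⟩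
      obtain ⟨x, hx, hxf, hxk, hxq, hS⟩ := fourth_elt (E 3) n3 e (e2.1 ▸ kne.1) (e2.2 ▸ qne) hkf.symm hqf.symm
        hqk.symm
      obtain ⟨m1, x1, y1⟩ := same_values (d := d) (u := u) (w := w) e2.1
      obtain ⟨m2, x2, y2⟩ := same_values (d := d) (u := u) (w := w) e2.2
      obtain ⟨m3, x3, y3⟩ := opp_values (d := d) (u := u) (w := w)
        (show c 3 f = -c 1 f from eq_neg_of_mul (E 1 f) e1')
      have TF : Quad c d u w 3 f k q x 1 2 (-1) :=
        h.quad hkf.symm hqf.symm hxf.symm hqk.symm hxk.symm hxq.symm hS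
      have n1 : sm c d 3 k ≠ 0 := m1 ▸ a0
      have n2 : sm c d 3 q ≠ 0 := m2 ▸ h.sm_ne qne
      have e3 := shift4 (h.sm_ne e) n1 n2 (h.sm_ne hx) TF.mm TF.yy TF.yy TF.ww n n
      have e4 : sy c w 3 x - n * sm c d 3 x = 0 := by
        linear_combination TF.yy - n * TF.mm - y1 - y2 - y3 + n * m1 + n * m2 + n * m3 + yf - n * mBf' - yk - yq
      rw [e4, y1, m1, yk, y2, m2, yq, y3, m3,
        show -sy c w 1 f - n * -sm c d 1 f = 0 by rw [mBf']; linear_combination -yf] at e3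
      simp at e3
  rw [hFf, mul_zero, zero_add] at fA fB
  have hsum5 : ∀ n : Fin 6, c n q * c 5 q + c n q' * c 5 q' = gram n 5 := fun n => by
    rw [← h.inner n 5]
    refine (Finset.sum_eq_add (f := fun x => c n x * c 5 x) q q' hqq'.symm (fun x _ hx => ?_) (by simp) (by simp)).symm
    by_contra h0
    rcases hV x (fun e => h0 (by rw [e, mul_zero])) with rfl | rfl
    · exact hx.1 rfl
    · exact hx.2 rfl
  have hAsplit : ∀ n : Fin 6, c 0 i * c n i + c 0 j * c n j = 1 →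
      ∃ y, (y = i ∨ y = j) ∧ c n y = c 0 y ∧ (c n i = 0 ∨ c n j = 0) := by
    intro n hn
    have h1 := prod_entry (E 0 i) (E n i)
    have h2 := prod_entry (E 0 j) (E n j)
    rcases (show (c 0 i * c n i = 1 ∧ c 0 j * c n j = 0) ∨ (c 0 i * c n i = 0 ∧ c 0 j * c n j = 1) by omega) with
      ⟨h3, h4⟩ | ⟨h3, h4⟩
    · exact ⟨i, Or.inl rfl, eq_of_mul_one (E 0 i) h3, Or.inr ((mul_eq_zero.mp h4).resolve_left jne)⟩
    · exact ⟨j, Or.inr rfl, eq_of_mul_one (E 0 j) h4, Or.inl ((mul_eq_zero.mp h3).resolve_left ine.1)⟩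
  have hAy : ∀ y, (y = i ∨ y = j) → y ≠ o ∧ y ≠ q ∧ y ≠ q' ∧ c 0 y ≠ 0 ∧ y ≠ f ∧ y ≠ k ∧
      sx c u 0 y - l * sm c d 0 y = 0 := by
    rintro y (rfl | rfl)
    · exact ⟨hio, hiq, fun e => ine.1 (e ▸ hqA), ine.1, hif, hik, xi⟩
    · exact ⟨hjo, hjq, fun e => jne (e ▸ hqA), jne, hjf, hjk, xj⟩
  obtain ⟨y, hy, ey, hy0⟩ := hAsplit 3 fA
  obtain ⟨hyo, hyq, hyq', hy0', hyf, hyk, xy⟩ := hAy y hy
  obtain ⟨my, xy', yy'⟩ := same_values (d := d) (u := u) (w := w) ey
  have n3y : c 3 y ≠ 0 := ey ▸ hy0'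
  have hFq : c 3 q = 0 := by
    by_contra e
    have h1 := prod_entry (E 1 k) (E 3 k)
    have h2 := prod_entry (E 1 q) (E 3 q)
    have e0 := mul_ne_zero qne e
    have e3q : c 3 q = c 1 q := eq_of_mul_one (E 1 q) (by omega)
    have hF35 := hsum5 3
    rw [show gram 3 5 = 0 from rfl] at hF35
    have e' : c 3 q' ≠ 0 := fun e' => by
      rw [e', zero_mul, add_zero] at hF35
      exact mul_ne_zero e hVq hF35
    obtain ⟨x, hx, hxy, hxq, hxq', hS⟩ := fourth_elt (E 3) n3 n3y e e' hyq hyq' hqq'.symm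
    obtain ⟨em, ex, ey2⟩ := h.pair_values hqq' hVq hq' hV (n := 3) hF35
    obtain ⟨m1, x1, y1⟩ := same_values (d := d) (u := u) (w := w) e3q
    have TF : Quad c d u w 3 y q q' x 1 2 (-1) :=
      h.quad hyq hyq' hxy.symm hqq'.symm hxq.symm hxq'.symm hS
    have s1 := shift4 (h.sm_ne n3y) (h.sm_ne e) (h.sm_ne e') (h.sm_ne hx) TF.mm TF.xx TF.xx TF.uu l l
    have s2 := shift4 (h.sm_ne n3y) (h.sm_ne e) (h.sm_ne e') (h.sm_ne hx) TF.mm TF.xx TF.yy TF.uw l n
    have s3 := shift4 (h.sm_ne n3y) (h.sm_ne e) (h.sm_ne e') (h.sm_ne hx) TF.mm TF.yy TF.yy TF.ww n n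
    have a1 : sx c u 3 y - l * sm c d 3 y = 0 := by rw [xy', my]; exact xy
    have a2 : sx c u 3 q - l * sm c d 3 q = -S := by rw [x1, m1]; exact xq
    have a3 : sx c u 3 q' - l * sm c d 3 q' = -S := by rw [ex, em]; exact a2
    have a4 : sx c u 3 x - l * sm c d 3 x = -2 * -S := by linear_combination TF.xx - l * TF.mm - a1 - a2 - a3
    have b2 : sy c w 3 q - n * sm c d 3 q = 0 := by rw [y1, m1]; exact yq
    have b3 : sy c w 3 q' - n * sm c d 3 q' = 0 := by rw [ey2, em]; exact b2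
    have b4 : sy c w 3 x - n * sm c d 3 x = -(sy c w 3 y - n * sm c d 3 y) := by
      linear_combination TF.yy - n * TF.mm - b2 - b3
    rw [a1, a2, a3, a4] at s1 s2
    rw [b2, b3, b4] at s2 s3
    rw [em] at s1 s2 s3
    exact no_equal_pair_second (h.sm_ne n3y) (h.sm_ne e) (h.sm_ne hx)
      (by linear_combination TF.mm - em) s1 s2 s3
  have hFk : c 3 k = c 1 k := eq_of_mul_one (E 1 k) (by rw [hFq, mul_zero, add_zero] at fB; exact fB)
  have n3k : c 3 k ≠ 0 := hFk ▸ kne.1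
  obtain ⟨mFk, xFk, yFk⟩ := same_values (d := d) (u := u) (w := w) hFk
  have eD1 : c 2 k * c 3 k = 1 := by rw [hFk, mul_comm]; exact hk
  have hFi : c 3 i = 0 := by
    by_contra e
    have hFj : c 3 j = 0 := hy0.resolve_left e
    have e3i : c 3 i = c 0 i := eq_of_mul_one (E 0 i) (by rw [hFj, mul_zero, add_zero] at fA; exact fA)
    have eD2 : c 2 i * c 3 i = 1 := by rw [e3i, mul_comm]; exact hi
    have e3g : c 3 g = -c 2 g := eq_neg_of_mul (E 2 g) (by omega)
    have n3g : c 3 g ≠ 0 := by rw [e3g]; exact neg_ne_zero.mpr gne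
    obtain ⟨x, hx, hxi, hxk, hxg, hS⟩ := fourth_elt (E 3) n3 e n3k n3g hik hgi.symm hgk.symm
    have TF : Quad c d u w 3 k i g x 1 2 (-1) := h.quad hik.symm hgk.symm hxk.symm hgi.symm hxi.symm hxg.symm
      (fun z hz => by rcases hS z hz with e | e | e | e <;> tauto)
    obtain ⟨m1, x1, y1⟩ := same_values (d := d) (u := u) (w := w) e3i
    obtain ⟨m2, x2, y2⟩ := opp_values (d := d) (u := u) (w := w) e3g
    have s1 := shift4 (h.sm_ne n3k) (h.sm_ne e) (h.sm_ne n3g) (h.sm_ne hx) TF.mm TF.xx TF.xx TF.uu l l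
    have s2 := shift4 (h.sm_ne n3k) (h.sm_ne e) (h.sm_ne n3g) (h.sm_ne hx) TF.mm TF.xx TF.yy TF.uw l n
    have s3 := shift4 (h.sm_ne n3k) (h.sm_ne e) (h.sm_ne n3g) (h.sm_ne hx) TF.mm TF.yy TF.yy TF.ww n n
    have mg : sm c d 3 g = 1 + a + b := by rw [m2]; linear_combination -smx
    have mx : sm c d 3 x = -(1 + 2 * a + 2 * b) := by
      linear_combination TF.mm - mFk - m1 - mg
    have a1 : sx c u 3 k - l * sm c d 3 k = S := by rw [xFk, mFk]
    have a2 : sx c u 3 i - l * sm c d 3 i = 0 := by rw [x1, m1]; exact xi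
    have a3 : sx c u 3 g - l * sm c d 3 g = U + S := by rw [x2, m2]; linear_combination -sxx
    have a4 : sx c u 3 x - l * sm c d 3 x = -(U + 2 * S) := by linear_combination TF.xx - l * TF.mm - a1 - a2 - a3
    have b1 : sy c w 3 k - n * sm c d 3 k = 0 := by rw [yFk, mFk]; exact yk
    have b2 : sy c w 3 i - n * sm c d 3 i = t := by rw [y1, m1]
    have b3 : sy c w 3 g - n * sm c d 3 g = V + t := by rw [y2, m2]; linear_combination -syy
    have b4 : sy c w 3 x - n * sm c d 3 x = -(V + 2 * t) := by linear_combination TF.yy - n * TF.mm - b1 - b2 - b3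
    rw [a1, a2, a3, a4] at s1 s2
    rw [b1, b2, b3, b4] at s2 s3
    rw [mFk, m1, mg, mx] at s1 s2 s3
    have hM2 : 1 + 2 * a + 2 * b ≠ 0 := neg_ne_zero.mp (mx ▸ h.sm_ne hx)
    simp only [div_neg, neg_mul_neg, zero_mul, mul_zero, zero_div, add_zero, zero_add] at s1 s2 s3
    exact no_shared_pair hs hM2 hfirst.e11 hfirst.e12 hfirst.e22 hM
      (by linear_combination s1) (by linear_combination s2) (by linear_combination s3)
  have hFj : c 3 j = c 0 j := eq_of_mul_one (E 0 j) (by rw [hFi, mul_zero, zero_add] at fA; exact fA)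
  have n3j : c 3 j ≠ 0 := hFj ▸ jne
  have hFg : c 3 g = 0 := by
    rw [hFi, mul_zero, zero_add] at fD
    exact (mul_eq_zero.mp (show c 2 g * c 3 g = 0 by omega)).resolve_left gne
  obtain ⟨u1, hu1, hu1j, hu1k⟩ : ∃ x, c 3 x ≠ 0 ∧ x ≠ j ∧ x ≠ k := by
    by_contra hcon
    push Not at hcon
    rw [sum_three (fun x => c 3 x * c 3 x) hjk hji hik.symm fun x h1 h2 h3 => by
      by_contra hx
      exact h2 (hcon x (fun e => hx (by rw [e, zero_mul])) h1), hFj, hFk, hFi] at n3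
    rcases E 0 j with p | p | p <;> rcases E 1 k with p' | p' | p' <;> rw [p, p'] at n3 <;> omega
  obtain ⟨u2, hu2, hu2j, hu2k, hu21, hFS⟩ := fourth_elt (E 3) n3 n3j n3k hu1 hjk hu1j.symm hu1k.symm
  have hbc : b = cc := by
    have TF : Quad c d u w 3 u1 k j u2 1 2 (-1) := h.quad hu1k hu1j hu21.symm hjk.symm hu2k.symm hu2j.symm
      (fun z hz => by rcases hFS z hz with e | e | e | e <;> tauto)
    obtain ⟨m1, x1, y1⟩ := same_values (d := d) (u := u) (w := w) hFj
    have s1 := shift4 (h.sm_ne hu1) (h.sm_ne n3k) (h.sm_ne n3j) (h.sm_ne hu2) TF.mm TF.xx TF.xx TF.uu l l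
    have s2 := shift4 (h.sm_ne hu1) (h.sm_ne n3k) (h.sm_ne n3j) (h.sm_ne hu2) TF.mm TF.xx TF.yy TF.uw l n
    have s3 := shift4 (h.sm_ne hu1) (h.sm_ne n3k) (h.sm_ne n3j) (h.sm_ne hu2) TF.mm TF.yy TF.yy TF.ww n n
    have a1 : sx c u 3 k - l * sm c d 3 k = S := by rw [xFk, mFk]
    have a2 : sx c u 3 j - l * sm c d 3 j = 0 := by rw [x1, m1]; exact xj
    have b1 : sy c w 3 k - n * sm c d 3 k = 0 := by rw [yFk, mFk]; exact yk
    have b2 : sy c w 3 j - n * sm c d 3 j = -t := by rw [y1, m1]; exact yj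
    have sm0 : sm c d 3 u1 + a + cc + sm c d 3 u2 = 0 := by linear_combination TF.mm - mFk - m1
    have sx0 : (sx c u 3 u1 - l * sm c d 3 u1) + S + 0 + (sx c u 3 u2 - l * sm c d 3 u2) = 0 := by
      linear_combination TF.xx - l * TF.mm - a1 - a2
    have sy0 : (sy c w 3 u1 - n * sm c d 3 u1) + 0 + -t + (sy c w 3 u2 - n * sm c d 3 u2) = 0 := by
      linear_combination TF.yy - n * TF.mm - b1 - b2
    rw [a1, a2] at s1 s2
    rw [b1, b2] at s2 s3
    rw [mFk, m1] at s1 s2 s3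
    exact eq_of_two hs hfirst (h.sm_ne hu1) (fun e => h.sm_ne hu2 (by linear_combination sm0 - e))
      ((qf_of_four sm0 sx0 sx0).symm.trans s1) ((qf_of_four sm0 sx0 sy0).symm.trans s2)
      ((qf_of_four sm0 sy0 sy0).symm.trans s3)
  exact ⟨hbc, hFj, hFk, hFg⟩

set_option maxHeartbeats 2000000 in
theorem Exc.exists_degree_two (h : Exc c d u w o) : ∃ x, d x = 2 ∧ u x = 2 * u o := by
  obtain ⟨f, i, j, k, q, q', g, l, n, hC⟩ := h.exists_core
  obtain ⟨hbc, hFj, hFk, hFg⟩ := h.second hC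
  have hd := h.d0
  have E := h.entry
  have o0 : c 0 o = 0 := h.atO 0
  have o1 : c 1 o = 0 := h.atO 1
  have o2 : c 2 o = 1 := h.atO 2
  have o3 : c 3 o = 0 := h.atO 3
  have o4 : c 4 o = 1 := h.atO 4
  have o5 : c 5 o = 0 := h.atO 5
  have n0 : ∑ x, c 0 x * c 0 x = 3 := h.inner 0 0
  have n1 : ∑ x, c 1 x * c 1 x = 3 := h.inner 1 1
  have n2 : ∑ x, c 2 x * c 2 x = 4 := h.inner 2 2
  have n3 : ∑ x, c 3 x * c 3 x = 4 := h.inner 3 3
  have n4 : ∑ x, c 4 x * c 4 x = 4 := h.inner 4 4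
  have n5 : ∑ x, c 5 x * c 5 x = 2 := h.inner 5 5
  obtain ⟨⟨hfo, hio, hko, hjo⟩, fne, ine, kne, jne, qne, gne, hf, hi, hk, hif, hik, hiq, hjf, hji, hjk, hjq, hkf, hqf, hqk, hgo, hgi, hgk, hg0, hA, hB, hD, hVq, hq', hqq', hV, hqA, xi, yk, xj, yf, xAf, xBf', mBf', yj, xq, yq, hs, hfirst, smx, sxx, syy⟩ := hC
  have sumA : ∀ F : I → ℤ, ∑ x, c 0 x * F x = c 0 f * F f + c 0 i * F i + c 0 j * F j := fun F =>
    sum_three _ hif.symm hjf.symm hji.symm fun x h1 h2 h3 => by
      by_contra hx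
      rcases hA x (fun e => hx (by rw [e, zero_mul])) with rfl | rfl | rfl <;> contradiction
  have sumB : ∀ F : I → ℤ, ∑ x, c 1 x * F x = c 1 f * F f + c 1 k * F k + c 1 q * F q := fun F =>
    sum_three _ hkf.symm hqf.symm hqk.symm fun x h1 h2 h3 => by
      by_contra hx
      rcases hB x (fun e => hx (by rw [e, zero_mul])) with rfl | rfl | rfl <;> contradiction
  have sumD : ∀ F : I → ℤ, ∑ x, c 2 x * F x = c 2 o * F o + c 2 i * F i + c 2 k * F k + c 2 g * F g := fun F =>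
    sum_four _ hio.symm hko.symm hgo.symm hik hgi.symm hgk.symm fun x h1 h2 h3 h4 => by
      by_contra hx
      rcases hD x (fun e => hx (by rw [e, zero_mul])) with rfl | rfl | rfl | rfl <;> contradiction
  set b := sm c d 0 i with hb_def
  set cc := sm c d 0 j with hc_def
  set a := sm c d 1 k with ha_def
  set t := sy c w 0 i - n * b with ht
  set S := sx c u 1 k - l * a with hS
  set U := u o - l with hU
  set V := w o - n with hVdef
  have a0 : a ≠ 0 := hs.a0
  have b0 : b ≠ 0 := hs.b0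
  have c0 : cc ≠ 0 := hs.c0
  have hM : 1 + a + b ≠ 0 := hfirst.M0
  have hdrop := h.drop
  have hsum5 : ∀ n : Fin 6, c n q * c 5 q + c n q' * c 5 q' = gram n 5 := fun n => by
    rw [← h.inner n 5]
    refine (Finset.sum_eq_add (f := fun x => c n x * c 5 x) q q' hqq'.symm (fun x _ hx => ?_) (by simp) (by simp)).symm
    by_contra h0
    rcases hV x (fun e => h0 (by rw [e, mul_zero])) with rfl | rfl
    · exact hx.1 rfl
    · exact hx.2 rfl
  have hAy : ∀ y, (y = i ∨ y = j) → y ≠ o ∧ y ≠ q ∧ y ≠ q' ∧ c 0 y ≠ 0 ∧ y ≠ f ∧ y ≠ k ∧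
      sx c u 0 y - l * sm c d 0 y = 0 := by
    rintro y (rfl | rfl)
    · exact ⟨hio, hiq, fun e => ine.1 (e ▸ hqA), ine.1, hif, hik, xi⟩
    · exact ⟨hjo, hjq, fun e => jne (e ▸ hqA), jne, hjf, hjk, xj⟩
  -- the third function of norm four
  obtain ⟨p3, pd, pA⟩ := hdrop 4 o4 n4 0 o0
  obtain ⟨-, -, pB⟩ := hdrop 4 o4 n4 1 o1
  obtain ⟨y', hy', hy'u⟩ := single_overlap d n0 p3 hd (h.deg 0) (Or.inr pd) (s := -1) (Or.inr rfl) (pA.trans rfl)
  obtain ⟨z, hz, hzu⟩ := single_overlap d n1 p3 hd (h.deg 1) (Or.inr pd) (s := 1) (Or.inl rfl) (pB.trans rfl)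
  have hy'o : y' ≠ o := fun e => by rw [if_pos e, mul_zero] at hy'; norm_num at hy'
  have hzo : z ≠ o := fun e => by rw [if_pos e, mul_zero] at hz; norm_num at hz
  rw [if_neg hy'o] at hy'
  rw [if_neg hzo] at hz
  have y'ne : c 0 y' ≠ 0 ∧ c 4 y' ≠ 0 :=
    ⟨fun e => by rw [e] at hy'; norm_num at hy', fun e => by rw [e] at hy'; norm_num at hy'⟩
  have zne : c 1 z ≠ 0 ∧ c 4 z ≠ 0 :=
    ⟨fun e => by rw [e] at hz; norm_num at hz, fun e => by rw [e] at hz; norm_num at hz⟩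
  have on4 : c 4 o ≠ 0 := by rw [o4]; norm_num
  have mo4 : sm c d 4 o = 1 := by simp [sm, o4, h.dO]
  have xo4 : sx c u 4 o - l * sm c d 4 o = U := by rw [hU, mo4]; simp [sx, o4]
  have yo4 : sy c w 4 o - n * sm c d 4 o = V := by rw [hVdef, mo4]; simp [sy, o4]
  by_cases hyf' : y' = f
  · rw [hyf'] at hy' y'ne
    have hzf : f = z := hzu f fne.2 (by rw [if_neg hfo]; exact y'ne.2)
    rw [← hzf] at hz
    have e4f : c 4 f = c 1 f := eq_of_mul_one (E 1 f) hz
    obtain ⟨p', hp', hp'o, hp'f⟩ : ∃ x, c 4 x ≠ 0 ∧ x ≠ o ∧ x ≠ f := by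
      by_contra hcon
      push Not at hcon
      rw [Finset.sum_eq_add (f := fun x => c 4 x * c 4 x) o f hfo.symm
        (fun x _ hx => by
          by_contra h0
          exact hx.2 (hcon x (fun e => h0 (by rw [e, zero_mul])) hx.1)) (by simp) (by simp), o4, e4f] at n4
      rcases E 1 f with p | p | p <;> rw [p] at n4 <;> omega
    obtain ⟨x, hx, hxo, hxp, hxf, hPS⟩ := fourth_elt (E 4) n4 on4 hp' y'ne.2 hp'o.symm hfo.symm hp'f
    have TP : Quad c d u w 4 o p' f x 1 3 0 := h.quad hp'o.symm hfo.symm hxo.symm hp'f hxp.symm hxf.symm hPS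
    obtain ⟨m1, x1, y1⟩ := same_values (d := d) (u := u) (w := w) e4f
    have s1 := shift4 (h.sm_ne on4) (h.sm_ne hp') (h.sm_ne y'ne.2) (h.sm_ne hx) TP.mm TP.xx TP.xx TP.uu l l
    have s2 := shift4 (h.sm_ne on4) (h.sm_ne hp') (h.sm_ne y'ne.2) (h.sm_ne hx) TP.mm TP.xx TP.yy TP.uw l n
    have s3 := shift4 (h.sm_ne on4) (h.sm_ne hp') (h.sm_ne y'ne.2) (h.sm_ne hx) TP.mm TP.yy TP.yy TP.ww n n
    have a2 : sx c u 4 f - l * sm c d 4 f = 0 := by rw [x1, m1]; exact xBf'
    have b2 : sy c w 4 f - n * sm c d 4 f = 0 := by rw [y1, m1, mBf']; exact yf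
    have sm0 : 1 + sm c d 4 p' + (b + cc) + sm c d 4 x = 0 := by linear_combination TP.mm - mo4 - m1 - mBf'
    have sx0 : U + (sx c u 4 p' - l * sm c d 4 p') + 0 + (sx c u 4 x - l * sm c d 4 x) = 0 := by
      linear_combination TP.xx - l * TP.mm - xo4 - a2
    have sy0 : V + (sy c w 4 p' - n * sm c d 4 p') + 0 + (sy c w 4 x - n * sm c d 4 x) = 0 := by
      linear_combination TP.yy - n * TP.mm - yo4 - b2
    rw [xo4, a2] at s1 s2
    rw [yo4, b2] at s2 s3
    rw [mo4, m1, mBf'] at s1 s2 s3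
    rcases degree_two hs hbc hfirst (h.sm_ne hp') (fun e => h.sm_ne hx (by linear_combination sm0 - e))
      ((qf_of_four sm0 sx0 sx0).symm.trans s1) ((qf_of_four sm0 sx0 sy0).symm.trans s2)
      ((qf_of_four sm0 sy0 sy0).symm.trans s3) with ha3 | ⟨ha2, hS2⟩
    · exfalso
      have : (3 * (c 1 k * d k) : ℤ) = 2 := by
        have : ((3 * (c 1 k * d k) : ℤ) : ℂ) = ((2 : ℤ) : ℂ) := by push_cast; exact ha3
        exact_mod_cast this
      omega
    · have hck : c 1 k * d k = 2 := by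
        have : (((c 1 k * d k) : ℤ) : ℂ) = ((2 : ℤ) : ℂ) := by push_cast; exact ha2
        exact_mod_cast this
      have := h.pos k
      have hc1 : c 1 k = 1 := by
        rcases E 1 k with p | p | p <;> rw [p] at hck <;> omega
      refine ⟨k, by rw [hc1, one_mul] at hck; exact hck, ?_⟩
      have hx1 : sx c u 1 k = u k := by simp [sx, hc1]
      rw [hS, hU, hx1, ha2] at hS2
      linear_combination hS2
  exfalso
  have hzf : z ≠ f := fun e => hyf' (hy'u f fne.1 (by rw [if_neg hfo]; exact e ▸ zne.2)).symm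
  have hy'ij : y' = i ∨ y' = j := (hA y' y'ne.1).resolve_left hyf'
  obtain ⟨-, hy'q, hy'q', -, -, hy'k, xy2⟩ := hAy y' hy'ij
  obtain ⟨m1, x1, y1⟩ := opp_values (d := d) (u := u) (w := w) (eq_neg_of_mul (E 0 y') hy')
  have a1 : sx c u 4 y' - l * sm c d 4 y' = 0 := by rw [x1, m1]; linear_combination -xy2
  rcases (hB z zne.1).resolve_left hzf with rfl | rfl
  · have pD := (sumD (c 4)).symm.trans (h.inner 2 4)
    rw [show gram 2 4 = 1 from rfl, o2, o4] at pD
    have e4k : c 4 z = c 1 z := eq_of_mul_one (E 1 z) hz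
    have eD3 : c 2 z * c 4 z = 1 := by rw [e4k, mul_comm]; exact hk
    rcases hy'ij with e | e
    · rw [e] at hy' y'ne m1 x1 y1 a1
      have e4g : c 4 g = 0 := by
        have : c 2 i * c 4 i = -1 := by
          rw [eq_of_mul_one (E 0 i) hi]; exact hy'
        exact (mul_eq_zero.mp (show c 2 g * c 4 g = 0 by omega)).resolve_left gne
      obtain ⟨x, hx, hxo, hxi, hxk, hPS⟩ := fourth_elt (E 4) n4 on4 y'ne.2 zne.2 hio.symm hzo.symm hik
      have TP : Quad c d u w 4 o i z x 1 3 0 := h.quad hio.symm hzo.symm hxo.symm hik hxi.symm hxk.symm hPS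
      obtain ⟨m2, x2, y2⟩ := same_values (d := d) (u := u) (w := w) e4k
      have s1 := shift4 (h.sm_ne on4) (h.sm_ne y'ne.2) (h.sm_ne zne.2) (h.sm_ne hx) TP.mm TP.xx TP.xx TP.uu l l
      have s2 := shift4 (h.sm_ne on4) (h.sm_ne y'ne.2) (h.sm_ne zne.2) (h.sm_ne hx) TP.mm TP.xx TP.yy TP.uw l n
      have s3 := shift4 (h.sm_ne on4) (h.sm_ne y'ne.2) (h.sm_ne zne.2) (h.sm_ne hx) TP.mm TP.yy TP.yy TP.ww n n
      have a2 : sx c u 4 z - l * sm c d 4 z = S := by rw [x2, m2]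
      have b2 : sy c w 4 z - n * sm c d 4 z = 0 := by rw [y2, m2]; exact yk
      have b1 : sy c w 4 i - n * sm c d 4 i = -t := by rw [y1, m1, ht]; ring
      have sm0 : 1 + -b + a + sm c d 4 x = 0 := by linear_combination TP.mm - mo4 - m1 - m2
      have sx0 : U + 0 + S + (sx c u 4 x - l * sm c d 4 x) = 0 := by
        linear_combination TP.xx - l * TP.mm - xo4 - a1 - a2
      have sy0 : V + -t + 0 + (sy c w 4 x - n * sm c d 4 x) = 0 := by
        linear_combination TP.yy - n * TP.mm - yo4 - b1 - b2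
      rw [xo4, a1, a2] at s1 s2
      rw [yo4, b1, b2] at s2 s3
      rw [mo4, m1, m2] at s1 s2 s3
      exact no_negative_pair hs hbc (fun e => h.sm_ne hx (by linear_combination sm0 - e))
        ((qf_of_four sm0 sx0 sx0).symm.trans s1) ((qf_of_four sm0 sx0 sy0).symm.trans s2)
        ((qf_of_four sm0 sy0 sy0).symm.trans s3)
    · rw [e] at hy' y'ne
      have h4i : c 4 i = 0 := by
        by_contra h0
        exact hji ((e ▸ hy'u i ine.1 (by rwa [if_neg hio])).symm)
      rw [h4i, mul_zero, add_zero] at pD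
      have e4g : c 4 g ≠ 0 := fun h0 => by rw [h0, mul_zero] at pD; omega
      obtain ⟨x, hx, hxo, hxj, hxk, hPS⟩ := fourth_elt (E 4) n4 on4 y'ne.2 zne.2 hjo.symm hzo.symm hjk
      obtain rfl : g = x := by
        rcases hPS g e4g with h0 | h0 | h0 | h0
        exacts [absurd h0 hgo, absurd (h0 ▸ hg0) jne, absurd h0 hgk, h0]
      have h34 := h.inner 3 4
      rw [show gram 3 4 = 1 from rfl, sum_four (fun x => c 3 x * c 4 x) hjo.symm hzo.symm hgo.symm hjk
        hxj.symm hgk.symm (fun x h1 h2 h3 h4 => by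
          by_contra h0
          rcases hPS x (fun e => h0 (by rw [e, mul_zero])) with e | e | e | e <;> contradiction), o3, hFg, hFj,
        hFk, e4k, zero_mul, zero_mul, zero_add, add_zero] at h34
      have h5 : c 1 z * c 1 z = 1 := by rcases E 1 z with p | p | p <;> first | exact absurd p zne.1 | (rw [p]; norm_num)
      rw [e4k] at hz
      omega
  · have h45 := hsum5 4
    rw [show gram 4 5 = 0 from rfl] at h45
    have e' : c 4 q' ≠ 0 := fun e' => by
      rw [e', zero_mul, add_zero] at h45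
      exact mul_ne_zero zne.2 hVq h45
    obtain ⟨em, ex, ey2⟩ := h.pair_values hqq' hVq hq' hV (n := 4) h45
    have hq'o : q' ≠ o := fun e => hq' (e ▸ o5)
    obtain ⟨x, hx, hxo, hxy, hxz, hPS⟩ := fourth_elt (E 4) n4 on4 y'ne.2 zne.2 hy'o.symm hzo.symm hy'q
    obtain rfl : q' = x := by
      rcases hPS q' e' with h0 | h0 | h0 | h0
      exacts [absurd h0 hq'o, absurd h0 hy'q'.symm, absurd h0 hqq', h0]
    have TP : Quad c d u w 4 o y' z q' 1 3 0 :=
      h.quad hy'o.symm hzo.symm hq'o.symm hy'q hxy.symm hxz.symm hPS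
    obtain ⟨m2, x2, y2⟩ := same_values (d := d) (u := u) (w := w) (eq_of_mul_one (E 1 z) hz)
    have s1 := shift4 (h.sm_ne on4) (h.sm_ne y'ne.2) (h.sm_ne zne.2) (h.sm_ne e') TP.mm TP.xx TP.xx TP.uu l l
    have s2 := shift4 (h.sm_ne on4) (h.sm_ne y'ne.2) (h.sm_ne zne.2) (h.sm_ne e') TP.mm TP.xx TP.yy TP.uw l n
    have s3 := shift4 (h.sm_ne on4) (h.sm_ne y'ne.2) (h.sm_ne zne.2) (h.sm_ne e') TP.mm TP.yy TP.yy TP.ww n n
    have a2 : sx c u 4 z - l * sm c d 4 z = -S := by rw [x2, m2]; exact xq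
    have a3 : sx c u 4 q' - l * sm c d 4 q' = -S := by rw [ex, em]; exact a2
    have b2 : sy c w 4 z - n * sm c d 4 z = 0 := by rw [y2, m2]; exact yq
    have b3 : sy c w 4 q' - n * sm c d 4 q' = 0 := by rw [ey2, em]; exact b2
    rw [xo4, a1, a2, a3] at s1 s2
    rw [yo4, b2, b3] at s2 s3
    rw [mo4, em] at s1 s2 s3
    exact no_equal_pair_third (h.sm_ne zne.2) (h.sm_ne y'ne.2) (by linear_combination TP.mm - mo4 - em)
      (by linear_combination TP.xx - l * TP.mm - xo4 - a1 - a2 - a3)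
      (by linear_combination TP.yy - n * TP.mm - yo4 - b2 - b3) s1 s2 s3

end CfsgLib.A9Local
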