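import Cfsg.Agent.Lib.A9Local.Model
import Mathlib.GroupTheory.Perm.Basic
import Mathlib.Algebra.Group.Subgroup.Lattice

set_option autoImplicit false

/-!
The model acting on nine points.
-/

namespace CfsgLib.A9Local

/-- The point in block `i` with offset `j`. -/
def point (i : Fin 3) (j : ZMod 3) : Fin 9 := ⟨i.1 * 3 + j.val, by have := ZMod.val_lt j; omega⟩

/-- The block of a point. -/
def block (x : Fin 9) : Fin 3 := ⟨x.1 / 3, by omega⟩

/-- The offset of a point. -/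
def offset (x : Fin 9) : ZMod 3 := (x.1 : ZMod 3)

/-- A coordinate of a vector. -/
def coord (v : Vec) (i : Fin 3) : ZMod 3 := if i = 0 then v.1 else if i = 1 then v.2.1 else v.2.2

/-- The vector with one nonzero coordinate. -/
def single (i : Fin 3) (j : ZMod 3) : Vec :=
  (if i = 0 then j else 0, if i = 1 then j else 0, if i = 2 then j else 0)

/-- A translation on the points. -/
def shiftFun (v : Vec) (x : Fin 9) : Fin 9 := point (block x) (offset x + coord v (block x))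

/-- A rotation on the points. -/
def turnFun (g : Fin 24) (x : Fin 9) : Fin 9 :=
  let w := act g (single (block x) 1)
  let k : Fin 3 := if w.1 ≠ 0 then 0 else if w.2.1 ≠ 0 then 1 else 2
  point k (coord (act g (single (block x) (offset x))) k)

theorem shiftFun_add : ∀ v w : Vec, ∀ x : Fin 9, shiftFun (v + w) x = shiftFun v (shiftFun w x) := by decide +kernel

theorem shiftFun_zero : ∀ x : Fin 9, shiftFun 0 x = x := by decide +kernel

theorem turnFun_mul : ∀ g h : Fin 24, ∀ x : Fin 9, turnFun (rMul g h) x = turnFun g (turnFun h x) := by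
  decide +kernel

theorem turnFun_zero : ∀ x : Fin 9, turnFun 0 x = x := by decide +kernel

theorem turn_shift : ∀ g : Fin 24, ∀ v : Vec, ∀ x : Fin 9,
    turnFun g (shiftFun v x) = shiftFun (act g v) (turnFun g x) := by decide +kernel

theorem rMul_inv : ∀ a : Fin 24, rMul a (rInv a) = 0 := by decide +kernel

/-- The model as permutations. -/
def thetaPerm (h : HM) : Equiv.Perm (Fin 9) where
  toFun x := shiftFun h.v (turnFun h.g x)
  invFun x := turnFun (rInv h.g) (shiftFun (-h.v) x)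
  left_inv x := by
    show turnFun (rInv h.g) (shiftFun (-h.v) (shiftFun h.v (turnFun h.g x))) = x
    rw [← shiftFun_add, neg_add_cancel, shiftFun_zero, ← turnFun_mul, rInv_mul, turnFun_zero]
  right_inv x := by
    show shiftFun h.v (turnFun h.g (turnFun (rInv h.g) (shiftFun (-h.v) x))) = x
    rw [← turnFun_mul, rMul_inv, turnFun_zero, ← shiftFun_add, add_neg_cancel, shiftFun_zero]

/-- The action on nine points. -/
def theta : HM →* Equiv.Perm (Fin 9) where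
  toFun := thetaPerm
  map_one' := Equiv.ext fun x => by
    show shiftFun 0 (turnFun 0 x) = x
    rw [turnFun_zero, shiftFun_zero]
  map_mul' a b := Equiv.ext fun x => by
    show shiftFun (a.v + act a.g b.v) (turnFun (rMul a.g b.g) x) =
      shiftFun a.v (turnFun a.g (shiftFun b.v (turnFun b.g x)))
    rw [shiftFun_add, turnFun_mul, turn_shift]

theorem theta_ker : ∀ h : HM, theta h = 1 → h = 1 := by decide +kernel

theorem theta_gens : theta ⟨(1, 0, 0), 0⟩ = Equiv.swap (0 : Fin 9) 1 * Equiv.swap 1 2 ∧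
    theta ⟨(0, 1, 0), 0⟩ = Equiv.swap (3 : Fin 9) 4 * Equiv.swap 4 5 ∧
    theta ⟨(0, 0, 1), 0⟩ = Equiv.swap (6 : Fin 9) 7 * Equiv.swap 7 8 ∧
    theta ⟨0, 16⟩ = Equiv.swap (0 : Fin 9) 3 * Equiv.swap 3 6 * (Equiv.swap (1 : Fin 9) 4 * Equiv.swap 4 7) *
      (Equiv.swap (2 : Fin 9) 5 * Equiv.swap 5 8) ∧
    theta ⟨(1, 1, 0), 3⟩ = Equiv.swap (0 : Fin 9) 1 * Equiv.swap 3 4 ∧
    theta ⟨(1, 0, 1), 2⟩ = Equiv.swap (0 : Fin 9) 1 * Equiv.swap 6 7 ∧
    theta ⟨(0, 0, 1), 8⟩ =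
      Equiv.swap (0 : Fin 9) 3 * Equiv.swap 1 4 * Equiv.swap 2 5 * Equiv.swap 6 7 := by decide +kernel

/-- The first three translations. -/
def basisVec (i : Fin 3) : HM := ⟨single i 1, 0⟩

theorem transl_eq : ∀ v : Vec,
    (⟨v, 0⟩ : HM) = basisVec 0 ^ v.1.val * basisVec 1 ^ v.2.1.val * basisVec 2 ^ v.2.2.val := by decide +kernel

theorem split_eq : ∀ h : HM, h = ⟨h.v, 0⟩ * ⟨0, h.g⟩ := by decide +kernel

theorem basis_conj : basisVec 1 = ⟨0, 16⟩ * basisVec 0 * (⟨0, 16⟩ : HM)⁻¹ ∧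
    basisVec 2 = ⟨0, 16⟩ * basisVec 1 * (⟨0, 16⟩ : HM)⁻¹ := by decide +kernel

theorem four_eq : ∀ g : Fin 24, g = 0 ∨ g = 1 ∨ g = 2 ∨ g = 3 → ∃ e f : Fin 2,
    (⟨0, g⟩ : HM) = (⟨0, 3⟩ : HM) ^ e.1 * (⟨0, 2⟩ : HM) ^ f.1 := by decide +kernel

theorem flat_eq : (⟨0, 3⟩ : HM) = (⟨(1, 1, 0), 0⟩ : HM)⁻¹ * ⟨(1, 1, 0), 3⟩ ∧
    (⟨0, 2⟩ : HM) = (⟨(1, 0, 1), 0⟩ : HM)⁻¹ * ⟨(1, 0, 1), 2⟩ ∧
    (⟨0, 8⟩ : HM) = (⟨(0, 0, 1), 0⟩ : HM)⁻¹ * ⟨(0, 0, 1), 8⟩ := by decide +kernel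

theorem rot_words : ∀ g : Fin 24, ∃ e : Fin 2, ∃ f : Fin 3, ∃ a b : Fin 2,
    (⟨0, g⟩ : HM) = (⟨0, 8⟩ : HM) ^ e.1 * (⟨0, 16⟩ : HM) ^ f.1 * (⟨0, 3⟩ : HM) ^ a.1 *
      ((⟨0, 16⟩ : HM) * ⟨0, 3⟩ * (⟨0, 16⟩ : HM)⁻¹) ^ b.1 := by decide +kernel

end CfsgLib.A9Local
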