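import Cfsg.Agent.Lib.A9Local.Chars
import Cfsg.Agent.Lib.A9Local.Points
import Cfsg.Agent.Lib.A9Local.CheckClasses
import Cfsg.Agent.Lib.A9Local.Count
import Cfsg.Agent.Lib.A9Local.Degree
import Cfsg.Agent.Lib.NineCC.Columns

set_option autoImplicit false

/-!
A group containing the model as the centralizer-closed normalizer of its translations has an irreducible
character of degree two with value two at an involution.
-/

namespace CfsgLib.A9Local

open Cfsg CfsgLib.CharTheory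
open scoped ComplexConjugate

universe u

/-- The embedding of the model. -/
structure Emb (G : Type u) [Group G] where
  /-- The map. -/
  ι : HM →* G
  inj : Function.Injective ι
  ctrl : ∀ k : HM, k.g = 0 → k ≠ 1 → ∀ k' : HM, k'.g = 0 → ∀ g : G, g * ι k * g⁻¹ = ι k' → g ∈ ι.range
  ctrl₀ : ∀ g : G, g * ι (basisVec 0) * g⁻¹ ∈ ι.range → g ∈ ι.range
  cent : ∀ k : HM, k.g = 0 → k ≠ 1 → Subgroup.centralizer ({ι k} : Set G) ≤ ι.range

variable {G : Type u} [Group G] (m : Emb G)

/-- The exponent, read off the order, that carries an element of the support into the translations. -/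
def suppExp (h : HM) : ℕ := if cube h ≠ 1 ∧ cube (cube h) = 1 then 3 else 4

theorem suppExp_check : ∀ h : HM, inAb h = true →
    (if cube h ≠ 1 ∧ cube (cube h) = 1 then (cube h).g = 0 ∧ cube h ≠ 1
      else (fourth h).g = 0 ∧ fourth h ≠ 1) := by decide +kernel

theorem suppExp_spec {h : HM} (hh : InA h) : (h ^ suppExp h).g = 0 ∧ h ^ suppExp h ≠ 1 := by
  have := suppExp_check h ((inAb_iff h).mpr hh)
  unfold suppExp
  split_ifs at this ⊢
  · rwa [← cube_eq]
  · rwa [← fourth_eq]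

/-- The support in the group. -/
def Emb.supp : Set G := {g | ∃ h, InA h ∧ m.ι h = g}

theorem Emb.ctrl_supp {g : G} {h h' : HM} (hh : InA h) (hh' : InA h') (hg : g * m.ι h * g⁻¹ = m.ι h') :
    g ∈ m.ι.range := by
  obtain ⟨h0, h1⟩ := suppExp_spec hh
  obtain ⟨h0', -⟩ := suppExp_spec hh'
  have e : ∀ n : ℕ, h' ^ n = 1 ↔ h ^ n = 1 := fun n => by
    rw [← m.inj.eq_iff, ← m.inj.eq_iff (a := h ^ n), map_one, map_pow, map_pow, ← hg, conj_pow]
    exact conj_eq_one_iff
  have hn : suppExp h' = suppExp h := by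
    simp only [suppExp, cube_eq, ← pow_mul, ne_eq, e]
  refine m.ctrl _ h0 h1 _ h0' g ?_
  rw [map_pow, map_pow, ← conj_pow, hg, hn]

theorem inAb_inv : ∀ h : HM, inAb h = true → inAb h⁻¹ = true := by decide +kernel

theorem InA.inv {h : HM} (hh : InA h) : InA h⁻¹ :=
  (inAb_iff _).mp (inAb_inv h ((inAb_iff h).mpr hh))

theorem no_involution_inA : ∀ h : HM, h * h = 1 → inAb h = false := by decide +kernel

theorem Emb.centralizer_card [Finite G] (x : HM) (hx : InA x) :
    Nat.card (Subgroup.centralizer ({m.ι x} : Set G)) =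
      (Finset.univ.filter fun h : HM => h * x = x * h).card := by
  rw [← Fintype.card_subtype, ← Nat.card_eq_fintype_card]
  refine (Nat.card_congr (Equiv.ofBijective (fun j : {j : HM // j * x = x * j} =>
    (⟨m.ι j.1, Subgroup.mem_centralizer_singleton_iff.mpr (by rw [← map_mul, j.2, map_mul])⟩ :
      Subgroup.centralizer ({m.ι x} : Set G))) ⟨fun a b h => Subtype.ext (m.inj (congrArg Subtype.val h)),
      fun y => ?_⟩)).symm
  have hy : (y : G) * m.ι x = m.ι x * y := Subgroup.mem_centralizer_singleton_iff.mp y.2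
  obtain ⟨j, hj⟩ := m.ctrl_supp hx hx (g := (y : G)) (by rw [hy, mul_inv_cancel_right])
  exact ⟨⟨j, m.inj (by rw [map_mul, map_mul, hj, hy])⟩, Subtype.ext hj⟩

theorem Emb.not_fused [Fintype G] : ¬ IsConj (m.ι (tRep 0)) (m.ι (tRep 1)) := by
  intro hc
  obtain ⟨a1, a2, a3, k, hk⟩ := xRep_spec 0
  obtain ⟨b1, b2, b3, k', hk'⟩ := xRep_spec 1
  have hne : ∀ t : Fin 2, m.ι (xRep t) ^ 2 ≠ 1 := fun t e => by
    rw [← map_pow, ← map_one m.ι] at e
    exact (xRep_spec t).2.2.1.2 (by rw [show 4 = 2 * 2 from rfl, pow_mul, m.inj e, one_pow])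
  have hc0 : Nat.card (Subgroup.centralizer ({m.ι (xRep 0)} : Set G)) = 12 :=
    (m.centralizer_card _ (Or.inr a3)).trans xRep_cent.1
  have hc1 : Nat.card (Subgroup.centralizer ({m.ι (xRep 1)} : Set G)) = 6 :=
    (m.centralizer_card _ (Or.inr b3)).trans xRep_cent.2
  have h := isConj_of_cubes (x := m.ι (xRep 0)) (y := m.ι (xRep 1))
    (by rw [← map_pow, a1, map_one]) (by rw [← map_pow, b1, map_one])
    (isConj_iff.mpr ⟨m.ι k, by rw [← map_inv, ← map_mul, ← map_mul, hk, map_inv]⟩)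
    (isConj_iff.mpr ⟨m.ι k', by rw [← map_inv, ← map_mul, ← map_mul, hk', map_inv]⟩)
    (by rwa [← map_pow, ← map_pow, a2, b2]) (hne 0) (hne 1) (by rw [hc0]; norm_num)
  obtain ⟨g, hg⟩ := isConj_iff.mp h
  have e : Nat.card (Subgroup.centralizer ({m.ι (xRep 0)} : Set G)) =
      Nat.card (Subgroup.centralizer ({m.ι (xRep 1)} : Set G)) := by
    refine Nat.card_congr ((MulAut.conj g).toEquiv.subtypeEquiv fun z => ?_)
    simp only [Subgroup.mem_centralizer_singleton_iff]
    rw [← hg]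
    show _ ↔ g * z * g⁻¹ * (g * m.ι (xRep 0) * g⁻¹) = g * m.ι (xRep 0) * g⁻¹ * (g * z * g⁻¹)
    constructor
    · intro hz
      rw [show g * z * g⁻¹ * (g * m.ι (xRep 0) * g⁻¹) = g * (z * m.ι (xRep 0)) * g⁻¹ by group, hz]
      group
    · intro hz
      rw [show g * z * g⁻¹ * (g * m.ι (xRep 0) * g⁻¹) = g * (z * m.ι (xRep 0)) * g⁻¹ by group,
        show g * m.ι (xRep 0) * g⁻¹ * (g * z * g⁻¹) = g * (m.ι (xRep 0) * z) * g⁻¹ by group] at hz
      exact mul_left_cancel (mul_right_cancel hz)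
  omega

theorem Emb.class_inter [Fintype G] {t : Fin 2} {x : HM} (h : IsConj (m.ι (tRep t)) (m.ι x)) :
    x ∈ invList t := by
  obtain ⟨g, hg⟩ := isConj_iff.mp h
  have hx2 : x * x = 1 := m.inj (by
    rw [map_mul, ← hg, map_one,
      show g * m.ι (tRep t) * g⁻¹ * (g * m.ι (tRep t) * g⁻¹) = g * m.ι (tRep t * tRep t) * g⁻¹ by
        rw [map_mul]; group,
      (tRep_sq t).1, map_one]
    group)
  have hne : x ≠ 1 := fun e => by
    rw [e, map_one] at hg
    exact (tRep_sq t).2 (m.inj ((conj_eq_one_iff.mp hg).trans (map_one _).symm))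
  rcases invList_all x hx2 with e | e | e
  · exact absurd e hne
  all_goals
    fin_cases t
  · exact e
  · obtain ⟨-, k, hk⟩ := invList_conj 0 x e
    exact absurd ((isConj_iff.mpr ⟨m.ι k, by rw [← map_inv, ← map_mul, ← map_mul, hk]⟩ :
      IsConj (m.ι (tRep 0)) (m.ι x)).trans h.symm) m.not_fused
  · obtain ⟨-, k, hk⟩ := invList_conj 1 x e
    exact absurd (h.trans (isConj_iff.mpr ⟨m.ι k, by rw [← map_inv, ← map_mul, ← map_mul, hk]⟩ :
      IsConj (m.ι (tRep 1)) (m.ι x)).symm) m.not_fused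
  · exact e

/-- The induced function. -/
noncomputable def Emb.tau [Fintype G] (i : Fin 6) : G → ℂ :=
  indFun m.ι.range fun y => cphi i ((MonoidHom.ofInjective m.inj).symm y)

theorem cphi_support (i : Fin 6) {h : HM} (hh : ¬ InA h) : cphi i h = 0 := by
  have := val_support i h (by rwa [← Bool.not_eq_true, inAb_iff])
  simp [cphi, this]

theorem isGenChar_comp {A B : Type*} [Group A] [Finite A] [Group B] [Finite B] {χ : B → ℂ}
    (h : IsGeneralizedCharacter B χ) (f : A →* B) : IsGeneralizedCharacter A (fun x => χ (f x)) := by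
  obtain ⟨a, b, ha, hb, rfl⟩ := h
  exact ⟨_, _, isCharacter_comp ha f, isCharacter_comp hb f, rfl⟩

theorem Emb.tau_gen [Fintype G] (i : Fin 6) : IsGeneralizedCharacter G (m.tau i) :=
  isGenChar_indFun _ (isGenChar_comp (cphi_genChar i) (MonoidHom.ofInjective m.inj).symm.toMonoidHom)

theorem card_HM : Fintype.card HM = 648 := by decide +kernel

theorem cphi_mul (i j : Fin 6) (h : HM) :
    cphi i h * conj (cphi j h) = ((pmul (val i h) (val j h)).1 : ℂ) + ((pmul (val i h) (val j h)).2 : ℂ) * s3 := by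
  simp only [cphi, pmul, map_add, map_mul, map_intCast, show conj s3 = s3 from Complex.conj_ofReal _]
  push_cast
  linear_combination ((val i h).2 : ℂ) * (val j h).2 * s3_sq

theorem cast_sum_pair {ι : Type*} (s : Finset ι) (F : ι → ℤ × ℤ) :
    ∑ x ∈ s, (((F x).1 : ℂ) + ((F x).2 : ℂ) * s3) = (((∑ x ∈ s, F x).1 : ℤ) : ℂ) + ((∑ x ∈ s, F x).2 : ℤ) * s3 := by
  rw [Prod.fst_sum, Prod.snd_sum, Finset.sum_add_distrib, ← Finset.sum_mul]
  push_cast
  rfl

theorem classInner_cphi (i j : Fin 6) : classInner (cphi i) (cphi j) = (gram i j : ℂ) := by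
  show (Nat.card HM : ℂ)⁻¹ * ∑ h, cphi i h * conj (cphi j h) = _
  rw [Finset.sum_congr rfl fun h _ => cphi_mul i j h, cast_sum_pair, val_inner i j,
    Nat.card_eq_fintype_card, card_HM]
  have e : ∀ i j : Fin 6, (innerTable.getD i.1 []).getD j.1 0 = 648 * gram i j := by decide
  rw [e]
  push_cast
  field_simp
  ring

open scoped Classical in
theorem Emb.sum_range [Fintype G] (F : m.ι.range → ℂ) :
    ∑ y : m.ι.range, F y = ∑ h : HM, F (MonoidHom.ofInjective m.inj h) :=
  ((MonoidHom.ofInjective m.inj).toEquiv.sum_comp F).symm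

theorem Emb.card_range [Fintype G] : (Nat.card m.ι.range : ℂ) = 648 := by
  rw [← Nat.card_congr (MonoidHom.ofInjective m.inj).toEquiv, Nat.card_eq_fintype_card,
    card_HM]
  norm_num

open scoped Classical in
theorem Emb.tau_inner [Fintype G] (i j : Fin 6) : classInner (m.tau i) (m.tau j) = (gram i j : ℂ) := by
  have hS : ∀ (n : Fin 6) (y : m.ι.range), (y : G) ∉ m.supp →
      cphi n ((MonoidHom.ofInjective m.inj).symm y) = 0 := fun n y hy =>
    cphi_support n fun e => hy ⟨_, e, congrArg Subtype.val ((MonoidHom.ofInjective m.inj).apply_symm_apply y)⟩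
  rw [Emb.tau, Emb.tau, classInner_indFun_of_TI m.ι.range m.supp ?_ ?_ (hS i) (hS j) ?_, ← classInner_cphi i j]
  · show (Nat.card m.ι.range : ℂ)⁻¹ * _ = (Nat.card HM : ℂ)⁻¹ * _
    rw [m.card_range, Nat.card_eq_fintype_card, card_HM, m.sum_range]
    simp
  · rintro g hg s ⟨a, ha, rfl⟩ ⟨b, hb', hb⟩
    exact absurd (m.ctrl_supp ha hb' hb.symm) hg
  · exact (isGenChar_iff_coeff_int.mp
      (isGenChar_comp (cphi_genChar j) (MonoidHom.ofInjective m.inj).symm.toMonoidHom)).1
  · simp [cphi, val_one]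

open scoped Classical in
theorem Emb.tau_involution [Fintype G] (i : Fin 6) {g : G} (hg : g * g = 1) : m.tau i g = 0 := by
  rw [Emb.tau, indFun, Finset.sum_eq_zero, mul_zero]
  intro x _
  by_cases hx : x⁻¹ * g * x ∈ m.ι.range
  · rw [extendByZero_of_mem _ _ hx]
    refine cphi_support i fun e => ?_
    have h2 : (⟨_, hx⟩ : m.ι.range) * ⟨_, hx⟩ = 1 := Subtype.ext (by
      show x⁻¹ * g * x * (x⁻¹ * g * x) = 1
      rw [show x⁻¹ * g * x * (x⁻¹ * g * x) = x⁻¹ * (g * g) * x by group, hg]; group)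
    have := no_involution_inA _ (by rw [← map_mul, h2, map_one] :
      (MonoidHom.ofInjective m.inj).symm ⟨_, hx⟩ * (MonoidHom.ofInjective m.inj).symm ⟨_, hx⟩ = 1)
    rw [← inAb_iff, this] at e
    exact absurd e (by simp)
  · exact extendByZero_of_not_mem _ _ hx

theorem Emb.pair_count [Fintype G] [DecidableEq G] (i : Fin 6) (s t : Fin 2) :
    ∑ h : HM, cphi i h * (((Finset.univ.filter (IsConj (m.ι (tRep s)))).filter
      fun x => x⁻¹ * m.ι h ∈ Finset.univ.filter (IsConj (m.ι (tRep t)))).card : ℂ) =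
      (((pairTable.getD i.1 []).getD (pairIdx s t) 0 : ℤ) : ℂ) := by
  have hconj : ∀ (r : Fin 2), ∀ x ∈ invList r, IsConj (m.ι (tRep r)) (m.ι x) := fun r x hx => by
    obtain ⟨-, k, hk⟩ := invList_conj r x hx
    exact isConj_iff.mpr ⟨m.ι k, by rw [← map_inv, ← map_mul, ← map_mul, hk]⟩
  have hinv : ∀ (r : Fin 2) (z : G), IsConj (m.ι (tRep r)) z → z * z = 1 := fun r z hz => by
    obtain ⟨g, rfl⟩ := isConj_iff.mp hz
    rw [show g * m.ι (tRep r) * g⁻¹ * (g * m.ι (tRep r) * g⁻¹) = g * m.ι (tRep r * tRep r) * g⁻¹ by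
      rw [map_mul]; group, (tRep_sq r).1, map_one]
    group
  have hcount : ∀ h : HM, cphi i h *
      (((Finset.univ.filter (IsConj (m.ι (tRep s)))).filter
        fun x => x⁻¹ * m.ι h ∈ Finset.univ.filter (IsConj (m.ι (tRep t)))).card : ℂ) =
      cphi i h * (((invList s).toFinset.filter fun x => x⁻¹ * h ∈ invList t).card : ℂ) := fun h => by
    by_cases hh : InA h
    swap
    · rw [cphi_support i hh, zero_mul, zero_mul]
    refine congrArg (fun z : ℕ => cphi i h * (z : ℂ)) ((Finset.card_bij (fun x _ => m.ι x) ?_ ?_ ?_).symm)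
    · intro x hx
      rw [Finset.mem_filter, List.mem_toFinset] at hx
      simp only [Finset.mem_filter, Finset.mem_univ, true_and]
      refine ⟨hconj s x hx.1, ?_⟩
      rw [← map_inv, ← map_mul]
      exact hconj t _ hx.2
    · exact fun a _ b _ e => m.inj e
    · intro z hz
      simp only [Finset.mem_filter, Finset.mem_univ, true_and] at hz
      obtain ⟨hz1, hz2⟩ := hz
      have z2 := hinv s z hz1
      have y2 := hinv t _ hz2
      have hzi : z⁻¹ = z := inv_eq_of_mul_eq_one_right z2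
      have hzh : z * m.ι h * z⁻¹ = (m.ι h)⁻¹ := by
        rw [hzi] at y2 ⊢
        exact eq_inv_of_mul_eq_one_left (by simpa [mul_assoc] using y2)
      obtain ⟨x, rfl⟩ := m.ctrl_supp hh hh.inv (g := z) (by rw [hzh, map_inv])
      rw [← map_inv, ← map_mul] at hz2
      exact ⟨x, by rw [Finset.mem_filter, List.mem_toFinset]; exact ⟨m.class_inter hz1, m.class_inter hz2⟩, rfl⟩
  rw [Finset.sum_congr rfl fun h _ => hcount h]
  have hv := congrArg (fun p : ℤ × ℤ => (p.1 : ℂ) + (p.2 : ℂ) * s3) (val_pairs i s t)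
  simp only at hv
  rw [Int.cast_zero, zero_mul, add_zero, ← List.sum_toFinset _ (invList_nodup s), ← cast_sum_pair] at hv
  rw [← hv]
  have e1 : ∀ h : HM, cphi i h * (((invList s).toFinset.filter fun x => x⁻¹ * h ∈ invList t).card : ℂ) =
      ∑ x ∈ (invList s).toFinset, if x⁻¹ * h ∈ invList t then cphi i h else 0 := fun h => by
    rw [← Finset.sum_filter, Finset.sum_const, nsmul_eq_mul, mul_comm]
  rw [Finset.sum_congr rfl fun h _ => e1 h, Finset.sum_comm]
  refine Finset.sum_congr rfl fun x _ => ?_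
  rw [← List.sum_toFinset _ (invList_nodup t), ← cast_sum_pair, ← Equiv.sum_comp (Equiv.mulLeft x)]
  simp only [Equiv.coe_mulLeft, inv_mul_cancel_left]
  rw [← Finset.sum_filter]
  refine Finset.sum_congr ?_ fun y _ => rfl
  ext y
  simp

open scoped Classical in
theorem Emb.coeff_eq [Fintype G] (i : Fin 6) {χ : G → ℂ} (hχ : IsClassFunction G χ) :
    classInner (m.tau i) χ = (648 : ℂ)⁻¹ * ∑ h : HM, cphi i h * conj (χ (m.ι h)) := by
  rw [Emb.tau, frobenius_reciprocity _ _ hχ]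
  show (Nat.card m.ι.range : ℂ)⁻¹ * _ = _
  rw [m.card_range, m.sum_range]
  simp [MonoidHom.ofInjective_apply]

open scoped Classical in
theorem Emb.exists_two [Fintype G] : ∃ χ : IrrCharacter G, (χ : G → ℂ) 1 = 2 ∧ (χ : G → ℂ) (m.ι (tRep 0)) = 2 := by
  choose c hsum hcoef _hn using fun i => classInner_self_eq_sum_sq (m.tau_gen i)
  choose d hd using fun χ : IrrCharacter G => irr_degree_pos χ.2
  set o : IrrCharacter G := ⟨fun _ => 1, isIrrCharacter_one⟩ with ho
  let A : Fin 2 → Finset G := fun t => Finset.univ.filter (IsConj (m.ι (tRep t)))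
  let r : ℂ := ((Real.sqrt (3 * (Nat.card G : ℝ)) : ℝ) : ℂ)
  have hr : r ^ 2 = 3 * (Nat.card G : ℂ) := by
    show (((Real.sqrt _ : ℝ) : ℂ)) ^ 2 = _
    rw [← Complex.ofReal_pow, Real.sq_sqrt (by positivity)]
    push_cast
    rfl
  have hG : (Nat.card G : ℂ) ≠ 0 := Nat.cast_ne_zero.mpr Nat.card_pos.ne'
  have hr0 : r ≠ 0 := fun e => by
    rw [e, zero_pow two_ne_zero] at hr
    exact hG (mul_eq_zero.mp hr.symm |>.resolve_left (by norm_num))
  have hAne : ∀ t, ((A t).card : ℂ) ≠ 0 := fun t => Nat.cast_ne_zero.mpr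
    (Finset.card_pos.mpr ⟨m.ι (tRep t), Finset.mem_filter.mpr ⟨Finset.mem_univ _, IsConj.refl _⟩⟩).ne'
  have hAinv : ∀ t, ∀ x ∈ A t, ∀ g : G, g * x * g⁻¹ ∈ A t := fun t x hx g =>
    Finset.mem_filter.mpr ⟨Finset.mem_univ _, (Finset.mem_filter.mp hx).2.trans (isConj_iff.mpr ⟨g, rfl⟩)⟩
  have hAsum : ∀ t, ∀ χ : IrrCharacter G,
      ∑ x ∈ A t, (χ : G → ℂ) x = ((A t).card : ℂ) * (χ : G → ℂ) (m.ι (tRep t)) := fun t χ => by
    rw [Finset.sum_congr rfl fun x hx =>
      (isClassFunction_iff_isConj.mp (isClassFunction_irr χ.2) _ x (Finset.mem_filter.mp hx).2).symm,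
      Finset.sum_const, nsmul_eq_mul]
  have hR : ∀ (i : Fin 6) (s t : Fin 2), ∑ χ : IrrCharacter G, (c i χ : ℂ) *
      (((χ : G → ℂ) (m.ι (tRep s)) * (A s).card / r) * ((χ : G → ℂ) (m.ι (tRep t)) * (A t).card / r) /
        (χ : G → ℂ) 1) = (((pairTable.getD i.1 []).getD (pairIdx s t) 0 : ℤ) : ℂ) / 1944 := by
    intro i s t
    have hcount : ∑ χ : IrrCharacter G, (c i χ : ℂ) *
        ((∑ x ∈ A s, (χ : G → ℂ) x) * (∑ y ∈ A t, (χ : G → ℂ) y) / (χ : G → ℂ) 1) =
        (Nat.card G : ℂ) * (648 : ℂ)⁻¹ * (((pairTable.getD i.1 []).getD (pairIdx s t) 0 : ℤ) : ℂ) := by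
      rw [← m.pair_count i s t]
      simp only [← hcoef i, m.coeff_eq i (isClassFunction_irr (Subtype.prop _))]
      rw [Finset.sum_congr rfl fun (χ : IrrCharacter G) _ => (by rw [mul_assoc, Finset.sum_mul, Finset.mul_sum] :
        (648 : ℂ)⁻¹ * (∑ h : HM, cphi i h * conj ((χ : G → ℂ) (m.ι h))) *
          ((∑ x ∈ A s, (χ : G → ℂ) x) * (∑ y ∈ A t, (χ : G → ℂ) y) / (χ : G → ℂ) 1) =
        ∑ h : HM, (648 : ℂ)⁻¹ * (cphi i h * conj ((χ : G → ℂ) (m.ι h)) *
          ((∑ x ∈ A s, (χ : G → ℂ) x) * (∑ y ∈ A t, (χ : G → ℂ) y) / (χ : G → ℂ) 1))), Finset.sum_comm,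
        Finset.mul_sum]
      refine Finset.sum_congr rfl fun h _ => ?_
      rw [show (Nat.card G : ℂ) * (648 : ℂ)⁻¹ * (cphi i h * (((A s).filter fun x => x⁻¹ * m.ι h ∈ A t).card : ℂ)) =
        (648 : ℂ)⁻¹ * cphi i h * ((Nat.card G : ℂ) * (((A s).filter fun x => x⁻¹ * m.ι h ∈ A t).card : ℂ)) by ring,
        card_pairs_two (A s) (A t) (hAinv s) (hAinv t), Finset.mul_sum]
      refine Finset.sum_congr rfl fun χ _ => ?_
      ring
    simp only [hAsum] at hcount
    rw [← mul_right_inj' (pow_ne_zero 2 hr0), Finset.mul_sum]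
    refine Eq.trans ?_ (hcount.trans ?_)
    · refine Finset.sum_congr rfl fun χ _ => ?_
      field_simp
    · rw [hr]
      field_simp
      ring
  have hsumτ : ∀ (i : Fin 6) (g : G), g * g = 1 → ∑ χ : IrrCharacter G, (c i χ : ℂ) * (χ : G → ℂ) g = 0 := by
    intro i g hg
    have := congrFun (hsum i) g
    rw [m.tau_involution i hg, Finset.sum_apply] at this
    exact this.symm
  have ht2 : ∀ t, m.ι (tRep t) * m.ι (tRep t) = 1 := fun t => by rw [← map_mul, (tRep_sq t).1, map_one]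
  have hinner : ∀ i j, ∑ χ : IrrCharacter G, c i χ * c j χ = gram i j := by
    intro i j
    have e := m.tau_inner i j
    rw [hsum j, classInner_sum_right] at e
    simp only [classInner_smul_right, map_intCast, hcoef] at e
    have e' : ((∑ χ : IrrCharacter G, c j χ * c i χ : ℤ) : ℂ) = ((gram i j : ℤ) : ℂ) := by push_cast; exact e
    rw [← Int.cast_injective e']
    exact Finset.sum_congr rfl fun χ _ => mul_comm _ _
  have hexc : Exc c (fun χ => (d χ : ℤ)) (fun χ => (χ : G → ℂ) (m.ι (tRep 0)) * (A 0).card / r)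
      (fun χ => (χ : G → ℂ) (m.ι (tRep 1)) * (A 1).card / r) o := by
    have hdc : ∀ χ : IrrCharacter G, (((d χ : ℤ)) : ℂ) = (χ : G → ℂ) 1 := fun χ => by
      rw [(hd χ).2]; norm_num
    have hscale : ∀ (i : Fin 6) (t : Fin 2),
        ∑ χ : IrrCharacter G, (c i χ : ℂ) * ((χ : G → ℂ) (m.ι (tRep t)) * (A t).card / r) = 0 := fun i t => by
      rw [Finset.sum_congr rfl fun (χ : IrrCharacter G) _ =>
        (show (c i χ : ℂ) * ((χ : G → ℂ) (m.ι (tRep t)) * (A t).card / r) =
          (c i χ : ℂ) * (χ : G → ℂ) (m.ι (tRep t)) * ((A t).card / r) by ring), ← Finset.sum_mul,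
        hsumτ i _ (ht2 t), zero_mul]
    refine ⟨hinner, fun i => ?_, fun i => ?_, fun i => hscale i 0, fun i => hscale i 1, fun i => ?_, fun i => ?_,
      fun i => ?_, fun χ => by exact_mod_cast (hd χ).1, ?_⟩
    · have e := hcoef i o
      rw [m.coeff_eq i (isClassFunction_irr o.2)] at e
      have e2 : ∑ h : HM, cphi i h = ((([0, 0, 648, 0, 648, 0] : List ℤ).getD i.1 0 : ℤ) : ℂ) := by
        show ∑ h : HM, (((val i h).1 : ℂ) + ((val i h).2 : ℂ) * s3) = _
        rw [cast_sum_pair, val_sum]; simp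
      simp only [ho, map_one, mul_one, e2] at e
      have e3 : ∀ n : Fin 6,
          ([0, 0, 648, 0, 648, 0] : List ℤ).getD n.1 0 = 648 * ([0, 0, 1, 0, 1, 0] : List ℤ).getD n.1 0 := by decide
      rw [e3, Int.cast_mul, Int.cast_ofNat, inv_mul_cancel_left₀ (by norm_num)] at e
      exact Int.cast_injective e.symm
    · have := hsumτ i 1 (mul_one 1)
      simp only [← hdc] at this
      exact_mod_cast this
    · simp only [hdc]
      rw [hR]
      fin_cases i <;> norm_num [pairTable, pairIdx]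
    · simp only [hdc]
      rw [hR]
      fin_cases i <;> norm_num [pairTable, pairIdx]
    · simp only [hdc]
      rw [hR]
      fin_cases i <;> norm_num [pairTable, pairIdx]
    · have := hdc o
      simp only [ho] at this
      exact_mod_cast this
  obtain ⟨χ, h2, hu⟩ := hexc.exists_degree_two
  have h2' : (χ : G → ℂ) 1 = 2 := by
    rw [(hd χ).2]
    exact_mod_cast h2
  refine ⟨χ, h2', mul_right_cancel₀ (div_ne_zero (hAne 0) hr0) ?_⟩
  simp only [ho] at hu
  linear_combination hu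

end CfsgLib.A9Local
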