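import Cfsg.Agent.Lib.A9Local.Whole

set_option autoImplicit false

/-!
The translations are the only abelian subgroup of order 27 of the model, and the local data that make
the model the whole group.
-/

namespace CfsgLib.A9Local

theorem small_cent : ∀ h : HM, h.g ≠ 0 → cube (cube (cube h)) = 1 →
    (Finset.univ.filter fun k : HM => k * h = h * k).card < 27 := by decide +kernel

theorem transl_of_comm_basis : ∀ h : HM, cube h = 1 → h * basisVec 0 = basisVec 0 * h → h.g = 0 := by
  decide +kernel

theorem exists_comm_transl : ∀ h : HM, h.g ≠ 0 → cube h = 1 →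
    ∃ k : HM, k.g = 0 ∧ k ≠ 1 ∧ k * h = h * k := by decide +kernel

/-- An abelian subgroup of order 27 consists of translations. -/
theorem eq_transl {D : Subgroup HM} (hc : ∀ a ∈ D, ∀ b ∈ D, a * b = b * a) (h27 : Nat.card D = 27) :
    D = transl := by
  refine Subgroup.eq_of_le_of_card_ge (fun h hh => ?_) (by rw [card_transl, h27])
  by_contra hg
  have hpow : h ^ 27 = 1 := by
    rw [← h27]
    have := congrArg Subtype.val (pow_card_eq_one' (x := (⟨h, hh⟩ : D)))
    rwa [Subgroup.coe_pow, Subgroup.coe_one] at this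
  have hlt := small_cent h hg (by rw [cube_eq, cube_eq, cube_eq, ← pow_mul, ← pow_mul]; exact hpow)
  have hle : Nat.card D ≤ (Finset.univ.filter fun k : HM => k * h = h * k).card := by
    classical
    rw [Nat.card_eq_fintype_card, ← Fintype.card_coe]
    exact Fintype.card_le_of_injective
      (fun k => ⟨(k : HM), Finset.mem_filter.mpr ⟨Finset.mem_univ _, hc _ k.2 _ hh⟩⟩)
      fun a b e => by simpa using e
  omega

universe u

variable {G : Type u} [Group G] {ι : HM →* G}

/-- Pulling back a subgroup of the range of order 27. -/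
theorem comap_eq_transl (hι : Function.Injective ι) {A : Subgroup G} (hA : A ≤ ι.range)
    (hc : ∀ a ∈ A, ∀ b ∈ A, a * b = b * a) (h27 : Nat.card A = 27) : A = transl.map ι := by
  have e : A.comap ι = transl := eq_transl
    (fun a ha b hb => hι (by rw [map_mul, map_mul]; exact hc _ ha _ hb))
    (by rw [Nat.card_congr (Subgroup.equivMapOfInjective (A.comap ι) ι hι).toEquiv, Subgroup.map_comap_eq_self hA, h27])
  rw [← e, Subgroup.map_comap_eq_self hA]

theorem conj_map_transl_le (g : G) {k k' : HM} (hk : k.g = 0) (hg : g * ι k * g⁻¹ = ι k') :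
    (transl.map ι).map (MulAut.conj g).toMonoidHom ≤ Subgroup.centralizer ({ι k'} : Set G) := by
  rintro _ ⟨_, ⟨x, hx, rfl⟩, rfl⟩
  rw [Subgroup.mem_centralizer_singleton_iff]
  have hc : x * k = k * x := by
    obtain ⟨v, r⟩ := x
    obtain ⟨w, s⟩ := k
    replace hx : r = 0 := hx
    replace hk : s = 0 := hk
    subst hx hk
    show (⟨_, _⟩ : HM) = ⟨_, _⟩
    simp [act_one, add_comm]
  show g * ι x * g⁻¹ * ι k' = ι k' * (g * ι x * g⁻¹)
  rw [← hg, show g * ι x * g⁻¹ * (g * ι k * g⁻¹) = g * (ι x * ι k) * g⁻¹ by group, ← map_mul, hc, map_mul]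
  group

/-- If the centralizers of the nontrivial translations lie in the normalizer of the translations, the
model is the whole group. -/
theorem range_eq_top [Finite G] (hι : Function.Injective ι)
    (hN : Subgroup.normalizer ((transl.map ι : Subgroup G) : Set G) = ι.range)
    (hcent : ∀ k : HM, k.g = 0 → k ≠ 1 → Subgroup.centralizer ({ι k} : Set G) ≤ ι.range) : ι.range = ⊤ := by
  have h27 : ∀ g : G, Nat.card ((transl.map ι).map (MulAut.conj g).toMonoidHom) = 27 := fun g => by
    rw [Subgroup.card_map_of_injective (MulAut.conj g).injective, Subgroup.card_map_of_injective hι, card_transl]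
  have hab : ∀ g : G, ∀ a ∈ (transl.map ι).map (MulAut.conj g).toMonoidHom,
      ∀ b ∈ (transl.map ι).map (MulAut.conj g).toMonoidHom, a * b = b * a := by
    rintro g _ ⟨_, ⟨x, hx, rfl⟩, rfl⟩ _ ⟨_, ⟨y, hy, rfl⟩, rfl⟩
    have hc : x * y = y * x := by
      obtain ⟨v, r⟩ := x
      obtain ⟨w, s⟩ := y
      replace hx : r = 0 := hx
      replace hy : s = 0 := hy
      subst hx hy
      show (⟨_, _⟩ : HM) = ⟨_, _⟩
      simp [act_one, add_comm]
    rw [← map_mul, ← map_mul, ← map_mul, ← map_mul, hc]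
  have hfix : ∀ g : G, (transl.map ι).map (MulAut.conj g).toMonoidHom = transl.map ι → g ∈ ι.range := by
    intro g e
    rw [← hN, Subgroup.mem_normalizer_iff]
    intro z
    refine ⟨fun hz => ?_, fun hz => ?_⟩
    · have : g * z * g⁻¹ ∈ (transl.map ι).map (MulAut.conj g).toMonoidHom := ⟨z, hz, rfl⟩
      rwa [e] at this
    · rw [← e] at hz
      obtain ⟨y, hy, hye⟩ := hz
      rwa [← mul_left_cancel (mul_right_cancel (show g * y * g⁻¹ = g * z * g⁻¹ from hye))]
  have hctrl : ∀ k : HM, k.g = 0 → k ≠ 1 → ∀ k' : HM, k'.g = 0 → ∀ g : G,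
      g * ι k * g⁻¹ = ι k' → g ∈ ι.range := by
    intro k hk hk1 k' hk' g hg
    have hk'1 : k' ≠ 1 := fun e => hk1 (hι (by rw [map_one]; rw [e, map_one] at hg; exact conj_eq_one_iff.mp hg))
    exact hfix g (comap_eq_transl hι ((conj_map_transl_le g hk hg).trans (hcent k' hk' hk'1)) (hab g) (h27 g))
  refine (⟨ι, hι, hctrl, fun g hg => ?_, hcent⟩ : Emb G).top
  obtain ⟨h, hh⟩ := hg
  by_cases hg0 : h.g = 0
  · exact hctrl _ rfl (by decide +kernel) h hg0 g hh.symm
  exfalso
  have hcube : cube h = 1 := hι (by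
    rw [cube_eq, map_pow, hh, conj_pow, ← map_pow, show basisVec 0 ^ 3 = 1 by decide +kernel, map_one,
      mul_one, mul_inv_cancel])
  obtain ⟨k, hk, hk1, hkh⟩ := exists_comm_transl h hg0 hcube
  -- the pullback of `k` centralizes `a`, so is a translation
  have hmem : g⁻¹ * ι k * g ∈ Subgroup.centralizer ({ι (basisVec 0)} : Set G) := by
    have e : ι k * (g * ι (basisVec 0) * g⁻¹) = g * ι (basisVec 0) * g⁻¹ * ι k := by
      rw [← hh, ← map_mul, ← map_mul, hkh]
    rw [Subgroup.mem_centralizer_singleton_iff]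
    calc g⁻¹ * ι k * g * ι (basisVec 0) = g⁻¹ * (ι k * (g * ι (basisVec 0) * g⁻¹)) * g := by group
      _ = ι (basisVec 0) * (g⁻¹ * ι k * g) := by rw [e]; group
  obtain ⟨z, hz⟩ := hcent _ rfl (by decide +kernel) hmem
  have hz3 : cube z = 1 := hι (by
    have k3 : k ^ 3 = 1 := (by decide +kernel : ∀ k : HM, k.g = 0 → k ^ 3 = 1) k hk
    rw [cube_eq, map_pow, hz, map_one]
    calc (g⁻¹ * ι k * g) ^ 3 = g⁻¹ * (ι k) ^ 3 * g := by
          have := conj_pow (a := g⁻¹) (b := ι k) (i := 3); rwa [inv_inv] at this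
      _ = 1 := by rw [← map_pow, k3, map_one]; group)
  have hzc : z * basisVec 0 = basisVec 0 * z := hι (by
    rw [map_mul, map_mul, hz]; exact Subgroup.mem_centralizer_singleton_iff.mp hmem)
  have hzT := transl_of_comm_basis z hz3 hzc
  -- hence the conjugate of the translations centralizes `k`
  have hgk : g * ι z * g⁻¹ = ι k := by rw [hz]; group
  have hgr : g ∈ ι.range := hctrl z hzT (fun e => hk1 (hι (by rw [← hgk, e, map_one]; group))) k hk g hgk
  obtain ⟨r, rfl⟩ := hgr
  exact hg0 (by
    rw [hι (show ι h = ι (r * basisVec 0 * r⁻¹) by rw [hh, map_mul, map_mul, map_inv])]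
    exact transl_normal.conj_mem _ rfl r)

end CfsgLib.A9Local
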