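import Cfsg.Agent.Lib.A9Local.Algebra
import Mathlib.Algebra.BigOperators.Group.Finset.Basic
import Mathlib.Algebra.BigOperators.Ring.Finset
import Mathlib.Data.Fintype.Basic
import Mathlib.Tactic.Linarith
import Mathlib.Algebra.Order.BigOperators.Group.Finset

set_option autoImplicit false

/-!
Six integral vectors with the inner products of the exceptional functions force a constituent of degree two.
-/

namespace CfsgLib.A9Local

/-- The inner products of the six functions. -/
def gram : Fin 6 → Fin 6 → ℤ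
  | ⟨i, _⟩, ⟨j, _⟩ => (([[3, -1, 1, 1, -1, 0], [-1, 3, 1, 1, 1, -1], [1, 1, 4, 1, 1, 0], [1, 1, 1, 4, 1, 0],
      [-1, 1, 1, 1, 4, 0], [0, -1, 0, 0, 0, 2]] : List (List ℤ)).getD i []).getD j 0

variable {I : Type*} [Fintype I] [DecidableEq I]

/-- The data of the exceptional functions: multiplicities, degrees, values at the two involutions. -/
structure Exc (c : Fin 6 → I → ℤ) (d : I → ℤ) (u w : I → ℂ) (o : I) : Prop where
  inner : ∀ i j, ∑ x, c i x * c j x = gram i j
  atO : ∀ i, c i o = ([0, 0, 1, 0, 1, 0] : List ℤ).getD i.1 0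
  deg : ∀ i, ∑ x, c i x * d x = 0
  su : ∀ i, ∑ x, (c i x : ℂ) * u x = 0
  sw : ∀ i, ∑ x, (c i x : ℂ) * w x = 0
  quu : ∀ i, ∑ x, (c i x : ℂ) * (u x * u x / d x) = ([0, 1, 1, 1, 1, 0] : List ℂ).getD i.1 0
  qww : ∀ i, ∑ x, (c i x : ℂ) * (w x * w x / d x) = ([1, 0, 2, 2, 3, 0] : List ℂ).getD i.1 0
  quw : ∀ i, ∑ x, (c i x : ℂ) * (u x * w x / d x) = ([0, 0, 1, -1, 0, 0] : List ℂ).getD i.1 0
  pos : ∀ x, 0 < d x
  dO : d o = 1

theorem abs_le_one_of_norm {v : I → ℤ} (h : ∑ x, v x * v x ≤ 3) (x : I) : v x = -1 ∨ v x = 0 ∨ v x = 1 := by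
  have h1 : v x * v x ≤ 3 :=
    (Finset.single_le_sum (f := fun y => v y * v y) (fun y _ => mul_self_nonneg _) (Finset.mem_univ x)).trans h
  have : -1 ≤ v x ∧ v x ≤ 1 := ⟨by nlinarith, by nlinarith⟩
  omega

omit [DecidableEq I] in
theorem card_supp {v : I → ℤ} (h : ∀ x, v x = -1 ∨ v x = 0 ∨ v x = 1) [DecidablePred fun x => v x ≠ 0] :
    ((Finset.univ.filter fun x => v x ≠ 0).card : ℤ) = ∑ x, v x * v x := by
  rw [← Finset.sum_boole]
  exact Finset.sum_congr rfl fun x _ => by rcases h x with e | e | e <;> simp [e]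

theorem third {v : I → ℤ} (h : ∀ x, v x = -1 ∨ v x = 0 ∨ v x = 1) (hn : ∑ x, v x * v x = 3) {a b : I}
    (ha : v a ≠ 0) (hb : v b ≠ 0) (hab : a ≠ b) :
    ∃ e, v e ≠ 0 ∧ e ≠ a ∧ e ≠ b ∧ ∀ x, v x ≠ 0 → x = a ∨ x = b ∨ x = e := by
  have hc := card_supp h
  rw [hn] at hc
  have hsub : ({a, b} : Finset I) ⊆ Finset.univ.filter fun x => v x ≠ 0 := by
    intro x hx
    rcases Finset.mem_insert.mp hx with rfl | hx
    · simpa using ha
    · rw [Finset.mem_singleton.mp hx]; simpa using hb
  have h1 : ((Finset.univ.filter fun x => v x ≠ 0) \ {a, b}).card = 1 := by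
    rw [Finset.card_sdiff_of_subset hsub, Finset.card_pair hab]
    omega
  obtain ⟨e, he⟩ := Finset.card_eq_one.mp h1
  have hm : ∀ x, (v x ≠ 0 ∧ ¬ (x = a ∨ x = b)) ↔ x = e := fun x => by simpa using Finset.ext_iff.mp he x
  obtain ⟨h1, h2⟩ := (hm e).mpr rfl
  refine ⟨e, h1, fun e' => h2 (Or.inl e'), fun e' => h2 (Or.inr e'), fun x hx => ?_⟩
  by_cases hxa : x = a ∨ x = b
  · rcases hxa with h | h
    · exact Or.inl h
    · exact Or.inr (Or.inl h)
  · exact Or.inr (Or.inr ((hm x).mp ⟨hx, hxa⟩))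

theorem fourth_elt {v : I → ℤ} (h : ∀ x, v x = -1 ∨ v x = 0 ∨ v x = 1) (hn : ∑ x, v x * v x = 4) {a b e : I}
    (ha : v a ≠ 0) (hb : v b ≠ 0) (he : v e ≠ 0) (hab : a ≠ b) (hae : a ≠ e) (hbe : b ≠ e) :
    ∃ g, v g ≠ 0 ∧ g ≠ a ∧ g ≠ b ∧ g ≠ e ∧ ∀ x, v x ≠ 0 → x = a ∨ x = b ∨ x = e ∨ x = g := by
  have hc := card_supp h
  rw [hn] at hc
  have hsub : ({a, b, e} : Finset I) ⊆ Finset.univ.filter fun x => v x ≠ 0 := by
    intro x hx
    simp only [Finset.mem_insert, Finset.mem_singleton] at hx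
    rcases hx with rfl | rfl | rfl <;> simpa
  have h1 : ((Finset.univ.filter fun x => v x ≠ 0) \ {a, b, e}).card = 1 := by
    rw [Finset.card_sdiff_of_subset hsub,
      Finset.card_eq_three.mpr ⟨a, b, e, hab, hae, hbe, rfl⟩]
    omega
  obtain ⟨g, hg⟩ := Finset.card_eq_one.mp h1
  have hm : ∀ x, (v x ≠ 0 ∧ ¬ (x = a ∨ x = b ∨ x = e)) ↔ x = g := fun x => by simpa using Finset.ext_iff.mp hg x
  obtain ⟨h1, h2⟩ := (hm g).mpr rfl
  refine ⟨g, h1, fun e' => h2 (Or.inl e'), fun e' => h2 (Or.inr (Or.inl e')), fun e' => h2 (Or.inr (Or.inr e')),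
    fun x hx => ?_⟩
  by_cases hxa : x = a ∨ x = b ∨ x = e
  · rcases hxa with h | h | h
    exacts [Or.inl h, Or.inr (Or.inl h), Or.inr (Or.inr (Or.inl h))]
  · exact Or.inr (Or.inr (Or.inr ((hm x).mp ⟨hx, hxa⟩)))

theorem sum_three {M : Type*} [AddCommMonoid M] (F : I → M) {a b e : I} (hab : a ≠ b) (hae : a ≠ e) (hbe : b ≠ e)
    (hF : ∀ x, x ≠ a → x ≠ b → x ≠ e → F x = 0) : ∑ x, F x = F a + F b + F e := by
  rw [← Finset.sum_subset (Finset.subset_univ ({a, b, e} : Finset I)) fun x _ hx => by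
    simp only [Finset.mem_insert, Finset.mem_singleton, not_or] at hx
    exact hF x hx.1 hx.2.1 hx.2.2]
  rw [Finset.sum_insert (by simp [hab, hae]), Finset.sum_insert (by simp [hbe]), Finset.sum_singleton, add_assoc]

theorem sum_four {M : Type*} [AddCommMonoid M] (F : I → M) {a b e g : I} (hab : a ≠ b) (hae : a ≠ e) (hag : a ≠ g)
    (hbe : b ≠ e) (hbg : b ≠ g) (heg : e ≠ g) (hF : ∀ x, x ≠ a → x ≠ b → x ≠ e → x ≠ g → F x = 0) :
    ∑ x, F x = F a + F b + F e + F g := by
  rw [← Finset.sum_subset (Finset.subset_univ ({a, b, e, g} : Finset I)) fun x _ hx => by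
    simp only [Finset.mem_insert, Finset.mem_singleton, not_or] at hx
    exact hF x hx.1 hx.2.1 hx.2.2.1 hx.2.2.2]
  rw [Finset.sum_insert (by simp [hab, hae, hag]), Finset.sum_insert (by simp [hbe, hbg]),
    Finset.sum_insert (by simp [heg]), Finset.sum_singleton, add_assoc, add_assoc]

/-- Two vectors of norm three with odd inner product meet in one coordinate. -/
theorem single_overlap {v v' : I → ℤ} (d : I → ℤ) (hn : ∑ x, v x * v x = 3) (hn' : ∑ x, v' x * v' x = 3)
    (hd : ∀ x, d x ≠ 0) (hv : ∑ x, v x * d x = 0) (hv' : ∑ x, v' x * d x = 0 ∨ ∑ x, v' x * d x = -1)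
    {s : ℤ} (hs : s = 1 ∨ s = -1) (h : ∑ x, v x * v' x = s) :
    ∃ k, v k * v' k = s ∧ ∀ x, v x ≠ 0 → v' x ≠ 0 → x = k := by
  have e1 := abs_le_one_of_norm hn.le
  have e2 := abs_le_one_of_norm hn'.le
  have hc := card_supp e1
  rw [hn] at hc
  obtain ⟨a, b, e, hab, hae, hbe, hS⟩ := Finset.card_eq_three.mp (show (Finset.univ.filter fun x => v x ≠ 0).card = 3 by omega)
  have hm : ∀ x, v x ≠ 0 ↔ (x = a ∨ x = b ∨ x = e) := fun x => by simpa using Finset.ext_iff.mp hS x
  have hz : ∀ x, x ≠ a → x ≠ b → x ≠ e → v x = 0 := fun x h1 h2 h3 => by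
    by_contra hx
    rcases (hm x).mp hx with rfl | rfl | rfl <;> contradiction
  rw [sum_three _ hab hae hbe fun x h1 h2 h3 => by rw [hz x h1 h2 h3, zero_mul]] at h hv
  have va := (hm a).mpr (Or.inl rfl)
  have vb := (hm b).mpr (Or.inr (Or.inl rfl))
  have ve := (hm e).mpr (Or.inr (Or.inr rfl))
  by_cases ha : v' a = 0
  · by_cases hb : v' b = 0
    · exact ⟨e, by rw [ha, hb] at h; simpa using h, fun x hx hx' => by
        rcases (hm x).mp hx with rfl | rfl | rfl
        exacts [absurd ha hx', absurd hb hx', rfl]⟩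
    · by_cases he : v' e = 0
      · exact ⟨b, by rw [ha, he] at h; simpa using h, fun x hx hx' => by
          rcases (hm x).mp hx with rfl | rfl | rfl
          exacts [absurd ha hx', rfl, absurd he hx']⟩
      · exfalso
        rw [ha] at h
        rcases e1 b with p | p | p <;> rcases e1 e with q | q | q <;> rcases e2 b with r | r | r <;>
          rcases e2 e with t | t | t <;> simp [p, q, r, t] at h vb ve hb he <;> omega
  · by_cases hb : v' b = 0
    · by_cases he : v' e = 0
      · exact ⟨a, by rw [hb, he] at h; simpa using h, fun x hx hx' => by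
          rcases (hm x).mp hx with rfl | rfl | rfl
          exacts [rfl, absurd hb hx', absurd he hx']⟩
      · exfalso
        rw [hb] at h
        rcases e1 a with p | p | p <;> rcases e1 e with q | q | q <;> rcases e2 a with r | r | r <;>
          rcases e2 e with t | t | t <;> simp [p, q, r, t] at h va ve ha he <;> omega
    · by_cases he : v' e = 0
      · exfalso
        rw [he] at h
        rcases e1 a with p | p | p <;> rcases e1 b with q | q | q <;> rcases e2 a with r | r | r <;>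
          rcases e2 b with t | t | t <;> simp [p, q, r, t] at h va vb ha hb <;> omega
      · exfalso
        obtain ⟨e', he', h1, h2, hall⟩ := third e2 hn' ha hb hab
        obtain rfl : e = e' := by
          rcases hall e he with h | h | h
          exacts [absurd h.symm hae, absurd h.symm hbe, h]
        rw [sum_three (fun x => v' x * d x) hab hae hbe fun x h1 h2 h3 => by
          by_contra hx
          rcases hall x (fun e0 => hx (by rw [e0, zero_mul])) with rfl | rfl | rfl <;> contradiction] at hv'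
        have key : ∀ x, v x ≠ 0 → v' x ≠ 0 →
            (v x * v' x = 1 ∨ v x * v' x = -1) ∧ v' x * d x = (v x * v' x) * (v x * d x) ∧ v x * d x ≠ 0 := by
          intro x hx hx'
          refine ⟨?_, ?_, mul_ne_zero hx (hd x)⟩
          · rcases e1 x with p | p | p <;> rcases e2 x with q | q | q <;> simp [p, q] at hx hx' ⊢
          · rcases e1 x with p | p | p <;> simp [p] at hx ⊢
        obtain ⟨pa, qa, na⟩ := key a va ha
        obtain ⟨pb, qb, nb⟩ := key b vb hb
        obtain ⟨pe, qe, ne⟩ := key e ve he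
        rw [qa, qb, qe] at hv'
        generalize v a * v' a = A at *
        generalize v b * v' b = B at *
        generalize v e * v' e = C at *
        generalize v a * d a = X at *
        generalize v b * d b = Y at *
        generalize v e * d e = Z at *
        rcases pa with rfl | rfl <;> rcases pb with rfl | rfl <;> rcases pe with rfl | rfl <;> omega

omit [DecidableEq I] in
theorem Exc.d0 {c : Fin 6 → I → ℤ} {d : I → ℤ} {u w : I → ℂ} {o : I} (h : Exc c d u w o) (x : I) : d x ≠ 0 :=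
  (h.pos x).ne'

theorem Exc.entry {c : Fin 6 → I → ℤ} {d : I → ℤ} {u w : I → ℂ} {o : I} (h : Exc c d u w o) (n : Fin 6) (x : I) :
    c n x = -1 ∨ c n x = 0 ∨ c n x = 1 := by
  have hg : ∀ k : Fin 6, gram k k ≤ 4 := by decide
  have h4 : ∑ y, c n y * c n y ≤ 4 := (h.inner n n).trans_le (hg n)
  have h1 : c n x * c n x ≤ 4 :=
    (Finset.single_le_sum (f := fun y => c n y * c n y) (fun y _ => mul_self_nonneg _) (Finset.mem_univ x)).trans h4
  have h2 : -2 ≤ c n x ∧ c n x ≤ 2 := ⟨by nlinarith, by nlinarith⟩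
  by_contra hbad
  have hx : c n x * c n x = 4 := by
    rcases (show c n x = -2 ∨ c n x = 2 by omega) with e | e <;> rw [e] <;> norm_num
  have hz : ∀ y, y ≠ x → c n y = 0 := fun y hy => by
    have := Finset.add_sum_erase Finset.univ (fun y => c n y * c n y) (Finset.mem_univ x)
    have h0 : ∑ y ∈ Finset.univ.erase x, c n y * c n y ≤ 0 := by linarith
    have h0' := le_antisymm h0 (Finset.sum_nonneg fun z _ => mul_self_nonneg _)
    exact mul_self_eq_zero.mp ((Finset.sum_eq_zero_iff_of_nonneg fun z _ => mul_self_nonneg _).mp h0'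
      y (Finset.mem_erase.mpr ⟨hy, Finset.mem_univ _⟩))
  have := h.deg n
  rw [Finset.sum_eq_single x (fun y _ hy => by rw [hz y hy, zero_mul]) (by simp)] at this
  rcases mul_eq_zero.mp this with e | e
  · omega
  · exact h.d0 x e

section
variable (c : Fin 6 → I → ℤ) (d : I → ℤ) (u w : I → ℂ)

/-- A signed degree. -/
noncomputable def sm (n : Fin 6) (x : I) : ℂ := (c n x : ℂ) * (d x : ℂ)

/-- A signed value at the first involution. -/
noncomputable def sx (n : Fin 6) (x : I) : ℂ := (c n x : ℂ) * u x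

/-- A signed value at the second involution. -/
noncomputable def sy (n : Fin 6) (x : I) : ℂ := (c n x : ℂ) * w x

/-- The equations of a function with three constituents. -/
structure Triple (n : Fin 6) (a b e : I) (Kuu Kww Kuw : ℂ) : Prop where
  mm : sm c d n a + sm c d n b + sm c d n e = 0
  xx : sx c u n a + sx c u n b + sx c u n e = 0
  yy : sy c w n a + sy c w n b + sy c w n e = 0
  uu : sx c u n a * sx c u n a / sm c d n a + sx c u n b * sx c u n b / sm c d n b +
    sx c u n e * sx c u n e / sm c d n e = Kuu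
  ww : sy c w n a * sy c w n a / sm c d n a + sy c w n b * sy c w n b / sm c d n b +
    sy c w n e * sy c w n e / sm c d n e = Kww
  uw : sx c u n a * sy c w n a / sm c d n a + sx c u n b * sy c w n b / sm c d n b +
    sx c u n e * sy c w n e / sm c d n e = Kuw

/-- The equations of a function with four constituents. -/
structure Quad (n : Fin 6) (a b e g : I) (Kuu Kww Kuw : ℂ) : Prop where
  mm : sm c d n a + sm c d n b + sm c d n e + sm c d n g = 0
  xx : sx c u n a + sx c u n b + sx c u n e + sx c u n g = 0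
  yy : sy c w n a + sy c w n b + sy c w n e + sy c w n g = 0
  uu : sx c u n a * sx c u n a / sm c d n a + sx c u n b * sx c u n b / sm c d n b +
    sx c u n e * sx c u n e / sm c d n e + sx c u n g * sx c u n g / sm c d n g = Kuu
  ww : sy c w n a * sy c w n a / sm c d n a + sy c w n b * sy c w n b / sm c d n b +
    sy c w n e * sy c w n e / sm c d n e + sy c w n g * sy c w n g / sm c d n g = Kww
  uw : sx c u n a * sy c w n a / sm c d n a + sx c u n b * sy c w n b / sm c d n b +
    sx c u n e * sy c w n e / sm c d n e + sx c u n g * sy c w n g / sm c d n g = Kuw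

end

variable {c : Fin 6 → I → ℤ} {d : I → ℤ} {u w : I → ℂ} {o : I}

omit [Fintype I] [DecidableEq I] in
theorem term_eq {n : Fin 6} {x : I} (hx : c n x = -1 ∨ c n x = 0 ∨ c n x = 1) (f g : I → ℂ) :
    (c n x : ℂ) * (f x * g x / d x) = ((c n x : ℂ) * f x) * ((c n x : ℂ) * g x) / ((c n x : ℂ) * d x) := by
  rcases hx with e | e | e <;> rw [e] <;> simp [neg_div, div_neg]

theorem Exc.triple (h : Exc c d u w o) {n : Fin 6} {a b e : I} (hab : a ≠ b) (hae : a ≠ e) (hbe : b ≠ e)
    (hS : ∀ x, c n x ≠ 0 → x = a ∨ x = b ∨ x = e) :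
    Triple c d u w n a b e (([0, 1, 1, 1, 1, 0] : List ℂ).getD n.1 0) (([1, 0, 2, 2, 3, 0] : List ℂ).getD n.1 0)
      (([0, 0, 1, -1, 0, 0] : List ℂ).getD n.1 0) := by
  have hz : ∀ x, x ≠ a → x ≠ b → x ≠ e → c n x = 0 := fun x h1 h2 h3 => by
    by_contra hx
    rcases hS x hx with rfl | rfl | rfl <;> contradiction
  have key : ∀ F : I → ℂ, ∑ x, (c n x : ℂ) * F x = (c n a : ℂ) * F a + (c n b : ℂ) * F b + (c n e : ℂ) * F e :=
    fun F => sum_three _ hab hae hbe fun x h1 h2 h3 => by rw [hz x h1 h2 h3]; simp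
  have hd := congrArg (fun z : ℤ => (z : ℂ)) (h.deg n)
  push_cast at hd
  refine ⟨?_, ?_, ?_, ?_, ?_, ?_⟩
  · rw [key] at hd; exact hd
  · have := h.su n; rw [key] at this; exact this
  · have := h.sw n; rw [key] at this; exact this
  · have := h.quu n; rw [key, term_eq (h.entry n a), term_eq (h.entry n b), term_eq (h.entry n e)] at this; exact this
  · have := h.qww n; rw [key, term_eq (h.entry n a), term_eq (h.entry n b), term_eq (h.entry n e)] at this; exact this
  · have := h.quw n; rw [key, term_eq (h.entry n a), term_eq (h.entry n b), term_eq (h.entry n e)] at this; exact this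

theorem Exc.quad (h : Exc c d u w o) {n : Fin 6} {a b e g : I} (hab : a ≠ b) (hae : a ≠ e) (hag : a ≠ g)
    (hbe : b ≠ e) (hbg : b ≠ g) (heg : e ≠ g) (hS : ∀ x, c n x ≠ 0 → x = a ∨ x = b ∨ x = e ∨ x = g) :
    Quad c d u w n a b e g (([0, 1, 1, 1, 1, 0] : List ℂ).getD n.1 0) (([1, 0, 2, 2, 3, 0] : List ℂ).getD n.1 0)
      (([0, 0, 1, -1, 0, 0] : List ℂ).getD n.1 0) := by
  have hz : ∀ x, x ≠ a → x ≠ b → x ≠ e → x ≠ g → c n x = 0 := fun x h1 h2 h3 h4 => by
    by_contra hx
    rcases hS x hx with rfl | rfl | rfl | rfl <;> contradiction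
  have key : ∀ F : I → ℂ, ∑ x, (c n x : ℂ) * F x =
      (c n a : ℂ) * F a + (c n b : ℂ) * F b + (c n e : ℂ) * F e + (c n g : ℂ) * F g :=
    fun F => sum_four _ hab hae hag hbe hbg heg fun x h1 h2 h3 h4 => by rw [hz x h1 h2 h3 h4]; simp
  have hd := congrArg (fun z : ℤ => (z : ℂ)) (h.deg n)
  push_cast at hd
  refine ⟨?_, ?_, ?_, ?_, ?_, ?_⟩
  · rw [key] at hd; exact hd
  · have := h.su n; rw [key] at this; exact this
  · have := h.sw n; rw [key] at this; exact this
  · have := h.quu n
    rw [key, term_eq (h.entry n a), term_eq (h.entry n b), term_eq (h.entry n e), term_eq (h.entry n g)] at this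
    exact this
  · have := h.qww n
    rw [key, term_eq (h.entry n a), term_eq (h.entry n b), term_eq (h.entry n e), term_eq (h.entry n g)] at this
    exact this
  · have := h.quw n
    rw [key, term_eq (h.entry n a), term_eq (h.entry n b), term_eq (h.entry n e), term_eq (h.entry n g)] at this
    exact this

end CfsgLib.A9Local
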