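import Cfsg.Agent.Lib.A9Local.Tables
import Mathlib.Algebra.Group.Subgroup.Basic
import Mathlib.Data.Fintype.Prod
import Mathlib.Algebra.Group.MinimalAxioms
import Mathlib.Tactic.Group

set_option autoImplicit false

/-!
The group `3³ : S₄` as a model, with the facts about it that are read off by finite checking.
-/

namespace CfsgLib.A9Local

/-- The translations. -/

abbrev Vec := ZMod 3 × ZMod 3 × ZMod 3

/-- The model. -/

structure HM where
  /-- The translation part. -/
  v : Vec
  /-- The rotation part. -/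
  g : Fin 24
deriving DecidableEq

/-- The elements as pairs. -/

def HM.equivProd : HM ≃ Vec × Fin 24 where
  toFun h := (h.v, h.g)
  invFun p := ⟨p.1, p.2⟩
  left_inv _ := rfl
  right_inv _ := rfl

instance : Fintype HM := Fintype.ofEquiv _ HM.equivProd.symm

theorem act_add : ∀ g : Fin 24, ∀ v w : Vec, act g (v + w) = act g v + act g w := by decide +kernel

theorem act_zero : ∀ g : Fin 24, act g 0 = 0 := by decide +kernel

theorem act_one : ∀ v : Vec, act 0 v = v := by decide +kernel

theorem act_mul : ∀ g h : Fin 24, ∀ v : Vec, act (rMul g h) v = act g (act h v) := by decide +kernel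

theorem rMul_assoc : ∀ a b c : Fin 24, rMul (rMul a b) c = rMul a (rMul b c) := by decide +kernel

theorem rMul_one : ∀ a : Fin 24, rMul 0 a = a ∧ rMul a 0 = a := by decide +kernel

theorem rInv_mul : ∀ a : Fin 24, rMul (rInv a) a = 0 := by decide +kernel

instance : Mul HM := ⟨fun a b => ⟨a.v + act a.g b.v, rMul a.g b.g⟩⟩

instance : One HM := ⟨⟨0, 0⟩⟩

instance : Inv HM := ⟨fun a => ⟨-act (rInv a.g) a.v, rInv a.g⟩⟩

theorem HM.mul_def (a b : HM) : a * b = ⟨a.v + act a.g b.v, rMul a.g b.g⟩ := rfl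

theorem HM.one_def : (1 : HM) = ⟨0, 0⟩ := rfl

theorem act_neg (g : Fin 24) (v : Vec) : act g (-v) = -act g v :=
  eq_neg_of_add_eq_zero_left (by rw [← act_add, neg_add_cancel, act_zero])

instance : Group HM :=
  Group.ofLeftAxioms
    (fun a b c => by
      simp only [HM.mul_def, rMul_assoc, act_add, act_mul, add_assoc])
    (fun a => by simp only [HM.mul_def, HM.one_def, act_one, zero_add, (rMul_one _).1])
    (fun a => by
      show (⟨_, _⟩ : HM) = ⟨0, 0⟩
      rw [HM.mk.injEq]
      exact ⟨neg_add_cancel _, rInv_mul _⟩)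

/-- The translations. -/

def transl : Subgroup HM where
  carrier := {h | h.g = 0}
  mul_mem' {a b} (ha : a.g = 0) (hb : b.g = 0) := show rMul a.g b.g = 0 by rw [ha, hb, (rMul_one 0).1]
  one_mem' := rfl
  inv_mem' {a} (ha : a.g = 0) := show rInv a.g = 0 by rw [ha]; rfl

theorem mem_transl {h : HM} : h ∈ transl ↔ h.g = 0 := Iff.rfl

/-- The support of the class functions: a third or a fourth power is a nontrivial translation. -/

def InA (h : HM) : Prop := ((h ^ 3).g = 0 ∧ h ^ 3 ≠ 1) ∨ ((h ^ 4).g = 0 ∧ h ^ 4 ≠ 1)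

/-- Powers are computed by products. -/

def cube (h : HM) : HM := h * h * h

/-- The fourth power. -/

def fourth (h : HM) : HM := h * h * (h * h)

theorem cube_eq (h : HM) : cube h = h ^ 3 := by simp [cube, pow_succ]

theorem fourth_eq (h : HM) : fourth h = h ^ 4 := by simp [fourth, pow_succ, mul_assoc]

/-- The test for membership of the support. -/

def inAb (h : HM) : Bool :=
  ((cube h).g == 0 && (cube h).v != 0) || ((fourth h).g == 0 && (fourth h).v != 0)

theorem inAb_iff (h : HM) : inAb h = true ↔ InA h := by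
  have e : ∀ k : HM, k.g = 0 → (k.v ≠ 0 ↔ k ≠ 1) := fun k hk => by
    obtain ⟨v, g⟩ := k
    simp only at hk
    subst hk
    simp [HM.one_def]
  simp only [inAb, InA, ← cube_eq, ← fourth_eq, Bool.or_eq_true, Bool.and_eq_true, beq_iff_eq, bne_iff_ne]
  exact or_congr (and_congr_right (e _)) (and_congr_right (e _))

/-- The value of a combination, as a pair `(u, v)` for `u + v√3`. -/

def val (i : Fin 6) (h : HM) : ℤ × ℤ :=
  (valTable i h.g).getD ((h.v.1 : ZMod 3).val * 9 + h.v.2.1.val * 3 + h.v.2.2.val) (0, 0)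

/-- The product of two values. -/

def pmul (p q : ℤ × ℤ) : ℤ × ℤ := (p.1 * q.1 + 3 * (p.2 * q.2), p.1 * q.2 + p.2 * q.1)

/-- The inner products of the combinations, times the group order. -/

def innerTable : List (List ℤ) :=
  [[1944, -648, 648, 648, -648, 0], [-648, 1944, 648, 648, 648, -648], [648, 648, 2592, 648, 648, 0],
    [648, 648, 648, 2592, 648, 0], [-648, 648, 648, 648, 2592, 0], [0, -648, 0, 0, 0, 1296]]

/-- A class of involutions. -/

def invList (t : Fin 2) : List HM :=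
  (if t = 0 then invListOne else invListTwo).map fun p => ⟨p.1, p.2⟩

/-- The representatives. -/

def tRep (t : Fin 2) : HM := if t = 0 then ⟨0, 1⟩ else ⟨0, 8⟩

theorem tRep_sq : ∀ t : Fin 2, tRep t * tRep t = 1 ∧ tRep t ≠ 1 := by decide +kernel

/-- The class sums of the combinations over products of two involutions. -/

def pairTable : List (List ℤ) :=
  [[0, 1944, 0, 0], [1944, 0, 0, 0], [1944, 3888, 1944, 1944], [1944, 3888, -1944, -1944], [1944, 5832, 0, 0],
    [0, 0, 0, 0]]

/-- The index of a pair of classes in `pairTable`. -/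

def pairIdx (s t : Fin 2) : ℕ := if s = t then s.1 else if s = 0 then 2 else 3

/-- Elements of order six over the two involutions. -/

def xRep (t : Fin 2) : HM := if t = 0 then ⟨(1, 0, 0), 1⟩ else ⟨(1, 1, 0), 8⟩

theorem xRep_spec : ∀ t : Fin 2, xRep t ^ 6 = 1 ∧ xRep t ^ 3 = tRep t ∧ ((xRep t ^ 4).g = 0 ∧ xRep t ^ 4 ≠ 1) ∧
    ∃ k : HM, k * xRep t * k⁻¹ = (xRep t)⁻¹ := by decide +kernel

/-- The number of rotations fixing a vector. -/

def stabCount (v : Vec) : ℕ := (Finset.univ.filter fun g : Fin 24 => act g v = v).card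

theorem conj_transl : ∀ g : Fin 24, ∀ v : Vec, (⟨0, g⟩ : HM) * ⟨v, 0⟩ * (⟨0, g⟩ : HM)⁻¹ = ⟨act g v, 0⟩ := by
  decide +kernel

theorem span_basis : ∀ v : Vec, v ≠ 0 → ∃ g h : Fin 24, act h (v + act g v) = (1, 0, 0) := by decide +kernel

theorem span_shift : ∃ g h : Fin 24, act g (1, 0, 0) = (0, 1, 0) ∧ act h (1, 0, 0) = (0, 0, 1) := by
  decide +kernel

theorem no_three_normal : ∀ g : Fin 24, g ≠ 0 →
    rMul g g = 0 ∨ rMul (rMul g g) (rMul g g) = 0 ∨
      ∃ k : Fin 24, rMul (rMul (rMul g k) (rInv g)) (rInv k) ≠ 0 ∧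
        rMul (rMul (rMul (rMul g k) (rInv g)) (rInv k)) (rMul (rMul (rMul g k) (rInv g)) (rInv k)) = 0 := by
  decide +kernel

theorem four_group_closure : ∀ g : Fin 24, g ≠ 0 → g ≠ 1 → g ≠ 2 → g ≠ 3 →
    ∃ k l : Fin 24, rMul (rMul (rMul k g) (rInv k)) (rMul (rMul l g) (rInv l)) = 12 := by decide +kernel

theorem two_cosets : ∀ x : Fin 24, ∃ v : Fin 24, (v = 0 ∨ v = 1 ∨ v = 2 ∨ v = 3) ∧
    ((x = v ∨ x = rMul v 12 ∨ x = rMul v (rMul 12 12)) ∨
      rMul 8 x = v ∨ rMul 8 x = rMul v 12 ∨ rMul 8 x = rMul v (rMul 12 12)) := by decide +kernel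

theorem four_group_mem : ∀ g : Fin 24, g = 1 ∨ g = 2 ∨ g = 3 → ∃ k : Fin 24, rMul (rMul k 1) (rInv k) = g := by
  decide +kernel

end CfsgLib.A9Local
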