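import Cfsg.Agent.Lib.A9Local.Frame
import Mathlib.GroupTheory.SpecificGroups.Alternating

set_option autoImplicit false
set_option maxRecDepth 8000
set_option synthInstance.maxSize 2000

/-!
The model is the normalizer, in the alternating group of degree nine, of the group generated by three
disjoint three-cycles.
-/

namespace CfsgLib.A9Local

open Equiv Equiv.Perm

/-- The group generated by the three cycles. -/
def J9 : Subgroup (Perm (Fin 9)) :=
  Subgroup.closure {swap (0 : Fin 9) 1 * swap 1 2, swap (3 : Fin 9) 4 * swap 4 5, swap (6 : Fin 9) 7 * swap 7 8}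

theorem J9_eq : J9 = transl.map theta := by
  obtain ⟨e1, e2, e3, -⟩ := theta_gens
  refine le_antisymm ((Subgroup.closure_le _).mpr ?_) ?_
  · rw [← e1, ← e2, ← e3]
    rintro x (rfl | rfl | rfl) <;> exact Subgroup.mem_map_of_mem _ rfl
  · rw [Subgroup.map_le_iff_le_comap]
    refine transl_subgroup_eq ?_ ?_ ?_
    · show theta ⟨(1, 0, 0), 0⟩ ∈ J9
      rw [e1]; exact Subgroup.subset_closure (by simp)
    · show theta ⟨(0, 1, 0), 0⟩ ∈ J9
      rw [e2]; exact Subgroup.subset_closure (by simp)
    · show theta ⟨(0, 0, 1), 0⟩ ∈ J9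
      rw [e3]; exact Subgroup.subset_closure (by simp)

/-- The six signed basis vectors. -/
def sgnVec (a : Fin 3 × Fin 2) : Vec := single a.1 (if a.2 = 0 then 1 else 2)

/-- The negation of all three coordinates, as an odd permutation. -/
def negPerm : Perm (Fin 9) := swap 1 2 * swap 4 5 * swap 7 8

theorem negPerm_spec : sign negPerm = -1 ∧ ∀ v : Vec, ∀ x : Fin 9,
    negPerm (shiftFun v x) = shiftFun (-v) (negPerm x) := by decide +kernel

theorem weight_one : ∀ v : Vec, (theta ⟨v, 0⟩).support.card = 3 → ∃ a, sgnVec a = v := by decide +kernel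

theorem support_basis : ∀ i : Fin 3, (theta ⟨single i 1, 0⟩).support.card = 3 := by decide +kernel

theorem sgn_rot : ∀ a b c : Fin 3 × Fin 2, a.1 ≠ b.1 → a.1 ≠ c.1 → b.1 ≠ c.1 → ∃ r : Fin 24, ∃ e : Fin 2,
    ∀ i : Fin 3, act r (if e = 0 then single i 1 else -single i 1) =
      sgnVec (if i = 0 then a else if i = 1 then b else c) := by decide +kernel

theorem axis_eq : ∀ a b : Fin 3 × Fin 2, a.1 = b.1 → sgnVec a = sgnVec b ∨ sgnVec a = -sgnVec b := by decide +kernel

theorem single_ne : ∀ i j : Fin 3, i ≠ j → single i 1 ≠ single j 1 ∧ single i 1 ≠ -single j 1 := by decide +kernel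

theorem block_moved : ∀ i : Fin 3, ∀ x : Fin 9, shiftFun (single i 1) x ≠ x ↔ block x = i := by decide +kernel

theorem point_orbit : ∀ i : Fin 3, ∀ p : Fin 9, block p = i →
    shiftFun (single i 1) p = shiftFun (single i (offset p)) (point i 1) ∧
    shiftFun (single i 1) (shiftFun (single i 1) p) = shiftFun (single i (offset p)) (point i 2) ∧
    p = shiftFun (single i (offset p)) (point i 0) ∧
    shiftFun (single i 1) (point i 0) = point i 1 ∧
    shiftFun (single i 1) (point i 1) = point i 2 := by decide +kernel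

theorem point_cases : ∀ x : Fin 9, ∃ i : Fin 3, x = point i 0 ∨ x = point i 1 ∨ x = point i 2 := by decide +kernel

theorem shift_local : ∀ a b c : ZMod 3, ∀ i : Fin 3, ∀ j : ZMod 3,
    shiftFun (a, b, c) (point i j) = shiftFun (single i (coord (a, b, c) i)) (point i j) := by decide +kernel

theorem theta_even : ∀ h : HM, sign (theta h) = 1 := by
  have h0 : ∀ v : Vec, sign (theta ⟨v, 0⟩) = 1 := by decide +kernel
  have h1 : ∀ g : Fin 24, sign (theta ⟨0, g⟩) = 1 := by decide +kernel
  intro h
  rw [split_eq h, map_mul, map_mul, h0, h1, one_mul]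

theorem theta_transl (v : Vec) (x : Fin 9) : theta ⟨v, 0⟩ x = shiftFun v x := by
  show shiftFun v (turnFun 0 x) = _
  rw [turnFun_zero]

/-- A permutation centralizing the three cycles is a translation. -/
theorem eq_transl_of_commute {g : Perm (Fin 9)}
    (h : ∀ i : Fin 3, g * theta ⟨single i 1, 0⟩ = theta ⟨single i 1, 0⟩ * g) : ∃ v : Vec, g = theta ⟨v, 0⟩ := by
  have hc : ∀ i x, g (shiftFun (single i 1) x) = shiftFun (single i 1) (g x) := fun i x => by
    have := congrArg (fun p : Perm (Fin 9) => p x) (h i)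
    simpa [Perm.mul_apply, theta_transl] using this
  have hb : ∀ i, block (g (point i 0)) = i := fun i => by
    refine (block_moved i _).mp fun e => ?_
    rw [← hc] at e
    exact (block_moved i (point i 0)).mpr ((by decide +kernel : ∀ i : Fin 3, block (point i 0) = i) i) (g.injective e)
  set o : Fin 3 → ZMod 3 := fun i => offset (g (point i 0)) with ho
  refine ⟨(o 0, o 1, o 2), Equiv.ext fun x => ?_⟩
  rw [theta_transl]
  obtain ⟨i, hx⟩ := point_cases x
  have hco : coord (o 0, o 1, o 2) i = o i := by fin_cases i <;> rfl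
  obtain ⟨p1, p2, p0, q1, q2⟩ := point_orbit i _ (hb i)
  rcases hx with rfl | rfl | rfl <;> rw [shift_local, hco]
  · exact p0
  · rw [← q1, hc, p1, q1]
  · rw [← q2, hc, ← q1, hc, p2, q1, q2]

theorem theta_range_eq : theta.range = alternatingGroup (Fin 9) ⊓ Subgroup.normalizer (J9 : Set (Perm (Fin 9))) := by
  refine le_antisymm ?_ ?_
  · rintro _ ⟨h, rfl⟩
    refine ⟨mem_alternatingGroup.mpr (theta_even h), ?_⟩
    show theta h ∈ Subgroup.normalizer _
    rw [J9_eq, Subgroup.mem_normalizer_iff]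
    intro z
    constructor
    · rintro ⟨k, hk, rfl⟩
      exact ⟨h * k * h⁻¹, transl_normal.conj_mem k hk h, by simp⟩
    · rintro ⟨k, hk, hz⟩
      refine ⟨h⁻¹ * k * h⁻¹⁻¹, transl_normal.conj_mem k hk h⁻¹, ?_⟩
      rw [map_mul, map_mul, hz]
      simp [mul_assoc]
  rintro g ⟨hg, hn⟩
  rw [J9_eq] at hn
  have hs : ∀ i : Fin 3, ∃ a : Fin 3 × Fin 2, g * theta ⟨single i 1, 0⟩ * g⁻¹ = theta ⟨sgnVec a, 0⟩ := fun i => by
    obtain ⟨⟨w, r⟩, hw, he⟩ := (Subgroup.mem_normalizer_iff.mp hn _).mp
      (Subgroup.mem_map_of_mem theta (show (⟨single i 1, 0⟩ : HM) ∈ transl from rfl))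
    replace hw : r = 0 := hw
    subst hw
    obtain ⟨a, ha⟩ := weight_one w (by rw [he, card_support_conj, support_basis])
    exact ⟨a, by rw [ha, he]⟩
  choose a ha using hs
  have hneg : ∀ v : Vec, theta ⟨-v, 0⟩ = (theta ⟨v, 0⟩)⁻¹ := fun v => by
    rw [← map_inv]
    refine congrArg theta ?_
    exact (by decide +kernel : ∀ v : Vec, (⟨-v, 0⟩ : HM) = (⟨v, 0⟩ : HM)⁻¹) v
  have hax : ∀ i j : Fin 3, i ≠ j → (a i).1 ≠ (a j).1 := by
    intro i j hij e
    have hinj : ∀ v w : Vec, theta ⟨v, 0⟩ = theta ⟨w, 0⟩ → v = w := fun v w he =>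
      congrArg HM.v ((injective_iff_map_eq_one theta).mpr theta_ker he)
    rcases axis_eq _ _ e with e' | e'
    · exact (single_ne i j hij).1 (hinj _ _ (mul_left_cancel (mul_right_cancel
        (show g * theta ⟨single i 1, 0⟩ * g⁻¹ = g * theta ⟨single j 1, 0⟩ * g⁻¹ by rw [ha, ha, e']))))
    · refine (single_ne i j hij).2 (hinj _ _ (mul_left_cancel (mul_right_cancel
        (show g * theta ⟨single i 1, 0⟩ * g⁻¹ = g * theta ⟨-single j 1, 0⟩ * g⁻¹ by
          rw [hneg, ← conj_inv, ha, ha, e', hneg]))))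
  obtain ⟨r, e, hr⟩ := sgn_rot (a 0) (a 1) (a 2) (hax 0 1 (by decide)) (hax 0 2 (by decide)) (hax 1 2 (by decide))
  have hr' : ∀ i : Fin 3, act r (if e = 0 then single i 1 else -single i 1) = sgnVec (a i) := fun i => by
    rw [hr i]; fin_cases i <;> rfl
  set g' := (theta ⟨0, r⟩)⁻¹ * g * (if e = 0 then 1 else negPerm) with hg'
  have hcomm : ∀ i : Fin 3, g' * theta ⟨single i 1, 0⟩ = theta ⟨single i 1, 0⟩ * g' := fun i => by
    set s : Perm (Fin 9) := if e = 0 then 1 else negPerm with hs
    have hsc : s * theta ⟨single i 1, 0⟩ = theta ⟨(if e = 0 then single i 1 else -single i 1), 0⟩ * s := by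
      rw [hs]
      split_ifs
      · simp
      · refine Equiv.ext fun x => ?_
        simp only [Perm.mul_apply, theta_transl]
        exact negPerm_spec.2 _ x
    set w := (if e = 0 then single i 1 else -single i 1) with hw
    have hgw : g * theta ⟨w, 0⟩ = theta ⟨act r (single i 1), 0⟩ * g := by
      have hact : act r (single i 1) = (if e = 0 then sgnVec (a i) else -sgnVec (a i)) := by
        rw [← hr' i]
        split_ifs
        · rfl
        · rw [act_neg, neg_neg]
      rw [hw, hact]
      split_ifs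
      · rw [← ha i]; group
      · rw [hneg, hneg, ← ha i]; group
    have hrot : (theta ⟨0, r⟩)⁻¹ * theta ⟨act r (single i 1), 0⟩ = theta ⟨single i 1, 0⟩ * (theta ⟨0, r⟩)⁻¹ := by
      rw [← conj_transl, map_mul, map_mul, map_inv]
      group
    calc g' * theta ⟨single i 1, 0⟩ = (theta ⟨0, r⟩)⁻¹ * (g * theta ⟨w, 0⟩) * s := by
          rw [hg']; simp only [mul_assoc]; rw [hsc]
      _ = theta ⟨single i 1, 0⟩ * g' := by
          rw [hgw, ← mul_assoc ((theta ⟨0, r⟩)⁻¹), hrot, hg']
          simp only [mul_assoc]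
  obtain ⟨v, hv⟩ := eq_transl_of_commute hcomm
  have he : e = 0 := by
    by_contra he
    have := congrArg sign hv
    rw [hg', if_neg he, map_mul, map_mul, map_inv, theta_even, theta_even, negPerm_spec.1,
      mem_alternatingGroup.mp hg] at this
    exact absurd this (by decide)
  rw [hg', if_pos he, mul_one] at hv
  exact ⟨⟨0, r⟩ * ⟨v, 0⟩, by rw [map_mul, ← hv]; group⟩

end CfsgLib.A9Local
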