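import Mathlib.Data.ZMod.Basic

set_option autoImplicit false

/-!
Tables for the normalizer of the elementary abelian subgroup of order 27 in the alternating group of degree nine:
the twenty four rotations of the cube as signed permutations, and six class functions.
-/

namespace CfsgLib.A9Local

/-- The action of a rotation on a vector. -/
def act : Fin 24 → ZMod 3 × ZMod 3 × ZMod 3 → ZMod 3 × ZMod 3 × ZMod 3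
  | ⟨0, _⟩, (a, b, c) => (a, b, c)
  | ⟨1, _⟩, (a, b, c) => (a, -b, -c)
  | ⟨2, _⟩, (a, b, c) => (-a, b, -c)
  | ⟨3, _⟩, (a, b, c) => (-a, -b, c)
  | ⟨4, _⟩, (a, b, c) => (a, c, -b)
  | ⟨5, _⟩, (a, b, c) => (a, -c, b)
  | ⟨6, _⟩, (a, b, c) => (-a, c, b)
  | ⟨7, _⟩, (a, b, c) => (-a, -c, -b)
  | ⟨8, _⟩, (a, b, c) => (b, a, -c)
  | ⟨9, _⟩, (a, b, c) => (b, -a, c)
  | ⟨10, _⟩, (a, b, c) => (-b, a, c)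
  | ⟨11, _⟩, (a, b, c) => (-b, -a, -c)
  | ⟨12, _⟩, (a, b, c) => (b, c, a)
  | ⟨13, _⟩, (a, b, c) => (b, -c, -a)
  | ⟨14, _⟩, (a, b, c) => (-b, c, -a)
  | ⟨15, _⟩, (a, b, c) => (-b, -c, a)
  | ⟨16, _⟩, (a, b, c) => (c, a, b)
  | ⟨17, _⟩, (a, b, c) => (c, -a, -b)
  | ⟨18, _⟩, (a, b, c) => (-c, a, -b)
  | ⟨19, _⟩, (a, b, c) => (-c, -a, b)
  | ⟨20, _⟩, (a, b, c) => (c, b, -a)
  | ⟨21, _⟩, (a, b, c) => (c, -b, a)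
  | ⟨22, _⟩, (a, b, c) => (-c, b, a)
  | ⟨23, _⟩, (a, b, c) => (-c, -b, -a)
  | ⟨_ + 24, h⟩, _ => absurd h (by omega)

/-- The multiplication table. -/
def rMul : Fin 24 → Fin 24 → Fin 24
  | ⟨0, _⟩, g => (([0, 1, 2, 3, 4, 5, 6, 7, 8, 9, 10, 11, 12, 13, 14, 15, 16, 17, 18, 19, 20, 21, 22, 23] : List (Fin 24))).getD g.val 0
  | ⟨1, _⟩, g => (([1, 0, 3, 2, 5, 4, 7, 6, 9, 8, 11, 10, 13, 12, 15, 14, 17, 16, 19, 18, 21, 20, 23, 22] : List (Fin 24))).getD g.val 0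
  | ⟨2, _⟩, g => (([2, 3, 0, 1, 6, 7, 4, 5, 10, 11, 8, 9, 14, 15, 12, 13, 18, 19, 16, 17, 22, 23, 20, 21] : List (Fin 24))).getD g.val 0
  | ⟨3, _⟩, g => (([3, 2, 1, 0, 7, 6, 5, 4, 11, 10, 9, 8, 15, 14, 13, 12, 19, 18, 17, 16, 23, 22, 21, 20] : List (Fin 24))).getD g.val 0
  | ⟨4, _⟩, g => (([4, 5, 7, 6, 1, 0, 2, 3, 13, 12, 14, 15, 8, 9, 11, 10, 20, 21, 23, 22, 17, 16, 18, 19] : List (Fin 24))).getD g.val 0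
  | ⟨5, _⟩, g => (([5, 4, 6, 7, 0, 1, 3, 2, 12, 13, 15, 14, 9, 8, 10, 11, 21, 20, 22, 23, 16, 17, 19, 18] : List (Fin 24))).getD g.val 0
  | ⟨6, _⟩, g => (([6, 7, 5, 4, 3, 2, 0, 1, 15, 14, 12, 13, 10, 11, 9, 8, 22, 23, 21, 20, 19, 18, 16, 17] : List (Fin 24))).getD g.val 0
  | ⟨7, _⟩, g => (([7, 6, 4, 5, 2, 3, 1, 0, 14, 15, 13, 12, 11, 10, 8, 9, 23, 22, 20, 21, 18, 19, 17, 16] : List (Fin 24))).getD g.val 0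
  | ⟨8, _⟩, g => (([8, 10, 9, 11, 16, 18, 17, 19, 0, 2, 1, 3, 20, 22, 21, 23, 4, 6, 5, 7, 12, 14, 13, 15] : List (Fin 24))).getD g.val 0
  | ⟨9, _⟩, g => (([9, 11, 8, 10, 17, 19, 16, 18, 1, 3, 0, 2, 21, 23, 20, 22, 5, 7, 4, 6, 13, 15, 12, 14] : List (Fin 24))).getD g.val 0
  | ⟨10, _⟩, g => (([10, 8, 11, 9, 18, 16, 19, 17, 2, 0, 3, 1, 22, 20, 23, 21, 6, 4, 7, 5, 14, 12, 15, 13] : List (Fin 24))).getD g.val 0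
  | ⟨11, _⟩, g => (([11, 9, 10, 8, 19, 17, 18, 16, 3, 1, 2, 0, 23, 21, 22, 20, 7, 5, 6, 4, 15, 13, 14, 12] : List (Fin 24))).getD g.val 0
  | ⟨12, _⟩, g => (([12, 15, 13, 14, 21, 22, 20, 23, 5, 6, 4, 7, 16, 19, 17, 18, 0, 3, 1, 2, 9, 10, 8, 11] : List (Fin 24))).getD g.val 0
  | ⟨13, _⟩, g => (([13, 14, 12, 15, 20, 23, 21, 22, 4, 7, 5, 6, 17, 18, 16, 19, 1, 2, 0, 3, 8, 11, 9, 10] : List (Fin 24))).getD g.val 0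
  | ⟨14, _⟩, g => (([14, 13, 15, 12, 23, 20, 22, 21, 7, 4, 6, 5, 18, 17, 19, 16, 2, 1, 3, 0, 11, 8, 10, 9] : List (Fin 24))).getD g.val 0
  | ⟨15, _⟩, g => (([15, 12, 14, 13, 22, 21, 23, 20, 6, 5, 7, 4, 19, 16, 18, 17, 3, 0, 2, 1, 10, 9, 11, 8] : List (Fin 24))).getD g.val 0
  | ⟨16, _⟩, g => (([16, 18, 19, 17, 10, 8, 9, 11, 22, 20, 21, 23, 0, 2, 3, 1, 12, 14, 15, 13, 6, 4, 5, 7] : List (Fin 24))).getD g.val 0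
  | ⟨17, _⟩, g => (([17, 19, 18, 16, 11, 9, 8, 10, 23, 21, 20, 22, 1, 3, 2, 0, 13, 15, 14, 12, 7, 5, 4, 6] : List (Fin 24))).getD g.val 0
  | ⟨18, _⟩, g => (([18, 16, 17, 19, 8, 10, 11, 9, 20, 22, 23, 21, 2, 0, 1, 3, 14, 12, 13, 15, 4, 6, 7, 5] : List (Fin 24))).getD g.val 0
  | ⟨19, _⟩, g => (([19, 17, 16, 18, 9, 11, 10, 8, 21, 23, 22, 20, 3, 1, 0, 2, 15, 13, 12, 14, 5, 7, 6, 4] : List (Fin 24))).getD g.val 0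
  | ⟨20, _⟩, g => (([20, 23, 22, 21, 14, 13, 12, 15, 18, 17, 16, 19, 4, 7, 6, 5, 8, 11, 10, 9, 2, 1, 0, 3] : List (Fin 24))).getD g.val 0
  | ⟨21, _⟩, g => (([21, 22, 23, 20, 15, 12, 13, 14, 19, 16, 17, 18, 5, 6, 7, 4, 9, 10, 11, 8, 3, 0, 1, 2] : List (Fin 24))).getD g.val 0
  | ⟨22, _⟩, g => (([22, 21, 20, 23, 12, 15, 14, 13, 16, 19, 18, 17, 6, 5, 4, 7, 10, 9, 8, 11, 0, 3, 2, 1] : List (Fin 24))).getD g.val 0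
  | ⟨23, _⟩, g => (([23, 20, 21, 22, 13, 14, 15, 12, 17, 18, 19, 16, 7, 4, 5, 6, 11, 8, 9, 10, 1, 2, 3, 0] : List (Fin 24))).getD g.val 0
  | ⟨_ + 24, h⟩, _ => absurd h (by omega)

/-- The inverse table. -/
def rInv : Fin 24 → Fin 24
  | ⟨0, _⟩ => 0
  | ⟨1, _⟩ => 1
  | ⟨2, _⟩ => 2
  | ⟨3, _⟩ => 3
  | ⟨4, _⟩ => 5
  | ⟨5, _⟩ => 4
  | ⟨6, _⟩ => 6
  | ⟨7, _⟩ => 7
  | ⟨8, _⟩ => 8
  | ⟨9, _⟩ => 10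
  | ⟨10, _⟩ => 9
  | ⟨11, _⟩ => 11
  | ⟨12, _⟩ => 16
  | ⟨13, _⟩ => 18
  | ⟨14, _⟩ => 19
  | ⟨15, _⟩ => 17
  | ⟨16, _⟩ => 12
  | ⟨17, _⟩ => 15
  | ⟨18, _⟩ => 13
  | ⟨19, _⟩ => 14
  | ⟨20, _⟩ => 22
  | ⟨21, _⟩ => 21
  | ⟨22, _⟩ => 20
  | ⟨23, _⟩ => 23
  | ⟨_ + 24, h⟩ => absurd h (by omega)

/-- Eleven linear characters of subgroups containing the translations: subgroup, weight, exponents of the twelfth root of unity, transversal. -/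
def monoData : Fin 11 → List (Fin 24) × (ZMod 3 × ZMod 3 × ZMod 3) × List (ZMod 12) × List (Fin 24)
  | ⟨0, _⟩ => ([0, 1, 2, 3, 4, 5, 6, 7, 8, 9, 10, 11, 12, 13, 14, 15, 16, 17, 18, 19, 20, 21, 22, 23], (0, 0, 0), [0, 0, 0, 0, 0, 0, 0, 0, 0, 0, 0, 0, 0, 0, 0, 0, 0, 0, 0, 0, 0, 0, 0, 0], [0])
  | ⟨1, _⟩ => ([0, 1, 2, 3, 4, 5, 6, 7, 8, 9, 10, 11, 12, 13, 14, 15, 16, 17, 18, 19, 20, 21, 22, 23], (0, 0, 0), [0, 0, 0, 0, 6, 6, 6, 6, 6, 6, 6, 6, 0, 0, 0, 0, 0, 0, 0, 0, 6, 6, 6, 6], [0])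
  | ⟨2, _⟩ => ([0, 1, 2, 3, 8, 9, 10, 11], (0, 0, 0), [0, 0, 0, 0, 0, 0, 0, 0, 0, 0, 0, 0, 0, 0, 0, 0, 0, 0, 0, 0, 0, 0, 0, 0], [0, 4, 16])
  | ⟨3, _⟩ => ([0, 7, 11, 12, 16, 23], (0, 0, 0), [0, 0, 0, 0, 0, 0, 0, 0, 0, 0, 0, 0, 0, 0, 0, 0, 0, 0, 0, 0, 0, 0, 0, 0], [0, 1, 2, 3])
  | ⟨4, _⟩ => ([0, 7, 11, 12, 16, 23], (0, 0, 0), [0, 0, 0, 0, 0, 0, 0, 6, 0, 0, 0, 6, 0, 0, 0, 0, 0, 0, 0, 0, 0, 0, 0, 6], [0, 1, 2, 3])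
  | ⟨5, _⟩ => ([0, 1, 4, 5], (1, 0, 0), [0, 0, 0, 0, 0, 0, 0, 0, 0, 0, 0, 0, 0, 0, 0, 0, 0, 0, 0, 0, 0, 0, 0, 0], [0, 2, 8, 9, 12, 13])
  | ⟨6, _⟩ => ([0, 1, 4, 5], (1, 0, 0), [0, 6, 0, 0, 3, 9, 0, 0, 0, 0, 0, 0, 0, 0, 0, 0, 0, 0, 0, 0, 0, 0, 0, 0], [0, 2, 8, 9, 12, 13])
  | ⟨7, _⟩ => ([0, 1, 4, 5], (1, 0, 0), [0, 0, 0, 0, 6, 6, 0, 0, 0, 0, 0, 0, 0, 0, 0, 0, 0, 0, 0, 0, 0, 0, 0, 0], [0, 2, 8, 9, 12, 13])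
  | ⟨8, _⟩ => ([0, 12, 16], (1, 1, 1), [0, 0, 0, 0, 0, 0, 0, 0, 0, 0, 0, 0, 0, 0, 0, 0, 0, 0, 0, 0, 0, 0, 0, 0], [0, 1, 2, 3, 4, 5, 6, 7])
  | ⟨9, _⟩ => ([0, 12, 16], (1, 1, 1), [0, 0, 0, 0, 0, 0, 0, 0, 0, 0, 0, 0, 4, 0, 0, 0, 8, 0, 0, 0, 0, 0, 0, 0], [0, 1, 2, 3, 4, 5, 6, 7])
  | ⟨10, _⟩ => ([0, 12, 16], (1, 1, 1), [0, 0, 0, 0, 0, 0, 0, 0, 0, 0, 0, 0, 8, 0, 0, 0, 4, 0, 0, 0, 0, 0, 0, 0], [0, 1, 2, 3, 4, 5, 6, 7])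
  | ⟨_ + 11, h⟩ => absurd h (by omega)

/-- Twice the twelfth roots of unity in the basis `1, √3, i, i√3`. -/
def zetaTable : List (ℤ × ℤ × ℤ × ℤ) := [(2, 0, 0, 0), (0, 1, 1, 0), (1, 0, 0, 1), (0, 0, 2, 0), (-1, 0, 0, 1), (0, -1, 1, 0), (-2, 0, 0, 0), (0, -1, -1, 0), (-1, 0, 0, -1), (0, 0, -2, 0), (1, 0, 0, -1), (0, 1, -1, 0)]

/-- The six combinations. -/
def coef : Fin 6 → List ℤ
  | ⟨0, _⟩ => [-1, -1, 0, 1, 1, 0, -1, 0, 0, 0, 0]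
  | ⟨1, _⟩ => [-1, 0, 1, 0, 0, 0, 1, 0, 0, -1, 0]
  | ⟨2, _⟩ => [0, -1, 1, 0, 1, -1, 0, 0, 0, 0, 0]
  | ⟨3, _⟩ => [-2, 1, 1, 1, 0, 0, 0, -1, 0, 0, 0]
  | ⟨4, _⟩ => [1, 1, 0, 0, 0, 0, 1, 0, -1, 0, 0]
  | ⟨5, _⟩ => [0, 0, 0, 0, 0, 0, 0, 0, 0, 1, -1]
  | ⟨_ + 6, h⟩ => absurd h (by omega)

/-- The values of combination 0, as `(u, v)` for `u + v√3`. -/
def valTable0 : Fin 24 → List (ℤ × ℤ)
  | ⟨0, _⟩ => [(0, 0), (3, 0), (3, 0), (3, 0), (6, 0), (6, 0), (3, 0), (6, 0), (6, 0), (3, 0), (6, 0), (6, 0), (6, 0), (9, 0), (9, 0), (6, 0), (9, 0), (9, 0), (3, 0), (6, 0), (6, 0), (6, 0), (9, 0), (9, 0), (6, 0), (9, 0), (9, 0)]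
  | ⟨1, _⟩ => [(0, 0), (0, 0), (0, 0), (0, 0), (0, 0), (0, 0), (0, 0), (0, 0), (0, 0), (-3, 0), (-3, 0), (-3, 0), (-3, 0), (-3, 0), (-3, 0), (-3, 0), (-3, 0), (-3, 0), (-3, 0), (-3, 0), (-3, 0), (-3, 0), (-3, 0), (-3, 0), (-3, 0), (-3, 0), (-3, 0)]
  | ⟨2, _⟩ => [(0, 0), (0, 0), (0, 0), (-3, 0), (-3, 0), (-3, 0), (-3, 0), (-3, 0), (-3, 0), (0, 0), (0, 0), (0, 0), (-3, 0), (-3, 0), (-3, 0), (-3, 0), (-3, 0), (-3, 0), (0, 0), (0, 0), (0, 0), (-3, 0), (-3, 0), (-3, 0), (-3, 0), (-3, 0), (-3, 0)]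
  | ⟨3, _⟩ => [(0, 0), (-3, 0), (-3, 0), (0, 0), (-3, 0), (-3, 0), (0, 0), (-3, 0), (-3, 0), (0, 0), (-3, 0), (-3, 0), (0, 0), (-3, 0), (-3, 0), (0, 0), (-3, 0), (-3, 0), (0, 0), (-3, 0), (-3, 0), (0, 0), (-3, 0), (-3, 0), (0, 0), (-3, 0), (-3, 0)]
  | ⟨4, _⟩ => [(0, 0), (0, 0), (0, 0), (0, 0), (0, 0), (0, 0), (0, 0), (0, 0), (0, 0), (0, 1), (0, 1), (0, 1), (0, 1), (0, 1), (0, 1), (0, 1), (0, 1), (0, 1), (0, -1), (0, -1), (0, -1), (0, -1), (0, -1), (0, -1), (0, -1), (0, -1), (0, -1)]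
  | ⟨5, _⟩ => [(0, 0), (0, 0), (0, 0), (0, 0), (0, 0), (0, 0), (0, 0), (0, 0), (0, 0), (0, -1), (0, -1), (0, -1), (0, -1), (0, -1), (0, -1), (0, -1), (0, -1), (0, -1), (0, 1), (0, 1), (0, 1), (0, 1), (0, 1), (0, 1), (0, 1), (0, 1), (0, 1)]
  | ⟨6, _⟩ => [(0, 0), (0, 0), (0, 0), (0, 0), (0, 0), (0, 0), (0, 0), (0, 0), (0, 0), (0, 0), (0, 0), (0, 0), (0, 0), (0, 0), (0, 0), (0, 0), (0, 0), (0, 0), (0, 0), (0, 0), (0, 0), (0, 0), (0, 0), (0, 0), (0, 0), (0, 0), (0, 0)]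
  | ⟨7, _⟩ => [(0, 0), (0, 0), (0, 0), (0, 0), (0, 0), (0, 0), (0, 0), (0, 0), (0, 0), (0, 0), (0, 0), (0, 0), (0, 0), (0, 0), (0, 0), (0, 0), (0, 0), (0, 0), (0, 0), (0, 0), (0, 0), (0, 0), (0, 0), (0, 0), (0, 0), (0, 0), (0, 0)]
  | ⟨8, _⟩ => [(0, 0), (0, 0), (0, 0), (0, 0), (0, 0), (0, 0), (0, 0), (0, 0), (0, 0), (0, 0), (0, 0), (0, 0), (0, 0), (0, 0), (0, 0), (0, 0), (0, 0), (0, 0), (0, 0), (0, 0), (0, 0), (0, 0), (0, 0), (0, 0), (0, 0), (0, 0), (0, 0)]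
  | ⟨9, _⟩ => [(0, 0), (0, 1), (0, -1), (0, 0), (0, 1), (0, -1), (0, 0), (0, 1), (0, -1), (0, 0), (0, 1), (0, -1), (0, 0), (0, 1), (0, -1), (0, 0), (0, 1), (0, -1), (0, 0), (0, 1), (0, -1), (0, 0), (0, 1), (0, -1), (0, 0), (0, 1), (0, -1)]
  | ⟨10, _⟩ => [(0, 0), (0, -1), (0, 1), (0, 0), (0, -1), (0, 1), (0, 0), (0, -1), (0, 1), (0, 0), (0, -1), (0, 1), (0, 0), (0, -1), (0, 1), (0, 0), (0, -1), (0, 1), (0, 0), (0, -1), (0, 1), (0, 0), (0, -1), (0, 1), (0, 0), (0, -1), (0, 1)]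
  | ⟨11, _⟩ => [(0, 0), (0, 0), (0, 0), (0, 0), (0, 0), (0, 0), (0, 0), (0, 0), (0, 0), (0, 0), (0, 0), (0, 0), (0, 0), (0, 0), (0, 0), (0, 0), (0, 0), (0, 0), (0, 0), (0, 0), (0, 0), (0, 0), (0, 0), (0, 0), (0, 0), (0, 0), (0, 0)]
  | ⟨12, _⟩ => [(0, 0), (0, 0), (0, 0), (0, 0), (0, 0), (0, 0), (0, 0), (0, 0), (0, 0), (0, 0), (0, 0), (0, 0), (0, 0), (0, 0), (0, 0), (0, 0), (0, 0), (0, 0), (0, 0), (0, 0), (0, 0), (0, 0), (0, 0), (0, 0), (0, 0), (0, 0), (0, 0)]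
  | ⟨13, _⟩ => [(0, 0), (0, 0), (0, 0), (0, 0), (0, 0), (0, 0), (0, 0), (0, 0), (0, 0), (0, 0), (0, 0), (0, 0), (0, 0), (0, 0), (0, 0), (0, 0), (0, 0), (0, 0), (0, 0), (0, 0), (0, 0), (0, 0), (0, 0), (0, 0), (0, 0), (0, 0), (0, 0)]
  | ⟨14, _⟩ => [(0, 0), (0, 0), (0, 0), (0, 0), (0, 0), (0, 0), (0, 0), (0, 0), (0, 0), (0, 0), (0, 0), (0, 0), (0, 0), (0, 0), (0, 0), (0, 0), (0, 0), (0, 0), (0, 0), (0, 0), (0, 0), (0, 0), (0, 0), (0, 0), (0, 0), (0, 0), (0, 0)]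
  | ⟨15, _⟩ => [(0, 0), (0, 0), (0, 0), (0, 0), (0, 0), (0, 0), (0, 0), (0, 0), (0, 0), (0, 0), (0, 0), (0, 0), (0, 0), (0, 0), (0, 0), (0, 0), (0, 0), (0, 0), (0, 0), (0, 0), (0, 0), (0, 0), (0, 0), (0, 0), (0, 0), (0, 0), (0, 0)]
  | ⟨16, _⟩ => [(0, 0), (0, 0), (0, 0), (0, 0), (0, 0), (0, 0), (0, 0), (0, 0), (0, 0), (0, 0), (0, 0), (0, 0), (0, 0), (0, 0), (0, 0), (0, 0), (0, 0), (0, 0), (0, 0), (0, 0), (0, 0), (0, 0), (0, 0), (0, 0), (0, 0), (0, 0), (0, 0)]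
  | ⟨17, _⟩ => [(0, 0), (0, 0), (0, 0), (0, 0), (0, 0), (0, 0), (0, 0), (0, 0), (0, 0), (0, 0), (0, 0), (0, 0), (0, 0), (0, 0), (0, 0), (0, 0), (0, 0), (0, 0), (0, 0), (0, 0), (0, 0), (0, 0), (0, 0), (0, 0), (0, 0), (0, 0), (0, 0)]
  | ⟨18, _⟩ => [(0, 0), (0, 0), (0, 0), (0, 0), (0, 0), (0, 0), (0, 0), (0, 0), (0, 0), (0, 0), (0, 0), (0, 0), (0, 0), (0, 0), (0, 0), (0, 0), (0, 0), (0, 0), (0, 0), (0, 0), (0, 0), (0, 0), (0, 0), (0, 0), (0, 0), (0, 0), (0, 0)]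
  | ⟨19, _⟩ => [(0, 0), (0, 0), (0, 0), (0, 0), (0, 0), (0, 0), (0, 0), (0, 0), (0, 0), (0, 0), (0, 0), (0, 0), (0, 0), (0, 0), (0, 0), (0, 0), (0, 0), (0, 0), (0, 0), (0, 0), (0, 0), (0, 0), (0, 0), (0, 0), (0, 0), (0, 0), (0, 0)]
  | ⟨20, _⟩ => [(0, 0), (0, 0), (0, 0), (0, -1), (0, -1), (0, -1), (0, 1), (0, 1), (0, 1), (0, 0), (0, 0), (0, 0), (0, -1), (0, -1), (0, -1), (0, 1), (0, 1), (0, 1), (0, 0), (0, 0), (0, 0), (0, -1), (0, -1), (0, -1), (0, 1), (0, 1), (0, 1)]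
  | ⟨21, _⟩ => [(0, 0), (0, 0), (0, 0), (0, 0), (0, 0), (0, 0), (0, 0), (0, 0), (0, 0), (0, 0), (0, 0), (0, 0), (0, 0), (0, 0), (0, 0), (0, 0), (0, 0), (0, 0), (0, 0), (0, 0), (0, 0), (0, 0), (0, 0), (0, 0), (0, 0), (0, 0), (0, 0)]
  | ⟨22, _⟩ => [(0, 0), (0, 0), (0, 0), (0, 1), (0, 1), (0, 1), (0, -1), (0, -1), (0, -1), (0, 0), (0, 0), (0, 0), (0, 1), (0, 1), (0, 1), (0, -1), (0, -1), (0, -1), (0, 0), (0, 0), (0, 0), (0, 1), (0, 1), (0, 1), (0, -1), (0, -1), (0, -1)]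
  | ⟨23, _⟩ => [(0, 0), (0, 0), (0, 0), (0, 0), (0, 0), (0, 0), (0, 0), (0, 0), (0, 0), (0, 0), (0, 0), (0, 0), (0, 0), (0, 0), (0, 0), (0, 0), (0, 0), (0, 0), (0, 0), (0, 0), (0, 0), (0, 0), (0, 0), (0, 0), (0, 0), (0, 0), (0, 0)]
  | ⟨_ + 24, h⟩ => absurd h (by omega)

/-- The values of combination 1, as `(u, v)` for `u + v√3`. -/
def valTable1 : Fin 24 → List (ℤ × ℤ)
  | ⟨0, _⟩ => [(0, 0), (9, 0), (9, 0), (9, 0), (0, 0), (0, 0), (9, 0), (0, 0), (0, 0), (9, 0), (0, 0), (0, 0), (0, 0), (0, 0), (0, 0), (0, 0), (0, 0), (0, 0), (9, 0), (0, 0), (0, 0), (0, 0), (0, 0), (0, 0), (0, 0), (0, 0), (0, 0)]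
  | ⟨1, _⟩ => [(0, 0), (0, 0), (0, 0), (0, 0), (0, 0), (0, 0), (0, 0), (0, 0), (0, 0), (3, 0), (3, 0), (3, 0), (3, 0), (3, 0), (3, 0), (3, 0), (3, 0), (3, 0), (3, 0), (3, 0), (3, 0), (3, 0), (3, 0), (3, 0), (3, 0), (3, 0), (3, 0)]
  | ⟨2, _⟩ => [(0, 0), (0, 0), (0, 0), (3, 0), (3, 0), (3, 0), (3, 0), (3, 0), (3, 0), (0, 0), (0, 0), (0, 0), (3, 0), (3, 0), (3, 0), (3, 0), (3, 0), (3, 0), (0, 0), (0, 0), (0, 0), (3, 0), (3, 0), (3, 0), (3, 0), (3, 0), (3, 0)]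
  | ⟨3, _⟩ => [(0, 0), (3, 0), (3, 0), (0, 0), (3, 0), (3, 0), (0, 0), (3, 0), (3, 0), (0, 0), (3, 0), (3, 0), (0, 0), (3, 0), (3, 0), (0, 0), (3, 0), (3, 0), (0, 0), (3, 0), (3, 0), (0, 0), (3, 0), (3, 0), (0, 0), (3, 0), (3, 0)]
  | ⟨4, _⟩ => [(0, 0), (0, 0), (0, 0), (0, 0), (0, 0), (0, 0), (0, 0), (0, 0), (0, 0), (0, -1), (0, -1), (0, -1), (0, -1), (0, -1), (0, -1), (0, -1), (0, -1), (0, -1), (0, 1), (0, 1), (0, 1), (0, 1), (0, 1), (0, 1), (0, 1), (0, 1), (0, 1)]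
  | ⟨5, _⟩ => [(0, 0), (0, 0), (0, 0), (0, 0), (0, 0), (0, 0), (0, 0), (0, 0), (0, 0), (0, 1), (0, 1), (0, 1), (0, 1), (0, 1), (0, 1), (0, 1), (0, 1), (0, 1), (0, -1), (0, -1), (0, -1), (0, -1), (0, -1), (0, -1), (0, -1), (0, -1), (0, -1)]
  | ⟨6, _⟩ => [(0, 0), (0, 0), (0, 0), (0, 0), (0, 0), (0, 0), (0, 0), (0, 0), (0, 0), (0, 0), (0, 0), (0, 0), (0, 0), (0, 0), (0, 0), (0, 0), (0, 0), (0, 0), (0, 0), (0, 0), (0, 0), (0, 0), (0, 0), (0, 0), (0, 0), (0, 0), (0, 0)]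
  | ⟨7, _⟩ => [(0, 0), (0, 0), (0, 0), (0, 0), (0, 0), (0, 0), (0, 0), (0, 0), (0, 0), (0, 0), (0, 0), (0, 0), (0, 0), (0, 0), (0, 0), (0, 0), (0, 0), (0, 0), (0, 0), (0, 0), (0, 0), (0, 0), (0, 0), (0, 0), (0, 0), (0, 0), (0, 0)]
  | ⟨8, _⟩ => [(0, 0), (0, 0), (0, 0), (0, 0), (0, 0), (0, 0), (0, 0), (0, 0), (0, 0), (0, 0), (0, 0), (0, 0), (0, 0), (0, 0), (0, 0), (0, 0), (0, 0), (0, 0), (0, 0), (0, 0), (0, 0), (0, 0), (0, 0), (0, 0), (0, 0), (0, 0), (0, 0)]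
  | ⟨9, _⟩ => [(0, 0), (0, -1), (0, 1), (0, 0), (0, -1), (0, 1), (0, 0), (0, -1), (0, 1), (0, 0), (0, -1), (0, 1), (0, 0), (0, -1), (0, 1), (0, 0), (0, -1), (0, 1), (0, 0), (0, -1), (0, 1), (0, 0), (0, -1), (0, 1), (0, 0), (0, -1), (0, 1)]
  | ⟨10, _⟩ => [(0, 0), (0, 1), (0, -1), (0, 0), (0, 1), (0, -1), (0, 0), (0, 1), (0, -1), (0, 0), (0, 1), (0, -1), (0, 0), (0, 1), (0, -1), (0, 0), (0, 1), (0, -1), (0, 0), (0, 1), (0, -1), (0, 0), (0, 1), (0, -1), (0, 0), (0, 1), (0, -1)]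
  | ⟨11, _⟩ => [(0, 0), (0, 0), (0, 0), (0, 0), (0, 0), (0, 0), (0, 0), (0, 0), (0, 0), (0, 0), (0, 0), (0, 0), (0, 0), (0, 0), (0, 0), (0, 0), (0, 0), (0, 0), (0, 0), (0, 0), (0, 0), (0, 0), (0, 0), (0, 0), (0, 0), (0, 0), (0, 0)]
  | ⟨12, _⟩ => [(0, 0), (0, 0), (-3, 0), (0, 0), (-3, 0), (0, 0), (-3, 0), (0, 0), (0, 0), (0, 0), (-3, 0), (0, 0), (-3, 0), (0, 0), (0, 0), (0, 0), (0, 0), (-3, 0), (-3, 0), (0, 0), (0, 0), (0, 0), (0, 0), (-3, 0), (0, 0), (-3, 0), (0, 0)]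
  | ⟨13, _⟩ => [(0, 0), (0, 0), (-3, 0), (-3, 0), (0, 0), (0, 0), (0, 0), (-3, 0), (0, 0), (-3, 0), (0, 0), (0, 0), (0, 0), (-3, 0), (0, 0), (0, 0), (0, 0), (-3, 0), (0, 0), (-3, 0), (0, 0), (0, 0), (0, 0), (-3, 0), (-3, 0), (0, 0), (0, 0)]
  | ⟨14, _⟩ => [(0, 0), (-3, 0), (0, 0), (-3, 0), (0, 0), (0, 0), (0, 0), (0, 0), (-3, 0), (0, 0), (0, 0), (-3, 0), (0, 0), (-3, 0), (0, 0), (-3, 0), (0, 0), (0, 0), (-3, 0), (0, 0), (0, 0), (0, 0), (0, 0), (-3, 0), (0, 0), (-3, 0), (0, 0)]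
  | ⟨15, _⟩ => [(0, 0), (-3, 0), (0, 0), (0, 0), (0, 0), (-3, 0), (-3, 0), (0, 0), (0, 0), (-3, 0), (0, 0), (0, 0), (0, 0), (-3, 0), (0, 0), (0, 0), (0, 0), (-3, 0), (0, 0), (0, 0), (-3, 0), (-3, 0), (0, 0), (0, 0), (0, 0), (-3, 0), (0, 0)]
  | ⟨16, _⟩ => [(0, 0), (-3, 0), (0, 0), (-3, 0), (0, 0), (0, 0), (0, 0), (0, 0), (-3, 0), (-3, 0), (0, 0), (0, 0), (0, 0), (0, 0), (-3, 0), (0, 0), (-3, 0), (0, 0), (0, 0), (0, 0), (-3, 0), (0, 0), (-3, 0), (0, 0), (-3, 0), (0, 0), (0, 0)]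
  | ⟨17, _⟩ => [(0, 0), (0, 0), (-3, 0), (-3, 0), (0, 0), (0, 0), (0, 0), (-3, 0), (0, 0), (0, 0), (-3, 0), (0, 0), (0, 0), (0, 0), (-3, 0), (-3, 0), (0, 0), (0, 0), (-3, 0), (0, 0), (0, 0), (0, 0), (-3, 0), (0, 0), (0, 0), (0, 0), (-3, 0)]
  | ⟨18, _⟩ => [(0, 0), (-3, 0), (0, 0), (0, 0), (0, 0), (-3, 0), (-3, 0), (0, 0), (0, 0), (0, 0), (0, 0), (-3, 0), (-3, 0), (0, 0), (0, 0), (0, 0), (-3, 0), (0, 0), (-3, 0), (0, 0), (0, 0), (0, 0), (-3, 0), (0, 0), (0, 0), (0, 0), (-3, 0)]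
  | ⟨19, _⟩ => [(0, 0), (0, 0), (-3, 0), (0, 0), (-3, 0), (0, 0), (-3, 0), (0, 0), (0, 0), (-3, 0), (0, 0), (0, 0), (0, 0), (0, 0), (-3, 0), (0, 0), (-3, 0), (0, 0), (0, 0), (-3, 0), (0, 0), (-3, 0), (0, 0), (0, 0), (0, 0), (0, 0), (-3, 0)]
  | ⟨20, _⟩ => [(0, 0), (0, 0), (0, 0), (0, 1), (0, 1), (0, 1), (0, -1), (0, -1), (0, -1), (0, 0), (0, 0), (0, 0), (0, 1), (0, 1), (0, 1), (0, -1), (0, -1), (0, -1), (0, 0), (0, 0), (0, 0), (0, 1), (0, 1), (0, 1), (0, -1), (0, -1), (0, -1)]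
  | ⟨21, _⟩ => [(0, 0), (0, 0), (0, 0), (0, 0), (0, 0), (0, 0), (0, 0), (0, 0), (0, 0), (0, 0), (0, 0), (0, 0), (0, 0), (0, 0), (0, 0), (0, 0), (0, 0), (0, 0), (0, 0), (0, 0), (0, 0), (0, 0), (0, 0), (0, 0), (0, 0), (0, 0), (0, 0)]
  | ⟨22, _⟩ => [(0, 0), (0, 0), (0, 0), (0, -1), (0, -1), (0, -1), (0, 1), (0, 1), (0, 1), (0, 0), (0, 0), (0, 0), (0, -1), (0, -1), (0, -1), (0, 1), (0, 1), (0, 1), (0, 0), (0, 0), (0, 0), (0, -1), (0, -1), (0, -1), (0, 1), (0, 1), (0, 1)]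
  | ⟨23, _⟩ => [(0, 0), (0, 0), (0, 0), (0, 0), (0, 0), (0, 0), (0, 0), (0, 0), (0, 0), (0, 0), (0, 0), (0, 0), (0, 0), (0, 0), (0, 0), (0, 0), (0, 0), (0, 0), (0, 0), (0, 0), (0, 0), (0, 0), (0, 0), (0, 0), (0, 0), (0, 0), (0, 0)]
  | ⟨_ + 24, h⟩ => absurd h (by omega)

/-- The values of combination 2, as `(u, v)` for `u + v√3`. -/
def valTable2 : Fin 24 → List (ℤ × ℤ)
  | ⟨0, _⟩ => [(0, 0), (3, 0), (3, 0), (3, 0), (6, 0), (6, 0), (3, 0), (6, 0), (6, 0), (3, 0), (6, 0), (6, 0), (6, 0), (9, 0), (9, 0), (6, 0), (9, 0), (9, 0), (3, 0), (6, 0), (6, 0), (6, 0), (9, 0), (9, 0), (6, 0), (9, 0), (9, 0)]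
  | ⟨1, _⟩ => [(0, 0), (0, 0), (0, 0), (0, 0), (0, 0), (0, 0), (0, 0), (0, 0), (0, 0), (3, 0), (3, 0), (3, 0), (3, 0), (3, 0), (3, 0), (3, 0), (3, 0), (3, 0), (3, 0), (3, 0), (3, 0), (3, 0), (3, 0), (3, 0), (3, 0), (3, 0), (3, 0)]
  | ⟨2, _⟩ => [(0, 0), (0, 0), (0, 0), (3, 0), (3, 0), (3, 0), (3, 0), (3, 0), (3, 0), (0, 0), (0, 0), (0, 0), (3, 0), (3, 0), (3, 0), (3, 0), (3, 0), (3, 0), (0, 0), (0, 0), (0, 0), (3, 0), (3, 0), (3, 0), (3, 0), (3, 0), (3, 0)]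
  | ⟨3, _⟩ => [(0, 0), (3, 0), (3, 0), (0, 0), (3, 0), (3, 0), (0, 0), (3, 0), (3, 0), (0, 0), (3, 0), (3, 0), (0, 0), (3, 0), (3, 0), (0, 0), (3, 0), (3, 0), (0, 0), (3, 0), (3, 0), (0, 0), (3, 0), (3, 0), (0, 0), (3, 0), (3, 0)]
  | ⟨4, _⟩ => [(0, 0), (0, 0), (0, 0), (0, 0), (0, 0), (0, 0), (0, 0), (0, 0), (0, 0), (3, 0), (3, 0), (3, 0), (3, 0), (3, 0), (3, 0), (3, 0), (3, 0), (3, 0), (3, 0), (3, 0), (3, 0), (3, 0), (3, 0), (3, 0), (3, 0), (3, 0), (3, 0)]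
  | ⟨5, _⟩ => [(0, 0), (0, 0), (0, 0), (0, 0), (0, 0), (0, 0), (0, 0), (0, 0), (0, 0), (3, 0), (3, 0), (3, 0), (3, 0), (3, 0), (3, 0), (3, 0), (3, 0), (3, 0), (3, 0), (3, 0), (3, 0), (3, 0), (3, 0), (3, 0), (3, 0), (3, 0), (3, 0)]
  | ⟨6, _⟩ => [(0, 0), (0, 0), (0, 0), (0, 0), (0, 0), (0, 0), (0, 0), (0, 0), (0, 0), (0, 0), (0, 0), (0, 0), (0, 0), (0, 0), (0, 0), (0, 0), (0, 0), (0, 0), (0, 0), (0, 0), (0, 0), (0, 0), (0, 0), (0, 0), (0, 0), (0, 0), (0, 0)]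
  | ⟨7, _⟩ => [(0, 0), (0, 0), (0, 0), (0, 0), (0, 0), (0, 0), (0, 0), (0, 0), (0, 0), (0, 0), (0, 0), (0, 0), (0, 0), (0, 0), (0, 0), (0, 0), (0, 0), (0, 0), (0, 0), (0, 0), (0, 0), (0, 0), (0, 0), (0, 0), (0, 0), (0, 0), (0, 0)]
  | ⟨8, _⟩ => [(0, 0), (0, 0), (0, 0), (0, 0), (0, 0), (0, 0), (0, 0), (0, 0), (0, 0), (0, 0), (0, 0), (0, 0), (0, 0), (0, 0), (0, 0), (0, 0), (0, 0), (0, 0), (0, 0), (0, 0), (0, 0), (0, 0), (0, 0), (0, 0), (0, 0), (0, 0), (0, 0)]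
  | ⟨9, _⟩ => [(0, 0), (3, 0), (3, 0), (0, 0), (3, 0), (3, 0), (0, 0), (3, 0), (3, 0), (0, 0), (3, 0), (3, 0), (0, 0), (3, 0), (3, 0), (0, 0), (3, 0), (3, 0), (0, 0), (3, 0), (3, 0), (0, 0), (3, 0), (3, 0), (0, 0), (3, 0), (3, 0)]
  | ⟨10, _⟩ => [(0, 0), (3, 0), (3, 0), (0, 0), (3, 0), (3, 0), (0, 0), (3, 0), (3, 0), (0, 0), (3, 0), (3, 0), (0, 0), (3, 0), (3, 0), (0, 0), (3, 0), (3, 0), (0, 0), (3, 0), (3, 0), (0, 0), (3, 0), (3, 0), (0, 0), (3, 0), (3, 0)]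
  | ⟨11, _⟩ => [(0, 0), (0, 0), (0, 0), (0, 0), (0, 0), (0, 0), (0, 0), (0, 0), (0, 0), (0, 0), (0, 0), (0, 0), (0, 0), (0, 0), (0, 0), (0, 0), (0, 0), (0, 0), (0, 0), (0, 0), (0, 0), (0, 0), (0, 0), (0, 0), (0, 0), (0, 0), (0, 0)]
  | ⟨12, _⟩ => [(0, 0), (0, 0), (0, 0), (0, 0), (0, 0), (0, 0), (0, 0), (0, 0), (0, 0), (0, 0), (0, 0), (0, 0), (0, 0), (0, 0), (0, 0), (0, 0), (0, 0), (0, 0), (0, 0), (0, 0), (0, 0), (0, 0), (0, 0), (0, 0), (0, 0), (0, 0), (0, 0)]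
  | ⟨13, _⟩ => [(0, 0), (0, 0), (0, 0), (0, 0), (0, 0), (0, 0), (0, 0), (0, 0), (0, 0), (0, 0), (0, 0), (0, 0), (0, 0), (0, 0), (0, 0), (0, 0), (0, 0), (0, 0), (0, 0), (0, 0), (0, 0), (0, 0), (0, 0), (0, 0), (0, 0), (0, 0), (0, 0)]
  | ⟨14, _⟩ => [(0, 0), (0, 0), (0, 0), (0, 0), (0, 0), (0, 0), (0, 0), (0, 0), (0, 0), (0, 0), (0, 0), (0, 0), (0, 0), (0, 0), (0, 0), (0, 0), (0, 0), (0, 0), (0, 0), (0, 0), (0, 0), (0, 0), (0, 0), (0, 0), (0, 0), (0, 0), (0, 0)]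
  | ⟨15, _⟩ => [(0, 0), (0, 0), (0, 0), (0, 0), (0, 0), (0, 0), (0, 0), (0, 0), (0, 0), (0, 0), (0, 0), (0, 0), (0, 0), (0, 0), (0, 0), (0, 0), (0, 0), (0, 0), (0, 0), (0, 0), (0, 0), (0, 0), (0, 0), (0, 0), (0, 0), (0, 0), (0, 0)]
  | ⟨16, _⟩ => [(0, 0), (0, 0), (0, 0), (0, 0), (0, 0), (0, 0), (0, 0), (0, 0), (0, 0), (0, 0), (0, 0), (0, 0), (0, 0), (0, 0), (0, 0), (0, 0), (0, 0), (0, 0), (0, 0), (0, 0), (0, 0), (0, 0), (0, 0), (0, 0), (0, 0), (0, 0), (0, 0)]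
  | ⟨17, _⟩ => [(0, 0), (0, 0), (0, 0), (0, 0), (0, 0), (0, 0), (0, 0), (0, 0), (0, 0), (0, 0), (0, 0), (0, 0), (0, 0), (0, 0), (0, 0), (0, 0), (0, 0), (0, 0), (0, 0), (0, 0), (0, 0), (0, 0), (0, 0), (0, 0), (0, 0), (0, 0), (0, 0)]
  | ⟨18, _⟩ => [(0, 0), (0, 0), (0, 0), (0, 0), (0, 0), (0, 0), (0, 0), (0, 0), (0, 0), (0, 0), (0, 0), (0, 0), (0, 0), (0, 0), (0, 0), (0, 0), (0, 0), (0, 0), (0, 0), (0, 0), (0, 0), (0, 0), (0, 0), (0, 0), (0, 0), (0, 0), (0, 0)]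
  | ⟨19, _⟩ => [(0, 0), (0, 0), (0, 0), (0, 0), (0, 0), (0, 0), (0, 0), (0, 0), (0, 0), (0, 0), (0, 0), (0, 0), (0, 0), (0, 0), (0, 0), (0, 0), (0, 0), (0, 0), (0, 0), (0, 0), (0, 0), (0, 0), (0, 0), (0, 0), (0, 0), (0, 0), (0, 0)]
  | ⟨20, _⟩ => [(0, 0), (0, 0), (0, 0), (3, 0), (3, 0), (3, 0), (3, 0), (3, 0), (3, 0), (0, 0), (0, 0), (0, 0), (3, 0), (3, 0), (3, 0), (3, 0), (3, 0), (3, 0), (0, 0), (0, 0), (0, 0), (3, 0), (3, 0), (3, 0), (3, 0), (3, 0), (3, 0)]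
  | ⟨21, _⟩ => [(0, 0), (0, 0), (0, 0), (0, 0), (0, 0), (0, 0), (0, 0), (0, 0), (0, 0), (0, 0), (0, 0), (0, 0), (0, 0), (0, 0), (0, 0), (0, 0), (0, 0), (0, 0), (0, 0), (0, 0), (0, 0), (0, 0), (0, 0), (0, 0), (0, 0), (0, 0), (0, 0)]
  | ⟨22, _⟩ => [(0, 0), (0, 0), (0, 0), (3, 0), (3, 0), (3, 0), (3, 0), (3, 0), (3, 0), (0, 0), (0, 0), (0, 0), (3, 0), (3, 0), (3, 0), (3, 0), (3, 0), (3, 0), (0, 0), (0, 0), (0, 0), (3, 0), (3, 0), (3, 0), (3, 0), (3, 0), (3, 0)]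
  | ⟨23, _⟩ => [(0, 0), (0, 0), (0, 0), (0, 0), (0, 0), (0, 0), (0, 0), (0, 0), (0, 0), (0, 0), (0, 0), (0, 0), (0, 0), (0, 0), (0, 0), (0, 0), (0, 0), (0, 0), (0, 0), (0, 0), (0, 0), (0, 0), (0, 0), (0, 0), (0, 0), (0, 0), (0, 0)]
  | ⟨_ + 24, h⟩ => absurd h (by omega)

/-- The values of combination 3, as `(u, v)` for `u + v√3`. -/
def valTable3 : Fin 24 → List (ℤ × ℤ)
  | ⟨0, _⟩ => [(0, 0), (3, 0), (3, 0), (3, 0), (6, 0), (6, 0), (3, 0), (6, 0), (6, 0), (3, 0), (6, 0), (6, 0), (6, 0), (9, 0), (9, 0), (6, 0), (9, 0), (9, 0), (3, 0), (6, 0), (6, 0), (6, 0), (9, 0), (9, 0), (6, 0), (9, 0), (9, 0)]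
  | ⟨1, _⟩ => [(0, 0), (0, 0), (0, 0), (0, 0), (0, 0), (0, 0), (0, 0), (0, 0), (0, 0), (3, 0), (3, 0), (3, 0), (3, 0), (3, 0), (3, 0), (3, 0), (3, 0), (3, 0), (3, 0), (3, 0), (3, 0), (3, 0), (3, 0), (3, 0), (3, 0), (3, 0), (3, 0)]
  | ⟨2, _⟩ => [(0, 0), (0, 0), (0, 0), (3, 0), (3, 0), (3, 0), (3, 0), (3, 0), (3, 0), (0, 0), (0, 0), (0, 0), (3, 0), (3, 0), (3, 0), (3, 0), (3, 0), (3, 0), (0, 0), (0, 0), (0, 0), (3, 0), (3, 0), (3, 0), (3, 0), (3, 0), (3, 0)]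
  | ⟨3, _⟩ => [(0, 0), (3, 0), (3, 0), (0, 0), (3, 0), (3, 0), (0, 0), (3, 0), (3, 0), (0, 0), (3, 0), (3, 0), (0, 0), (3, 0), (3, 0), (0, 0), (3, 0), (3, 0), (0, 0), (3, 0), (3, 0), (0, 0), (3, 0), (3, 0), (0, 0), (3, 0), (3, 0)]
  | ⟨4, _⟩ => [(0, 0), (0, 0), (0, 0), (0, 0), (0, 0), (0, 0), (0, 0), (0, 0), (0, 0), (-3, 0), (-3, 0), (-3, 0), (-3, 0), (-3, 0), (-3, 0), (-3, 0), (-3, 0), (-3, 0), (-3, 0), (-3, 0), (-3, 0), (-3, 0), (-3, 0), (-3, 0), (-3, 0), (-3, 0), (-3, 0)]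
  | ⟨5, _⟩ => [(0, 0), (0, 0), (0, 0), (0, 0), (0, 0), (0, 0), (0, 0), (0, 0), (0, 0), (-3, 0), (-3, 0), (-3, 0), (-3, 0), (-3, 0), (-3, 0), (-3, 0), (-3, 0), (-3, 0), (-3, 0), (-3, 0), (-3, 0), (-3, 0), (-3, 0), (-3, 0), (-3, 0), (-3, 0), (-3, 0)]
  | ⟨6, _⟩ => [(0, 0), (0, 0), (0, 0), (0, 0), (0, 0), (0, 0), (0, 0), (0, 0), (0, 0), (0, 0), (0, 0), (0, 0), (0, 0), (0, 0), (0, 0), (0, 0), (0, 0), (0, 0), (0, 0), (0, 0), (0, 0), (0, 0), (0, 0), (0, 0), (0, 0), (0, 0), (0, 0)]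
  | ⟨7, _⟩ => [(0, 0), (0, 0), (0, 0), (0, 0), (0, 0), (0, 0), (0, 0), (0, 0), (0, 0), (0, 0), (0, 0), (0, 0), (0, 0), (0, 0), (0, 0), (0, 0), (0, 0), (0, 0), (0, 0), (0, 0), (0, 0), (0, 0), (0, 0), (0, 0), (0, 0), (0, 0), (0, 0)]
  | ⟨8, _⟩ => [(0, 0), (0, 0), (0, 0), (0, 0), (0, 0), (0, 0), (0, 0), (0, 0), (0, 0), (0, 0), (0, 0), (0, 0), (0, 0), (0, 0), (0, 0), (0, 0), (0, 0), (0, 0), (0, 0), (0, 0), (0, 0), (0, 0), (0, 0), (0, 0), (0, 0), (0, 0), (0, 0)]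
  | ⟨9, _⟩ => [(0, 0), (-3, 0), (-3, 0), (0, 0), (-3, 0), (-3, 0), (0, 0), (-3, 0), (-3, 0), (0, 0), (-3, 0), (-3, 0), (0, 0), (-3, 0), (-3, 0), (0, 0), (-3, 0), (-3, 0), (0, 0), (-3, 0), (-3, 0), (0, 0), (-3, 0), (-3, 0), (0, 0), (-3, 0), (-3, 0)]
  | ⟨10, _⟩ => [(0, 0), (-3, 0), (-3, 0), (0, 0), (-3, 0), (-3, 0), (0, 0), (-3, 0), (-3, 0), (0, 0), (-3, 0), (-3, 0), (0, 0), (-3, 0), (-3, 0), (0, 0), (-3, 0), (-3, 0), (0, 0), (-3, 0), (-3, 0), (0, 0), (-3, 0), (-3, 0), (0, 0), (-3, 0), (-3, 0)]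
  | ⟨11, _⟩ => [(0, 0), (0, 0), (0, 0), (0, 0), (0, 0), (0, 0), (0, 0), (0, 0), (0, 0), (0, 0), (0, 0), (0, 0), (0, 0), (0, 0), (0, 0), (0, 0), (0, 0), (0, 0), (0, 0), (0, 0), (0, 0), (0, 0), (0, 0), (0, 0), (0, 0), (0, 0), (0, 0)]
  | ⟨12, _⟩ => [(0, 0), (0, 0), (0, 0), (0, 0), (0, 0), (0, 0), (0, 0), (0, 0), (0, 0), (0, 0), (0, 0), (0, 0), (0, 0), (0, 0), (0, 0), (0, 0), (0, 0), (0, 0), (0, 0), (0, 0), (0, 0), (0, 0), (0, 0), (0, 0), (0, 0), (0, 0), (0, 0)]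
  | ⟨13, _⟩ => [(0, 0), (0, 0), (0, 0), (0, 0), (0, 0), (0, 0), (0, 0), (0, 0), (0, 0), (0, 0), (0, 0), (0, 0), (0, 0), (0, 0), (0, 0), (0, 0), (0, 0), (0, 0), (0, 0), (0, 0), (0, 0), (0, 0), (0, 0), (0, 0), (0, 0), (0, 0), (0, 0)]
  | ⟨14, _⟩ => [(0, 0), (0, 0), (0, 0), (0, 0), (0, 0), (0, 0), (0, 0), (0, 0), (0, 0), (0, 0), (0, 0), (0, 0), (0, 0), (0, 0), (0, 0), (0, 0), (0, 0), (0, 0), (0, 0), (0, 0), (0, 0), (0, 0), (0, 0), (0, 0), (0, 0), (0, 0), (0, 0)]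
  | ⟨15, _⟩ => [(0, 0), (0, 0), (0, 0), (0, 0), (0, 0), (0, 0), (0, 0), (0, 0), (0, 0), (0, 0), (0, 0), (0, 0), (0, 0), (0, 0), (0, 0), (0, 0), (0, 0), (0, 0), (0, 0), (0, 0), (0, 0), (0, 0), (0, 0), (0, 0), (0, 0), (0, 0), (0, 0)]
  | ⟨16, _⟩ => [(0, 0), (0, 0), (0, 0), (0, 0), (0, 0), (0, 0), (0, 0), (0, 0), (0, 0), (0, 0), (0, 0), (0, 0), (0, 0), (0, 0), (0, 0), (0, 0), (0, 0), (0, 0), (0, 0), (0, 0), (0, 0), (0, 0), (0, 0), (0, 0), (0, 0), (0, 0), (0, 0)]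
  | ⟨17, _⟩ => [(0, 0), (0, 0), (0, 0), (0, 0), (0, 0), (0, 0), (0, 0), (0, 0), (0, 0), (0, 0), (0, 0), (0, 0), (0, 0), (0, 0), (0, 0), (0, 0), (0, 0), (0, 0), (0, 0), (0, 0), (0, 0), (0, 0), (0, 0), (0, 0), (0, 0), (0, 0), (0, 0)]
  | ⟨18, _⟩ => [(0, 0), (0, 0), (0, 0), (0, 0), (0, 0), (0, 0), (0, 0), (0, 0), (0, 0), (0, 0), (0, 0), (0, 0), (0, 0), (0, 0), (0, 0), (0, 0), (0, 0), (0, 0), (0, 0), (0, 0), (0, 0), (0, 0), (0, 0), (0, 0), (0, 0), (0, 0), (0, 0)]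
  | ⟨19, _⟩ => [(0, 0), (0, 0), (0, 0), (0, 0), (0, 0), (0, 0), (0, 0), (0, 0), (0, 0), (0, 0), (0, 0), (0, 0), (0, 0), (0, 0), (0, 0), (0, 0), (0, 0), (0, 0), (0, 0), (0, 0), (0, 0), (0, 0), (0, 0), (0, 0), (0, 0), (0, 0), (0, 0)]
  | ⟨20, _⟩ => [(0, 0), (0, 0), (0, 0), (-3, 0), (-3, 0), (-3, 0), (-3, 0), (-3, 0), (-3, 0), (0, 0), (0, 0), (0, 0), (-3, 0), (-3, 0), (-3, 0), (-3, 0), (-3, 0), (-3, 0), (0, 0), (0, 0), (0, 0), (-3, 0), (-3, 0), (-3, 0), (-3, 0), (-3, 0), (-3, 0)]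
  | ⟨21, _⟩ => [(0, 0), (0, 0), (0, 0), (0, 0), (0, 0), (0, 0), (0, 0), (0, 0), (0, 0), (0, 0), (0, 0), (0, 0), (0, 0), (0, 0), (0, 0), (0, 0), (0, 0), (0, 0), (0, 0), (0, 0), (0, 0), (0, 0), (0, 0), (0, 0), (0, 0), (0, 0), (0, 0)]
  | ⟨22, _⟩ => [(0, 0), (0, 0), (0, 0), (-3, 0), (-3, 0), (-3, 0), (-3, 0), (-3, 0), (-3, 0), (0, 0), (0, 0), (0, 0), (-3, 0), (-3, 0), (-3, 0), (-3, 0), (-3, 0), (-3, 0), (0, 0), (0, 0), (0, 0), (-3, 0), (-3, 0), (-3, 0), (-3, 0), (-3, 0), (-3, 0)]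
  | ⟨23, _⟩ => [(0, 0), (0, 0), (0, 0), (0, 0), (0, 0), (0, 0), (0, 0), (0, 0), (0, 0), (0, 0), (0, 0), (0, 0), (0, 0), (0, 0), (0, 0), (0, 0), (0, 0), (0, 0), (0, 0), (0, 0), (0, 0), (0, 0), (0, 0), (0, 0), (0, 0), (0, 0), (0, 0)]
  | ⟨_ + 24, h⟩ => absurd h (by omega)

/-- The values of combination 4, as `(u, v)` for `u + v√3`. -/
def valTable4 : Fin 24 → List (ℤ × ℤ)
  | ⟨0, _⟩ => [(0, 0), (9, 0), (9, 0), (9, 0), (0, 0), (0, 0), (9, 0), (0, 0), (0, 0), (9, 0), (0, 0), (0, 0), (0, 0), (0, 0), (0, 0), (0, 0), (0, 0), (0, 0), (9, 0), (0, 0), (0, 0), (0, 0), (0, 0), (0, 0), (0, 0), (0, 0), (0, 0)]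
  | ⟨1, _⟩ => [(0, 0), (0, 0), (0, 0), (0, 0), (0, 0), (0, 0), (0, 0), (0, 0), (0, 0), (3, 0), (3, 0), (3, 0), (3, 0), (3, 0), (3, 0), (3, 0), (3, 0), (3, 0), (3, 0), (3, 0), (3, 0), (3, 0), (3, 0), (3, 0), (3, 0), (3, 0), (3, 0)]
  | ⟨2, _⟩ => [(0, 0), (0, 0), (0, 0), (3, 0), (3, 0), (3, 0), (3, 0), (3, 0), (3, 0), (0, 0), (0, 0), (0, 0), (3, 0), (3, 0), (3, 0), (3, 0), (3, 0), (3, 0), (0, 0), (0, 0), (0, 0), (3, 0), (3, 0), (3, 0), (3, 0), (3, 0), (3, 0)]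
  | ⟨3, _⟩ => [(0, 0), (3, 0), (3, 0), (0, 0), (3, 0), (3, 0), (0, 0), (3, 0), (3, 0), (0, 0), (3, 0), (3, 0), (0, 0), (3, 0), (3, 0), (0, 0), (3, 0), (3, 0), (0, 0), (3, 0), (3, 0), (0, 0), (3, 0), (3, 0), (0, 0), (3, 0), (3, 0)]
  | ⟨4, _⟩ => [(0, 0), (0, 0), (0, 0), (0, 0), (0, 0), (0, 0), (0, 0), (0, 0), (0, 0), (0, -1), (0, -1), (0, -1), (0, -1), (0, -1), (0, -1), (0, -1), (0, -1), (0, -1), (0, 1), (0, 1), (0, 1), (0, 1), (0, 1), (0, 1), (0, 1), (0, 1), (0, 1)]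
  | ⟨5, _⟩ => [(0, 0), (0, 0), (0, 0), (0, 0), (0, 0), (0, 0), (0, 0), (0, 0), (0, 0), (0, 1), (0, 1), (0, 1), (0, 1), (0, 1), (0, 1), (0, 1), (0, 1), (0, 1), (0, -1), (0, -1), (0, -1), (0, -1), (0, -1), (0, -1), (0, -1), (0, -1), (0, -1)]
  | ⟨6, _⟩ => [(0, 0), (0, 0), (0, 0), (0, 0), (0, 0), (0, 0), (0, 0), (0, 0), (0, 0), (0, 0), (0, 0), (0, 0), (0, 0), (0, 0), (0, 0), (0, 0), (0, 0), (0, 0), (0, 0), (0, 0), (0, 0), (0, 0), (0, 0), (0, 0), (0, 0), (0, 0), (0, 0)]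
  | ⟨7, _⟩ => [(0, 0), (0, 0), (0, 0), (0, 0), (0, 0), (0, 0), (0, 0), (0, 0), (0, 0), (0, 0), (0, 0), (0, 0), (0, 0), (0, 0), (0, 0), (0, 0), (0, 0), (0, 0), (0, 0), (0, 0), (0, 0), (0, 0), (0, 0), (0, 0), (0, 0), (0, 0), (0, 0)]
  | ⟨8, _⟩ => [(0, 0), (0, 0), (0, 0), (0, 0), (0, 0), (0, 0), (0, 0), (0, 0), (0, 0), (0, 0), (0, 0), (0, 0), (0, 0), (0, 0), (0, 0), (0, 0), (0, 0), (0, 0), (0, 0), (0, 0), (0, 0), (0, 0), (0, 0), (0, 0), (0, 0), (0, 0), (0, 0)]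
  | ⟨9, _⟩ => [(0, 0), (0, -1), (0, 1), (0, 0), (0, -1), (0, 1), (0, 0), (0, -1), (0, 1), (0, 0), (0, -1), (0, 1), (0, 0), (0, -1), (0, 1), (0, 0), (0, -1), (0, 1), (0, 0), (0, -1), (0, 1), (0, 0), (0, -1), (0, 1), (0, 0), (0, -1), (0, 1)]
  | ⟨10, _⟩ => [(0, 0), (0, 1), (0, -1), (0, 0), (0, 1), (0, -1), (0, 0), (0, 1), (0, -1), (0, 0), (0, 1), (0, -1), (0, 0), (0, 1), (0, -1), (0, 0), (0, 1), (0, -1), (0, 0), (0, 1), (0, -1), (0, 0), (0, 1), (0, -1), (0, 0), (0, 1), (0, -1)]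
  | ⟨11, _⟩ => [(0, 0), (0, 0), (0, 0), (0, 0), (0, 0), (0, 0), (0, 0), (0, 0), (0, 0), (0, 0), (0, 0), (0, 0), (0, 0), (0, 0), (0, 0), (0, 0), (0, 0), (0, 0), (0, 0), (0, 0), (0, 0), (0, 0), (0, 0), (0, 0), (0, 0), (0, 0), (0, 0)]
  | ⟨12, _⟩ => [(0, 0), (3, 0), (3, 0), (3, 0), (3, 0), (0, 0), (3, 0), (0, 0), (3, 0), (3, 0), (3, 0), (0, 0), (3, 0), (0, 0), (3, 0), (0, 0), (3, 0), (3, 0), (3, 0), (0, 0), (3, 0), (0, 0), (3, 0), (3, 0), (3, 0), (3, 0), (0, 0)]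
  | ⟨13, _⟩ => [(0, 0), (3, 0), (3, 0), (3, 0), (0, 0), (3, 0), (3, 0), (3, 0), (0, 0), (3, 0), (0, 0), (3, 0), (3, 0), (3, 0), (0, 0), (0, 0), (3, 0), (3, 0), (3, 0), (3, 0), (0, 0), (0, 0), (3, 0), (3, 0), (3, 0), (0, 0), (3, 0)]
  | ⟨14, _⟩ => [(0, 0), (3, 0), (3, 0), (3, 0), (3, 0), (0, 0), (3, 0), (0, 0), (3, 0), (3, 0), (0, 0), (3, 0), (0, 0), (3, 0), (3, 0), (3, 0), (3, 0), (0, 0), (3, 0), (3, 0), (0, 0), (3, 0), (0, 0), (3, 0), (0, 0), (3, 0), (3, 0)]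
  | ⟨15, _⟩ => [(0, 0), (3, 0), (3, 0), (3, 0), (0, 0), (3, 0), (3, 0), (3, 0), (0, 0), (3, 0), (3, 0), (0, 0), (0, 0), (3, 0), (3, 0), (3, 0), (0, 0), (3, 0), (3, 0), (0, 0), (3, 0), (3, 0), (3, 0), (0, 0), (0, 0), (3, 0), (3, 0)]
  | ⟨16, _⟩ => [(0, 0), (3, 0), (3, 0), (3, 0), (3, 0), (0, 0), (3, 0), (0, 0), (3, 0), (3, 0), (3, 0), (0, 0), (3, 0), (0, 0), (3, 0), (0, 0), (3, 0), (3, 0), (3, 0), (0, 0), (3, 0), (0, 0), (3, 0), (3, 0), (3, 0), (3, 0), (0, 0)]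
  | ⟨17, _⟩ => [(0, 0), (3, 0), (3, 0), (3, 0), (0, 0), (3, 0), (3, 0), (3, 0), (0, 0), (3, 0), (3, 0), (0, 0), (0, 0), (3, 0), (3, 0), (3, 0), (0, 0), (3, 0), (3, 0), (0, 0), (3, 0), (3, 0), (3, 0), (0, 0), (0, 0), (3, 0), (3, 0)]
  | ⟨18, _⟩ => [(0, 0), (3, 0), (3, 0), (3, 0), (0, 0), (3, 0), (3, 0), (3, 0), (0, 0), (3, 0), (0, 0), (3, 0), (3, 0), (3, 0), (0, 0), (0, 0), (3, 0), (3, 0), (3, 0), (3, 0), (0, 0), (0, 0), (3, 0), (3, 0), (3, 0), (0, 0), (3, 0)]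
  | ⟨19, _⟩ => [(0, 0), (3, 0), (3, 0), (3, 0), (3, 0), (0, 0), (3, 0), (0, 0), (3, 0), (3, 0), (0, 0), (3, 0), (0, 0), (3, 0), (3, 0), (3, 0), (3, 0), (0, 0), (3, 0), (3, 0), (0, 0), (3, 0), (0, 0), (3, 0), (0, 0), (3, 0), (3, 0)]
  | ⟨20, _⟩ => [(0, 0), (0, 0), (0, 0), (0, 1), (0, 1), (0, 1), (0, -1), (0, -1), (0, -1), (0, 0), (0, 0), (0, 0), (0, 1), (0, 1), (0, 1), (0, -1), (0, -1), (0, -1), (0, 0), (0, 0), (0, 0), (0, 1), (0, 1), (0, 1), (0, -1), (0, -1), (0, -1)]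
  | ⟨21, _⟩ => [(0, 0), (0, 0), (0, 0), (0, 0), (0, 0), (0, 0), (0, 0), (0, 0), (0, 0), (0, 0), (0, 0), (0, 0), (0, 0), (0, 0), (0, 0), (0, 0), (0, 0), (0, 0), (0, 0), (0, 0), (0, 0), (0, 0), (0, 0), (0, 0), (0, 0), (0, 0), (0, 0)]
  | ⟨22, _⟩ => [(0, 0), (0, 0), (0, 0), (0, -1), (0, -1), (0, -1), (0, 1), (0, 1), (0, 1), (0, 0), (0, 0), (0, 0), (0, -1), (0, -1), (0, -1), (0, 1), (0, 1), (0, 1), (0, 0), (0, 0), (0, 0), (0, -1), (0, -1), (0, -1), (0, 1), (0, 1), (0, 1)]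
  | ⟨23, _⟩ => [(0, 0), (0, 0), (0, 0), (0, 0), (0, 0), (0, 0), (0, 0), (0, 0), (0, 0), (0, 0), (0, 0), (0, 0), (0, 0), (0, 0), (0, 0), (0, 0), (0, 0), (0, 0), (0, 0), (0, 0), (0, 0), (0, 0), (0, 0), (0, 0), (0, 0), (0, 0), (0, 0)]
  | ⟨_ + 24, h⟩ => absurd h (by omega)

/-- The values of combination 5, as `(u, v)` for `u + v√3`. -/
def valTable5 : Fin 24 → List (ℤ × ℤ)
  | ⟨0, _⟩ => [(0, 0), (0, 0), (0, 0), (0, 0), (0, 0), (0, 0), (0, 0), (0, 0), (0, 0), (0, 0), (0, 0), (0, 0), (0, 0), (0, 0), (0, 0), (0, 0), (0, 0), (0, 0), (0, 0), (0, 0), (0, 0), (0, 0), (0, 0), (0, 0), (0, 0), (0, 0), (0, 0)]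
  | ⟨1, _⟩ => [(0, 0), (0, 0), (0, 0), (0, 0), (0, 0), (0, 0), (0, 0), (0, 0), (0, 0), (0, 0), (0, 0), (0, 0), (0, 0), (0, 0), (0, 0), (0, 0), (0, 0), (0, 0), (0, 0), (0, 0), (0, 0), (0, 0), (0, 0), (0, 0), (0, 0), (0, 0), (0, 0)]
  | ⟨2, _⟩ => [(0, 0), (0, 0), (0, 0), (0, 0), (0, 0), (0, 0), (0, 0), (0, 0), (0, 0), (0, 0), (0, 0), (0, 0), (0, 0), (0, 0), (0, 0), (0, 0), (0, 0), (0, 0), (0, 0), (0, 0), (0, 0), (0, 0), (0, 0), (0, 0), (0, 0), (0, 0), (0, 0)]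
  | ⟨3, _⟩ => [(0, 0), (0, 0), (0, 0), (0, 0), (0, 0), (0, 0), (0, 0), (0, 0), (0, 0), (0, 0), (0, 0), (0, 0), (0, 0), (0, 0), (0, 0), (0, 0), (0, 0), (0, 0), (0, 0), (0, 0), (0, 0), (0, 0), (0, 0), (0, 0), (0, 0), (0, 0), (0, 0)]
  | ⟨4, _⟩ => [(0, 0), (0, 0), (0, 0), (0, 0), (0, 0), (0, 0), (0, 0), (0, 0), (0, 0), (0, 0), (0, 0), (0, 0), (0, 0), (0, 0), (0, 0), (0, 0), (0, 0), (0, 0), (0, 0), (0, 0), (0, 0), (0, 0), (0, 0), (0, 0), (0, 0), (0, 0), (0, 0)]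
  | ⟨5, _⟩ => [(0, 0), (0, 0), (0, 0), (0, 0), (0, 0), (0, 0), (0, 0), (0, 0), (0, 0), (0, 0), (0, 0), (0, 0), (0, 0), (0, 0), (0, 0), (0, 0), (0, 0), (0, 0), (0, 0), (0, 0), (0, 0), (0, 0), (0, 0), (0, 0), (0, 0), (0, 0), (0, 0)]
  | ⟨6, _⟩ => [(0, 0), (0, 0), (0, 0), (0, 0), (0, 0), (0, 0), (0, 0), (0, 0), (0, 0), (0, 0), (0, 0), (0, 0), (0, 0), (0, 0), (0, 0), (0, 0), (0, 0), (0, 0), (0, 0), (0, 0), (0, 0), (0, 0), (0, 0), (0, 0), (0, 0), (0, 0), (0, 0)]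
  | ⟨7, _⟩ => [(0, 0), (0, 0), (0, 0), (0, 0), (0, 0), (0, 0), (0, 0), (0, 0), (0, 0), (0, 0), (0, 0), (0, 0), (0, 0), (0, 0), (0, 0), (0, 0), (0, 0), (0, 0), (0, 0), (0, 0), (0, 0), (0, 0), (0, 0), (0, 0), (0, 0), (0, 0), (0, 0)]
  | ⟨8, _⟩ => [(0, 0), (0, 0), (0, 0), (0, 0), (0, 0), (0, 0), (0, 0), (0, 0), (0, 0), (0, 0), (0, 0), (0, 0), (0, 0), (0, 0), (0, 0), (0, 0), (0, 0), (0, 0), (0, 0), (0, 0), (0, 0), (0, 0), (0, 0), (0, 0), (0, 0), (0, 0), (0, 0)]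
  | ⟨9, _⟩ => [(0, 0), (0, 0), (0, 0), (0, 0), (0, 0), (0, 0), (0, 0), (0, 0), (0, 0), (0, 0), (0, 0), (0, 0), (0, 0), (0, 0), (0, 0), (0, 0), (0, 0), (0, 0), (0, 0), (0, 0), (0, 0), (0, 0), (0, 0), (0, 0), (0, 0), (0, 0), (0, 0)]
  | ⟨10, _⟩ => [(0, 0), (0, 0), (0, 0), (0, 0), (0, 0), (0, 0), (0, 0), (0, 0), (0, 0), (0, 0), (0, 0), (0, 0), (0, 0), (0, 0), (0, 0), (0, 0), (0, 0), (0, 0), (0, 0), (0, 0), (0, 0), (0, 0), (0, 0), (0, 0), (0, 0), (0, 0), (0, 0)]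
  | ⟨11, _⟩ => [(0, 0), (0, 0), (0, 0), (0, 0), (0, 0), (0, 0), (0, 0), (0, 0), (0, 0), (0, 0), (0, 0), (0, 0), (0, 0), (0, 0), (0, 0), (0, 0), (0, 0), (0, 0), (0, 0), (0, 0), (0, 0), (0, 0), (0, 0), (0, 0), (0, 0), (0, 0), (0, 0)]
  | ⟨12, _⟩ => [(0, 0), (-3, 0), (3, 0), (-3, 0), (3, 0), (0, 0), (3, 0), (0, 0), (-3, 0), (-3, 0), (3, 0), (0, 0), (3, 0), (0, 0), (-3, 0), (0, 0), (-3, 0), (3, 0), (3, 0), (0, 0), (-3, 0), (0, 0), (-3, 0), (3, 0), (-3, 0), (3, 0), (0, 0)]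
  | ⟨13, _⟩ => [(0, 0), (-3, 0), (3, 0), (3, 0), (0, 0), (-3, 0), (-3, 0), (3, 0), (0, 0), (3, 0), (0, 0), (-3, 0), (-3, 0), (3, 0), (0, 0), (0, 0), (-3, 0), (3, 0), (-3, 0), (3, 0), (0, 0), (0, 0), (-3, 0), (3, 0), (3, 0), (0, 0), (-3, 0)]
  | ⟨14, _⟩ => [(0, 0), (3, 0), (-3, 0), (3, 0), (-3, 0), (0, 0), (-3, 0), (0, 0), (3, 0), (-3, 0), (0, 0), (3, 0), (0, 0), (3, 0), (-3, 0), (3, 0), (-3, 0), (0, 0), (3, 0), (-3, 0), (0, 0), (-3, 0), (0, 0), (3, 0), (0, 0), (3, 0), (-3, 0)]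
  | ⟨15, _⟩ => [(0, 0), (3, 0), (-3, 0), (-3, 0), (0, 0), (3, 0), (3, 0), (-3, 0), (0, 0), (3, 0), (-3, 0), (0, 0), (0, 0), (3, 0), (-3, 0), (-3, 0), (0, 0), (3, 0), (-3, 0), (0, 0), (3, 0), (3, 0), (-3, 0), (0, 0), (0, 0), (3, 0), (-3, 0)]
  | ⟨16, _⟩ => [(0, 0), (3, 0), (-3, 0), (3, 0), (-3, 0), (0, 0), (-3, 0), (0, 0), (3, 0), (3, 0), (-3, 0), (0, 0), (-3, 0), (0, 0), (3, 0), (0, 0), (3, 0), (-3, 0), (-3, 0), (0, 0), (3, 0), (0, 0), (3, 0), (-3, 0), (3, 0), (-3, 0), (0, 0)]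
  | ⟨17, _⟩ => [(0, 0), (-3, 0), (3, 0), (3, 0), (0, 0), (-3, 0), (-3, 0), (3, 0), (0, 0), (-3, 0), (3, 0), (0, 0), (0, 0), (-3, 0), (3, 0), (3, 0), (0, 0), (-3, 0), (3, 0), (0, 0), (-3, 0), (-3, 0), (3, 0), (0, 0), (0, 0), (-3, 0), (3, 0)]
  | ⟨18, _⟩ => [(0, 0), (3, 0), (-3, 0), (-3, 0), (0, 0), (3, 0), (3, 0), (-3, 0), (0, 0), (-3, 0), (0, 0), (3, 0), (3, 0), (-3, 0), (0, 0), (0, 0), (3, 0), (-3, 0), (3, 0), (-3, 0), (0, 0), (0, 0), (3, 0), (-3, 0), (-3, 0), (0, 0), (3, 0)]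
  | ⟨19, _⟩ => [(0, 0), (-3, 0), (3, 0), (-3, 0), (3, 0), (0, 0), (3, 0), (0, 0), (-3, 0), (3, 0), (0, 0), (-3, 0), (0, 0), (-3, 0), (3, 0), (-3, 0), (3, 0), (0, 0), (-3, 0), (3, 0), (0, 0), (3, 0), (0, 0), (-3, 0), (0, 0), (-3, 0), (3, 0)]
  | ⟨20, _⟩ => [(0, 0), (0, 0), (0, 0), (0, 0), (0, 0), (0, 0), (0, 0), (0, 0), (0, 0), (0, 0), (0, 0), (0, 0), (0, 0), (0, 0), (0, 0), (0, 0), (0, 0), (0, 0), (0, 0), (0, 0), (0, 0), (0, 0), (0, 0), (0, 0), (0, 0), (0, 0), (0, 0)]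
  | ⟨21, _⟩ => [(0, 0), (0, 0), (0, 0), (0, 0), (0, 0), (0, 0), (0, 0), (0, 0), (0, 0), (0, 0), (0, 0), (0, 0), (0, 0), (0, 0), (0, 0), (0, 0), (0, 0), (0, 0), (0, 0), (0, 0), (0, 0), (0, 0), (0, 0), (0, 0), (0, 0), (0, 0), (0, 0)]
  | ⟨22, _⟩ => [(0, 0), (0, 0), (0, 0), (0, 0), (0, 0), (0, 0), (0, 0), (0, 0), (0, 0), (0, 0), (0, 0), (0, 0), (0, 0), (0, 0), (0, 0), (0, 0), (0, 0), (0, 0), (0, 0), (0, 0), (0, 0), (0, 0), (0, 0), (0, 0), (0, 0), (0, 0), (0, 0)]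
  | ⟨23, _⟩ => [(0, 0), (0, 0), (0, 0), (0, 0), (0, 0), (0, 0), (0, 0), (0, 0), (0, 0), (0, 0), (0, 0), (0, 0), (0, 0), (0, 0), (0, 0), (0, 0), (0, 0), (0, 0), (0, 0), (0, 0), (0, 0), (0, 0), (0, 0), (0, 0), (0, 0), (0, 0), (0, 0)]
  | ⟨_ + 24, h⟩ => absurd h (by omega)

/-- The values of the combinations. -/
def valTable : Fin 6 → Fin 24 → List (ℤ × ℤ)
  | ⟨0, _⟩ => valTable0
  | ⟨1, _⟩ => valTable1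
  | ⟨2, _⟩ => valTable2
  | ⟨3, _⟩ => valTable3
  | ⟨4, _⟩ => valTable4
  | ⟨5, _⟩ => valTable5
  | ⟨_ + 6, h⟩ => absurd h (by omega)

/-- A class of involutions. -/
def invListOne : List ((ZMod 3 × ZMod 3 × ZMod 3) × Fin 24) := [
  ((0, 0, 0), 1), ((0, 0, 0), 2), ((0, 0, 0), 3), ((0, 0, 1), 1), ((0, 0, 1), 2), ((0, 0, 2), 1),
  ((0, 0, 2), 2), ((0, 1, 0), 1), ((0, 1, 0), 3), ((0, 1, 1), 1), ((0, 1, 2), 1), ((0, 2, 0), 1),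
  ((0, 2, 0), 3), ((0, 2, 1), 1), ((0, 2, 2), 1), ((1, 0, 0), 2), ((1, 0, 0), 3), ((1, 0, 1), 2),
  ((1, 0, 2), 2), ((1, 1, 0), 3), ((1, 2, 0), 3), ((2, 0, 0), 2), ((2, 0, 0), 3), ((2, 0, 1), 2),
  ((2, 0, 2), 2), ((2, 1, 0), 3), ((2, 2, 0), 3)]

/-- A class of involutions. -/
def invListTwo : List ((ZMod 3 × ZMod 3 × ZMod 3) × Fin 24) := [
  ((0, 0, 0), 6), ((0, 0, 0), 7), ((0, 0, 0), 8), ((0, 0, 0), 11), ((0, 0, 0), 21), ((0, 0, 0), 23),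
  ((0, 0, 1), 8), ((0, 0, 1), 11), ((0, 0, 2), 8), ((0, 0, 2), 11), ((0, 1, 0), 21), ((0, 1, 0), 23),
  ((0, 1, 1), 7), ((0, 1, 2), 6), ((0, 2, 0), 21), ((0, 2, 0), 23), ((0, 2, 1), 6), ((0, 2, 2), 7),
  ((1, 0, 0), 6), ((1, 0, 0), 7), ((1, 0, 1), 23), ((1, 0, 2), 21), ((1, 1, 0), 11), ((1, 1, 1), 7),
  ((1, 1, 1), 11), ((1, 1, 1), 23), ((1, 1, 2), 6), ((1, 1, 2), 11), ((1, 1, 2), 21), ((1, 2, 0), 8),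
  ((1, 2, 1), 6), ((1, 2, 1), 8), ((1, 2, 1), 23), ((1, 2, 2), 7), ((1, 2, 2), 8), ((1, 2, 2), 21),
  ((2, 0, 0), 6), ((2, 0, 0), 7), ((2, 0, 1), 21), ((2, 0, 2), 23), ((2, 1, 0), 8), ((2, 1, 1), 7),
  ((2, 1, 1), 8), ((2, 1, 1), 21), ((2, 1, 2), 6), ((2, 1, 2), 8), ((2, 1, 2), 23), ((2, 2, 0), 11),
  ((2, 2, 1), 6), ((2, 2, 1), 11), ((2, 2, 1), 21), ((2, 2, 2), 7), ((2, 2, 2), 11), ((2, 2, 2), 23)]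

end CfsgLib.A9Local
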