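import Cfsg.Agent.Lib.A9Local.Exceptional
import Cfsg.Agent.Lib.A9Local.Points
import Cfsg.Agent.Lib.Basic
import Cfsg.Agent.S3701

set_option autoImplicit false

/-!
A group containing the model in this way is the model.
-/

namespace CfsgLib.A9Local

open Cfsg CfsgLib.CharTheory
open scoped ComplexConjugate

universe u

variable {G : Type u} [Group G] (m : Emb G)

theorem transl_subgroup_eq {D : Subgroup HM} (h0 : basisVec 0 ∈ D) (h1 : basisVec 1 ∈ D) (h2 : basisVec 2 ∈ D) :
    transl ≤ D := fun h hh => by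
  obtain ⟨v, g⟩ := h
  simp only [mem_transl] at hh
  subst hh
  rw [transl_eq v]
  exact mul_mem (mul_mem (pow_mem h0 _) (pow_mem h1 _)) (pow_mem h2 _)

theorem card_transl : Nat.card transl = 27 := by
  rw [Nat.card_congr (⟨fun h => h.1.v, fun v => ⟨⟨v, 0⟩, rfl⟩, fun ⟨⟨v, g⟩, hg⟩ => by
    simp only [mem_transl] at hg
    subst hg
    rfl, fun v => rfl⟩ : transl ≃ Vec), Nat.card_eq_fintype_card]
  rfl

theorem transl_normal : transl.Normal := ⟨fun h hh k => by
  obtain ⟨v, g⟩ := h
  simp only [mem_transl] at hh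
  subst hh
  show rMul (rMul k.g 0) (rInv k.g) = 0
  rw [(rMul_one k.g).2, rMul_inv]⟩

theorem basis_one_comm : basisVec 1 = ⟨0, 1⟩ * (basisVec 1 * (⟨0, 1⟩ : HM)⁻¹ * (basisVec 1)⁻¹) := by decide +kernel

/-- A three-subgroup containing the translations lies in the range. -/
theorem Emb.three_le_range [Finite G] {P : Subgroup G} (hP : IsPGroup 3 P) (hJ : transl.map m.ι ≤ P) :
    P ≤ m.ι.range := by
  haveI : Fact (Nat.Prime 3) := ⟨Nat.prime_three⟩
  by_contra hle
  haveI : Group.IsNilpotent P := hP.isNilpotent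
  have hlt : (m.ι.range ⊓ P).subgroupOf P < ⊤ :=
    lt_top_iff_ne_top.mpr fun e => hle fun x hx => by
      have : (⟨x, hx⟩ : P) ∈ (m.ι.range ⊓ P).subgroupOf P := e ▸ Subgroup.mem_top _
      exact this.1
  obtain ⟨x, hxn, hx⟩ := SetLike.exists_of_lt (Group.normalizerCondition_of_isNilpotent _ hlt)
  refine hx ⟨m.ctrl₀ x ?_, x.2⟩
  have hb : m.ι (basisVec 0) ∈ P := hJ (Subgroup.mem_map_of_mem _ rfl)
  exact ((Subgroup.mem_normalizer_iff.mp hxn ⟨_, hb⟩).mp
    ⟨⟨_, rfl⟩, hb⟩ : (x : G) * m.ι (basisVec 0) * (x : G)⁻¹ ∈ m.ι.range ⊓ P).1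

theorem Emb.top [Finite G] : m.ι.range = ⊤ := by
  classical
  haveI := Fintype.ofFinite G
  haveI : Fact (Nat.Prime 3) := ⟨Nat.prime_three⟩
  obtain ⟨χ, h2, ht⟩ := m.exists_two
  set K := charKernel _ (isCharacter_of_irr χ.2) with hK
  haveI hKn : K.Normal := inferInstance
  have htK : m.ι (tRep 0) ∈ K := (mem_charKernel _ _).mpr (ht.trans h2.symm)
  set D : Subgroup HM := K.comap m.ι with hD
  haveI hDn : D.Normal := inferInstance
  have htD : (⟨0, 1⟩ : HM) ∈ D := htK
  have hb1 : basisVec 1 ∈ D := by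
    rw [basis_one_comm]
    exact mul_mem htD (hDn.conj_mem _ (inv_mem htD) _)
  have hb0 : basisVec 0 ∈ D := by
    rw [show basisVec 0 = (⟨0, 16⟩ : HM)⁻¹ * basisVec 1 * ((⟨0, 16⟩ : HM)⁻¹)⁻¹ by rw [basis_conj.1]; group]
    exact hDn.conj_mem _ hb1 _
  have hb2 : basisVec 2 ∈ D := by rw [basis_conj.2]; exact hDn.conj_mem _ hb1 _
  have hJD : transl ≤ D := transl_subgroup_eq hb0 hb1 hb2
  have hrot : ∀ h : HM, h ∈ D ↔ (⟨0, h.g⟩ : HM) ∈ D := fun h => by
    conv_lhs => rw [split_eq h]
    exact Subgroup.mul_mem_cancel_left _ (hJD rfl)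
  have hV : ∀ g : Fin 24, g = 0 ∨ g = 1 ∨ g = 2 ∨ g = 3 → (⟨0, g⟩ : HM) ∈ D := by
    rintro g (rfl | hg)
    · exact one_mem D
    obtain ⟨k, hk⟩ := four_group_mem g hg
    have := hDn.conj_mem _ htD ⟨0, k⟩
    rw [hrot] at this
    rwa [← hk]
  -- Frattini
  have hJK : transl.map m.ι ≤ K := by
    rintro _ ⟨x, hx, rfl⟩
    exact hJD hx
  have hJP : IsPGroup 3 ((transl.map m.ι).subgroupOf K) := IsPGroup.of_card (n := 3) (by
    rw [Nat.card_congr (Subgroup.subgroupOfEquivOfLe hJK).toEquiv, Subgroup.card_map_of_injective m.inj, card_transl]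
    rfl)
  obtain ⟨Q, hQ⟩ := hJP.exists_le_sylow
  have hQle : (Q : Subgroup K).map K.subtype ≤ m.ι.range := m.three_le_range (Q.2.map _) fun x hx =>
    ⟨⟨x, hJK hx⟩, hQ (show (⟨x, hJK hx⟩ : K) ∈ (transl.map m.ι).subgroupOf K from hx), rfl⟩
  have hsup : Subgroup.normalizer (((Q : Subgroup K).map K.subtype : Subgroup G) : Set G) ⊔ K = ⊤ :=
    Sylow.normalizer_sup_eq_top Q
  have hNle : Subgroup.normalizer (((Q : Subgroup K).map K.subtype : Subgroup G) : Set G) ≤ m.ι.range := fun x hx => by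
    refine m.ctrl₀ x (hQle ((Subgroup.mem_normalizer_iff.mp hx _).mp ?_))
    have hm : m.ι (basisVec 0) ∈ transl.map m.ι := Subgroup.mem_map_of_mem _ rfl
    exact ⟨⟨_, hJK hm⟩, hQ (show (⟨_, hJK hm⟩ : K) ∈ (transl.map m.ι).subgroupOf K from hm), rfl⟩
  have hHK : m.ι.range ⊔ K = ⊤ := by rw [eq_top_iff, ← hsup]; exact sup_le_sup_right hNle K
  by_cases hbig : ∀ h : HM, h ∈ D → h.g = 0 ∨ h.g = 1 ∨ h.g = 2 ∨ h.g = 3
  · -- the kernel meets the model in the translations by the four group
    have hmemD : ∀ h : HM, h ∈ D ↔ (h.g = 0 ∨ h.g = 1 ∨ h.g = 2 ∨ h.g = 3) := fun h =>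
      ⟨hbig h, fun e => (hrot h).mpr (hV _ e)⟩
    have eD : D.map theta = Subgroup.closure ({Equiv.swap (0 : Fin 9) 1 * Equiv.swap 1 2,
        Equiv.swap (3 : Fin 9) 4 * Equiv.swap 4 5, Equiv.swap (6 : Fin 9) 7 * Equiv.swap 7 8,
        Equiv.swap (0 : Fin 9) 1 * Equiv.swap 3 4, Equiv.swap (0 : Fin 9) 1 * Equiv.swap 6 7} :
          Set (Equiv.Perm (Fin 9))) := by
      obtain ⟨e1, e2, e3, -, e5, e6, -⟩ := theta_gens
      rw [← e1, ← e2, ← e3, ← e5, ← e6]
      refine le_antisymm ?_ ((Subgroup.closure_le _).mpr ?_)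
      · rw [Subgroup.map_le_iff_le_comap]
        set C := Subgroup.closure ({theta ⟨(1, 0, 0), 0⟩, theta ⟨(0, 1, 0), 0⟩, theta ⟨(0, 0, 1), 0⟩,
          theta ⟨(1, 1, 0), 3⟩, theta ⟨(1, 0, 1), 2⟩} : Set (Equiv.Perm (Fin 9))) with hC
        have g0 : basisVec 0 ∈ C.comap theta := Subgroup.subset_closure (by simp [basisVec, single])
        have g1 : basisVec 1 ∈ C.comap theta := Subgroup.subset_closure (by simp [basisVec, single])
        have g2 : basisVec 2 ∈ C.comap theta := Subgroup.subset_closure (by simp [basisVec, single])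
        have hT := transl_subgroup_eq g0 g1 g2
        have g3 : (⟨0, 3⟩ : HM) ∈ C.comap theta := by
          rw [flat_eq.1]; exact mul_mem (inv_mem (hT rfl)) (Subgroup.subset_closure (by simp))
        have g4 : (⟨0, 2⟩ : HM) ∈ C.comap theta := by
          rw [flat_eq.2.1]; exact mul_mem (inv_mem (hT rfl)) (Subgroup.subset_closure (by simp))
        intro h hh
        obtain ⟨e, f, hef⟩ := four_eq h.g (hbig h hh)
        rw [split_eq h, hef]
        exact mul_mem (hT rfl) (mul_mem (pow_mem g3 _) (pow_mem g4 _))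
      · rintro x (rfl | rfl | rfl | rfl | rfl) <;> exact ⟨_, (hmemD _).mpr (by decide), rfl⟩
    let eK : (m.ι.range).subgroupOf K ≃* D :=
      { toFun := fun x => ⟨(MonoidHom.ofInjective m.inj).symm ⟨(x : K), x.2⟩, by
          show m.ι _ ∈ K
          rw [show m.ι ((MonoidHom.ofInjective m.inj).symm ⟨((x : K) : G), x.2⟩) = ((x : K) : G) from
            congrArg Subtype.val ((MonoidHom.ofInjective m.inj).apply_symm_apply _)]
          exact (x : K).2⟩
        invFun := fun k => ⟨⟨m.ι k, k.2⟩, ⟨k.1, rfl⟩⟩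
        left_inv := fun x => by
          apply Subtype.ext
          apply Subtype.ext
          exact congrArg (fun z : m.ι.range => (z : G))
            ((MonoidHom.ofInjective m.inj).apply_symm_apply ⟨((x : K) : G), x.2⟩)
        right_inv := fun k => Subtype.ext ((MonoidHom.ofInjective m.inj).symm_apply_apply k.1)
        map_mul' := fun x y => by
          apply Subtype.ext
          exact map_mul (MonoidHom.ofInjective m.inj).symm ⟨((x : K) : G), x.2⟩ ⟨((y : K) : G), y.2⟩ }
    have hcl := Cfsg.Agent.S3701.result ((m.ι.range).subgroupOf K)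
      ⟨(eK.trans (D.equivMapOfInjective theta ((injective_iff_map_eq_one theta).mpr theta_ker))).trans
        (MulEquiv.subgroupCongr eD)⟩
      ((transl.map m.ι).subgroupOf K) (fun y hy => by
        obtain ⟨x, -, hx⟩ := hy
        exact ⟨x, hx⟩)
      (by rw [Nat.card_congr (Subgroup.subgroupOfEquivOfLe hJK).toEquiv,
        Subgroup.card_map_of_injective m.inj, card_transl])
      ?_ ?_
    · have hKle : K ≤ m.ι.range := Subgroup.subgroupOf_eq_top.mp hcl
      rw [← hHK, sup_eq_left.mpr hKle]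
    · ext x
      have hfix : ∀ (k : HM) (z : G), z ∈ transl.map m.ι → m.ι k * z * (m.ι k)⁻¹ ∈ transl.map m.ι := by
        rintro k _ ⟨y, hy, rfl⟩
        exact ⟨k * y * k⁻¹, transl_normal.conj_mem y hy k, by simp⟩
      constructor
      · intro hx
        refine m.ctrl₀ (x : G) ?_
        have hm : m.ι (basisVec 0) ∈ transl.map m.ι := Subgroup.mem_map_of_mem _ rfl
        obtain ⟨y, -, hy⟩ := (Subgroup.mem_normalizer_iff.mp hx ⟨_, hJK hm⟩).mp hm
        exact ⟨y, hy⟩
      · rintro ⟨k, hk⟩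
        rw [Subgroup.mem_normalizer_iff]
        intro y
        simp only [Subgroup.mem_subgroupOf, Subgroup.coe_mul, InvMemClass.coe_inv]
        rw [show (x : G) = m.ι k from hk.symm]
        refine ⟨hfix k _, fun hy => ?_⟩
        have := hfix k⁻¹ _ hy
        simpa [mul_assoc] using this
    · rintro ⟨t, htK'⟩ ht ht1 x hx
      obtain ⟨y, hy, rfl⟩ := ht
      refine m.cent y hy (fun e => ht1 (Subtype.ext (show m.ι y = 1 from (congrArg m.ι e).trans (map_one m.ι)))) ?_
      exact Subgroup.mem_centralizer_singleton_iff.mpr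
        (congrArg Subtype.val (Subgroup.mem_centralizer_singleton_iff.mp hx))
  · -- otherwise the kernel has index at most two
    exfalso
    push Not at hbig
    obtain ⟨h, hhD, n0, n1, n2, n3⟩ := hbig
    obtain ⟨k, l, hkl⟩ := four_group_closure h.g n0 n1 n2 n3
    have hg := (hrot h).mp hhD
    have h12 : (⟨0, 12⟩ : HM) ∈ D := by
      have := mul_mem (hDn.conj_mem _ hg ⟨0, k⟩) (hDn.conj_mem _ hg ⟨0, l⟩)
      rw [hrot] at this
      rw [← hkl]
      exact this
    have hcos : ∀ x : HM, x ∈ D ∨ (⟨0, 8⟩ : HM) * x ∈ D := fun x => by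
      obtain ⟨v, hv, hx⟩ := two_cosets x.g
      have hvD := hV v hv
      have h2 : (⟨0, rMul v 12⟩ : HM) ∈ D := by
        have := mul_mem hvD h12
        rwa [hrot] at this
      have h3 : (⟨0, rMul v (rMul 12 12)⟩ : HM) ∈ D := by
        have := mul_mem hvD (mul_mem h12 h12)
        rwa [hrot] at this
      rcases hx with (e | e | e) | e | e | e
      iterate 3 exact Or.inl ((hrot x).mpr (by rw [e]; assumption))
      all_goals
        refine Or.inr ((hrot _).mpr ?_)
        show (⟨0, rMul 8 x.g⟩ : HM) ∈ D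
        rw [e]
        assumption
    have hcover : ∀ g : G, g ∈ K ∨ m.ι ⟨0, 8⟩ * g ∈ K := fun g => by
      have : g ∈ m.ι.range ⊔ K := by rw [hHK]; exact Subgroup.mem_top g
      rw [Subgroup.mem_sup_of_normal_right] at this
      obtain ⟨_, ⟨x, rfl⟩, k, hk, rfl⟩ := this
      rcases hcos x with e | e
      · exact Or.inl (mul_mem e hk)
      · right
        rw [← mul_assoc, ← map_mul]
        exact mul_mem e hk
    have hcard : Fintype.card G ≤ 2 * (Finset.univ.filter fun g => g ∈ K).card := by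
      have hs : (Finset.univ : Finset G) ⊆ (Finset.univ.filter fun g => g ∈ K) ∪
          (Finset.univ.filter fun g => g ∈ K).image fun g => (m.ι ⟨0, 8⟩)⁻¹ * g := fun g _ => by
        rw [Finset.mem_union, Finset.mem_filter, Finset.mem_image]
        refine (hcover g).imp (fun e => ⟨Finset.mem_univ _, e⟩) fun e => ?_
        exact ⟨_, Finset.mem_filter.mpr ⟨Finset.mem_univ _, e⟩, inv_mul_cancel_left _ _⟩
      calc Fintype.card G = (Finset.univ : Finset G).card := Finset.card_univ.symm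
        _ ≤ _ := (Finset.card_le_card hs).trans ((Finset.card_union_le _ _).trans
          (by rw [two_mul]; exact add_le_add le_rfl Finset.card_image_le))
    have hnorm := classInner_irr_self χ.2
    have hsum : ∑ g : G, Complex.normSq ((χ : G → ℂ) g) = (Fintype.card G : ℝ) := by
      have e : (Nat.card G : ℂ)⁻¹ * ∑ g : G, (χ : G → ℂ) g * conj ((χ : G → ℂ) g) = 1 := hnorm
      simp only [Complex.mul_conj, ← Complex.ofReal_sum, Nat.card_eq_fintype_card] at e
      rw [inv_mul_eq_one₀ (Nat.cast_ne_zero.mpr Fintype.card_ne_zero)] at e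
      exact_mod_cast e.symm
    have hlow : (4 : ℝ) * (Finset.univ.filter fun g => g ∈ K).card ≤ Fintype.card G := by
      rw [← hsum]
      refine le_trans (le_of_eq ?_) (Finset.sum_le_univ_sum_of_nonneg
        (s := Finset.univ.filter fun g => g ∈ K) fun g => Complex.normSq_nonneg _)
      rw [Finset.sum_congr rfl fun g hg => by
        rw [show (χ : G → ℂ) g = 2 from ((mem_charKernel _ g).mp (Finset.mem_filter.mp hg).2).trans h2],
        Finset.sum_const, nsmul_eq_mul, Complex.normSq_ofNat]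
      ring
    have h4 : 4 * (Finset.univ.filter fun g => g ∈ K).card ≤ Fintype.card G := by exact_mod_cast hlow
    have hpos : 0 < (Finset.univ.filter fun g => g ∈ K).card :=
      Finset.card_pos.mpr ⟨1, Finset.mem_filter.mpr ⟨Finset.mem_univ _, one_mem K⟩⟩
    omega

end CfsgLib.A9Local
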